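import Groth.Agent.Et18.Mod.Stalk
import Groth.Agent.ARLib.Adic
import Mathlib.CategoryTheory.Linear.LinearFunctor
import Mathlib.CategoryTheory.Linear.FunctorCategory

/-!
# Stalks and inverse images are linear; right exact linear functors and adic systems
-/

universe w u

open CategoryTheory CategoryTheory.Limits AlgebraicGeometry Opposite ARSys

set_option backward.isDefEq.respectTransparency.types false
set_option backward.isDefEq.respectTransparency false

attribute [local instance] CategoryTheory.Abelian.hasFiniteBiproducts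

namespace Groth.Agent.Et18.Mod

variable {Λ : Type (u + 1)} [CommRing Λ] {X Y : Scheme.{u}}

instance stalk_linear {Ω : Type u} [Field Ω] [IsSepClosed Ω] (ξ : Spec (CommRingCat.of Ω) ⟶ X) :
    (EtModW.stalk Λ ξ).Linear Λ where
  map_smul {F G} φ a := by
    refine (Scheme.pointSmallEtale ξ).presheafFiber_hom_ext fun V v => ?_
    refine ((Scheme.pointSmallEtale ξ).toPresheafFiber_naturality (a • φ).hom V v).trans ?_
    show (a • φ.hom.app (op V)) ≫ _ = _
    refine (Linear.smul_comp _ _ _ a (φ.hom.app (op V))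
      ((Scheme.pointSmallEtale ξ).toPresheafFiber V v G.obj)).trans ?_
    refine (congrArg (fun t => a • t) ((Scheme.pointSmallEtale ξ).toPresheafFiber_naturality φ.hom V v).symm).trans ?_
    exact (Linear.comp_smul _ _ _ ((Scheme.pointSmallEtale ξ).toPresheafFiber V v F.obj) a
      ((EtModW.stalk Λ ξ).map φ)).symm

instance pull_linear (f : X ⟶ Y) : (EtModW.pull Λ f).Linear Λ where
  map_smul {F G} φ a := by
    refine hom_eq_of_stalks _ _ fun x => ?_
    let e := stalkPullIso Λ f (sepPoint X x)
    refine Eq.trans ?_ ((EtModW.stalk Λ (sepPoint X x)).map_smul a ((EtModW.pull Λ f).map φ)).symm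
    rw [← cancel_mono (e.hom.app G), Linear.smul_comp]
    refine (e.hom.naturality (a • φ)).trans ?_
    refine (congrArg (fun t => e.hom.app F ≫ t)
      ((EtModW.stalk Λ (sepPoint X x ≫ f)).map_smul a φ)).trans ?_
    refine (Linear.comp_smul _ _ _ _ a _).trans ?_
    exact congrArg (fun t => a • t) (e.hom.naturality φ).symm

section General

variable {A : Type w} [CommRing A] {C D : Type*} [Category* C] [Category* D] [Abelian C] [Abelian D]
  [Linear A C] [Linear A D] (F : C ⥤ D) [F.Additive] [F.Linear A]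

lemma killedBy_map {I : Ideal A} {X : C} (h : KilledBy I X) : KilledBy I (F.obj X) := fun a ha => by
  rw [← F.map_id, ← F.map_smul, h a ha, F.map_zero]

lemma termKilled_map {J : Ideal A} {X : PS C} (h : TermKilled J X) : TermKilled J (X ⋙ F) :=
  fun n => killedBy_map F (h n)

omit [F.Additive] [F.Linear A] in
lemma isARIso_map {X Y : PS C} {u : X ⟶ Y} (h : IsARIso u) : IsARIso (Functor.whiskerRight u F) := by
  obtain ⟨r, ⟨v⟩⟩ := ARLib.isARIso_iff.mp h
  refine ARLib.isARIso_of_inv (r := r)
    { inv := fun h => F.map (v.inv h)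
      nat := fun h h' hn hm => ?_
      hom_inv := fun h => ?_
      inv_hom := fun h => ?_ }
  · exact (F.map_comp _ _).symm.trans ((congrArg F.map (v.nat h h' hn hm)).trans (F.map_comp _ _))
  · exact (F.map_comp _ _).symm.trans (congrArg F.map (v.hom_inv h))
  · exact (F.map_comp _ _).symm.trans (congrArg F.map (v.inv_hom h))

variable [PreservesFiniteColimits F]

theorem isQuot_map {I : Ideal A} (hI : I.FG) {X Q : C} {p : X ⟶ Q} (h : IsQuot I p) :
    IsQuot I (F.map p) := by
  obtain ⟨k, g, hg⟩ := Submodule.fg_iff_exists_fin_generating_family.mp hI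
  have hgI : ∀ i, g i ∈ I := fun i => hg ▸ Submodule.subset_span ⟨i, rfl⟩
  haveI := ARLib.isQuot_epi h
  let m : (⨁ fun _ : Fin k => X) ⟶ X := biproduct.desc fun i => g i • 𝟙 X
  have hgen : ∀ {T : C} (φ : X ⟶ T), m ≫ φ = 0 → HomKilledBy I φ := fun φ hφ a ha => by
    have hi : ∀ i, g i • φ = 0 := fun i => by
      simpa [m] using biproduct.ι (fun _ : Fin k => X) i ≫= hφ
    rw [← hg] at ha
    induction ha using Submodule.span_induction with
    | mem x hx => obtain ⟨i, rfl⟩ := hx; exact hi i
    | zero => simp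
    | add x y _ _ hx hy => rw [add_smul, hx, hy, add_zero]
    | smul c x _ hx => rw [smul_eq_mul, mul_smul, hx, smul_zero]
  have hm : m ≫ p = 0 := biproduct.hom_ext' _ _ fun i => by
    simp [m, ARLib.homKilledBy_of_target h.1 p (g i) (hgI i)]
  have hc : IsColimit (CokernelCofork.ofπ p hm) := CokernelCofork.IsColimit.ofπ' p hm fun {T} φ hφ =>
    ⟨ARLib.qdesc h φ (hgen φ hφ), ARLib.qdesc_fac _ _ _⟩
  have hc' := CokernelCofork.mapIsColimit _ hc F
  refine ⟨killedBy_map F h.1, fun T φ hφ => ?_⟩
  have h0 : F.map m ≫ φ = 0 := by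
    have e : m = ∑ i, biproduct.π (fun _ : Fin k => X) i ≫ (g i • 𝟙 X) := by
      refine biproduct.hom_ext' _ _ fun i => ?_
      simp [m, biproduct.ι_π, Preadditive.comp_sum]
    rw [e, F.map_sum, Preadditive.sum_comp]
    refine Finset.sum_eq_zero fun i _ => ?_
    rw [F.map_comp, Category.assoc, F.map_smul, F.map_id, Linear.smul_comp, Category.id_comp, hφ _ (hgI i),
      comp_zero]
  have e : F.map p ≫ hc'.desc (CokernelCofork.ofπ φ h0) = φ := hc'.fac (CokernelCofork.ofπ φ h0) WalkingParallelPair.one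
  exact ⟨hc'.desc (CokernelCofork.ofπ φ h0), e, fun ψ hψ =>
    Cofork.IsColimit.hom_ext hc' (hψ.trans e.symm)⟩

theorem isAdic_map {J : Ideal A} (hJ : J.FG) {X : PS C} (h : IsAdic J X) : IsAdic J (X ⋙ F) :=
  ⟨termKilled_map F h.1, fun n m hnm => isQuot_map F hJ.pow (h.2 n m hnm)⟩

end General

end Groth.Agent.Et18.Mod
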