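import Groth.Agent.Et18.Mod.Strata
import Groth.Agent.Et18.Mod.Linear
import Groth.Agent.ARLib.Stab
import Groth.Agent.Et18.StalkIndep
import Mathlib.CategoryTheory.Limits.ConcreteCategory.Basic

/-!
# Stalks of constructible sheaves and of adic systems of constructible sheaves
-/

universe u

open CategoryTheory CategoryTheory.Limits AlgebraicGeometry Opposite ARSys

set_option backward.isDefEq.respectTransparency.types false
set_option backward.isDefEq.respectTransparency false

namespace Groth.Agent.Et18.Mod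

variable {Λ : Type (u + 1)} [CommRing Λ] {X : Scheme.{u}}

/-- Stalks at two geometric points over the same point are isomorphic. -/
theorem nonempty_stalkFun_iso {Ω Ω' : Type u} [Field Ω] [IsSepClosed Ω] [Field Ω'] [IsSepClosed Ω']
    (ξ : Spec (CommRingCat.of Ω) ⟶ X) (ξ' : Spec (CommRingCat.of Ω') ⟶ X)
    (h : ξ default = ξ' default) :
    Nonempty (EtModW.stalk Λ ξ ≅ EtModW.stalk Λ ξ') := by
  generalize hx : ξ default = x at h
  obtain ⟨σ, rfl⟩ := exists_fac_sepPoint ξ x hx
  obtain ⟨σ', rfl⟩ := exists_fac_sepPoint ξ' x h.symm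
  exact ⟨sheafFiberIsoOfIso (extendPointIso σ _) ≪≫ (sheafFiberIsoOfIso (extendPointIso σ' _)).symm⟩

theorem finite_stalk_of_stratified {F : EtModW.Mod Λ X} {S : Set X} (h : Stratified F S)
    {Ω : Type u} [Field Ω] [IsSepClosed Ω] (ξ : Spec (CommRingCat.of Ω) ⟶ X) (hx : ξ default ∈ S) :
    Module.Finite Λ ((EtModW.stalk Λ ξ).obj F) := by
  obtain ⟨ι, hι, T, g, hg, hc, hd, rfl, hF⟩ := h
  obtain ⟨i, t, ht⟩ := Set.mem_iUnion.mp hx
  obtain ⟨e⟩ := nonempty_stalkFun_iso (Λ := Λ) (sepPoint (T i) t ≫ g i) ξ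
    ((congrArg (g i) (sepPoint_default _ t)).trans ht)
  haveI : Module.Finite Λ ((EtModW.pull Λ (g i) ⋙ EtModW.stalk Λ (sepPoint (T i) t)).obj F) :=
    finite_stalk (hF i) (sepPoint (T i) t)
  exact Module.Finite.equiv ((stalkPullIso Λ (g i) _).app F ≪≫ e.app F).toLinearEquiv

theorem finite_stalk_of_isConstructible {F : EtModW.Mod Λ X} (h : EtModW.IsConstructible Λ F)
    {Ω : Type u} [Field Ω] [IsSepClosed Ω] (ξ : Spec (CommRingCat.of Ω) ⟶ X) :
    Module.Finite Λ ((EtModW.stalk Λ ξ).obj F) := by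
  obtain ⟨_, ⟨U', hU', rfl⟩, hxU, -⟩ := X.isBasis_affineOpens.exists_subset_of_mem_open
    (Set.mem_univ (ξ default)) isOpen_univ
  let U : X.Opens := U'
  have hU : IsAffineOpen U := hU'
  let η := sepPoint U.toScheme ⟨ξ default, hxU⟩
  obtain ⟨e⟩ := nonempty_stalkFun_iso (Λ := Λ) (η ≫ U.ι) ξ
    (congrArg U.ι (sepPoint_default U.toScheme ⟨ξ default, hxU⟩))
  haveI : Module.Finite Λ ((EtModW.pull Λ U.ι ⋙ EtModW.stalk Λ η).obj F) :=
    finite_stalk_of_stratified ((isConstructible_iff_affine F).mp h U hU) η (Set.mem_univ _)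
  exact Module.Finite.equiv ((stalkPullIso Λ U.ι η).app F ≪≫ e.app F).toLinearEquiv

/-- An adic system of modules with vanishing limit is zero. -/
theorem isZero_obj_of_isAdic_of_isZero_limit {I : Ideal Λ} {Y : PS (ModuleCat.{u + 1} Λ)} (hY : IsAdic I Y)
    (h : IsZero (limit Y)) (n : ℕ) : IsZero (Y.obj (op n)) := by
  have h0 : Function.Surjective (limit.π Y (op 0)) :=
    Concrete.surjective_π_app_zero_of_surjective_map (limit.isLimit Y) fun k => by
      haveI := ARLib.isQuot_epi (hY.2 k (k + 1) k.le_succ)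
      exact (ModuleCat.epi_iff_surjective (tr Y k.le_succ)).1 inferInstance
  haveI := ModuleCat.subsingleton_of_isZero h
  have hs : Subsingleton (Y.obj (op 0)) := h0.subsingleton
  have hz := ModuleCat.isZero_of_subsingleton (Y.obj (op 0))
  have hk : ∀ (k : ℕ) (T : ModuleCat.{u + 1} Λ) (φ : Y.obj (op n) ⟶ T),
      HomKilledBy (I ^ k) φ → φ = 0 := by
    intro k
    induction k with
    | zero => exact fun T φ hφ => by simpa using hφ 1 (by simp)
    | succ k ih =>
      intro T φ hφ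
      have : ∀ b ∈ I ^ k, b • φ = 0 := fun b hb => by
        have hb' : HomKilledBy (I ^ (0 + 1)) (b • φ) := fun a ha => by
          rw [smul_smul]
          refine hφ _ ?_
          rw [zero_add, pow_one] at ha
          rw [pow_succ']
          exact Ideal.mul_mem_mul ha hb
        refine (ARLib.qdesc_fac (hY.2 0 n n.zero_le) _ hb').symm.trans ?_
        exact (congrArg (fun t => t ≫ _) (hz.eq_of_tgt (tr Y n.zero_le) 0)).trans zero_comp
      exact ih T φ this
  exact (IsZero.iff_id_eq_zero _).mpr (hk (n + 1) _ (𝟙 _) (hY.1 n))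

theorem isARNull_iff_limit_stalks {I : Ideal Λ} (F : PS (EtModW.Mod Λ X)) [IsNoetherianRing Λ]
    (hF : ∃ (Y : PS (EtModW.Mod Λ X)) (v : Y ⟶ F), IsAdic I Y ∧ IsARIso v) :
    IsARNull F ↔ ∀ (Ω : Type u) [Field Ω] [IsSepClosed Ω] (x : Spec (CommRingCat.of Ω) ⟶ X),
      IsZero (limit (F ⋙ EtModW.stalk Λ x)) := by
  constructor
  · rintro ⟨r, hr⟩ Ω _ _ x
    refine (IsZero.iff_id_eq_zero _).mpr (limit.hom_ext fun ⟨n⟩ => ?_)
    rw [Category.id_comp, zero_comp]
    have e : (F ⋙ EtModW.stalk Λ x).map (homOfLE (Nat.le_add_right n r)).op = 0 :=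
      (congrArg (EtModW.stalk Λ x).map (hr n)).trans (Functor.map_zero _ _ _)
    rw [← limit.w (F ⋙ EtModW.stalk Λ x) (homOfLE (Nat.le_add_right n r)).op, e, comp_zero]
  · intro h
    obtain ⟨Y, v, hY, hv⟩ := hF
    have hz : ∀ n, IsZero (Y.obj (op n)) := fun n => isZero_of_stalks fun x => by
      haveI := ARLib.isIso_limMap (isARIso_map (EtModW.stalk Λ (sepPoint X x)) hv)
      exact isZero_obj_of_isAdic_of_isZero_limit
        (isAdic_map (EtModW.stalk Λ (sepPoint X x)) (IsNoetherian.noetherian I) hY)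
        ((h _ (sepPoint X x)).of_iso
          (asIso (limMap (Functor.whiskerRight v (EtModW.stalk Λ (sepPoint X x)))))) n
    obtain ⟨r, ⟨w⟩⟩ := ARLib.isARIso_iff.mp hv
    exact ⟨r, fun n => (w.inv_hom (le_refl (n + r))).symm.trans
      (by rw [(hz n).eq_of_src (v.app (op n)) 0, comp_zero])⟩

end Groth.Agent.Et18.Mod
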