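import Groth.Agent.Et18.Mod.Stalk
import Groth.Agent.Et18.Restr
import Groth.Agent.Et18.JCont
import Groth.Prelude.Def_SixF2

/-!
# Restriction of sheaves of modules along an étale morphism is inverse image
-/

universe u

open CategoryTheory CategoryTheory.Limits AlgebraicGeometry Opposite

set_option backward.isDefEq.respectTransparency.types false
set_option backward.isDefEq.respectTransparency false

namespace Groth.Agent.Et18.Mod

variable (Λ : Type (u + 1)) [CommRing Λ] {U X : Scheme.{u}} (j : U ⟶ X) [Etale j] [EtShriek.JCont j]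

/-- Restriction is left adjoint to direct image. -/
noncomputable def restrPushAdj : EtSix.restrMod Λ j ⊣ EtModW.push Λ j :=
  (compBcAdj j).sheafPushforwardContinuous U.smallEtaleTopology X.smallEtaleTopology

/-- Inverse image along an étale morphism is restriction. -/
noncomputable def pullRestrIso : EtModW.pull Λ j ≅ EtSix.restrMod Λ j :=
  ((EtCoh.bc j).sheafAdjunctionContinuous (ModuleCat.{u + 1} Λ) X.smallEtaleTopology
    U.smallEtaleTopology).leftAdjointUniq (restrPushAdj Λ j)

/-- Stalks of restrictions. -/
noncomputable def stalkRestrIso {Ω : Type u} [Field Ω] [IsSepClosed Ω]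
    (ξ : Spec (CommRingCat.of Ω) ⟶ U) :
    EtSix.restrMod Λ j ⋙ EtModW.stalk Λ ξ ≅ EtModW.stalk Λ (ξ ≫ j) :=
  Functor.isoWhiskerRight (pullRestrIso Λ j).symm _ ≪≫ stalkPullIso Λ j ξ

instance restrMod_preservesFiniteLimits : PreservesFiniteLimits (EtSix.restrMod Λ j) :=
  preservesFiniteLimits_of_natIso (pullRestrIso Λ j)

instance restrMod_preservesFiniteColimits : PreservesFiniteColimits (EtSix.restrMod Λ j) :=
  have : PreservesColimitsOfSize.{0, 0} (EtSix.restrMod Λ j) :=
    (restrPushAdj Λ j).leftAdjoint_preservesColimits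
  PreservesColimitsOfSize.preservesFiniteColimits _

end Groth.Agent.Et18.Mod
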