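import Groth.Agent.Et18.ExtZero
import Groth.Agent.Et18.Mod.Restr
import Mathlib.Algebra.Category.ModuleCat.AB

/-!
# Stalks of extensions by zero of sheaves of modules along étale morphisms
-/

universe u

open CategoryTheory CategoryTheory.Limits AlgebraicGeometry Opposite

set_option backward.isDefEq.respectTransparency.types false
set_option backward.isDefEq.respectTransparency false

namespace Groth.Agent.Et18.Mod

open Et18 (PointLift fiberIncl liftUnder fiberOut map_fiberIncl fiberIncl_fiberOut sky_map_π compBcAdj)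

variable {Λ : Type (u + 1)} [CommRing Λ] {U X : Scheme.{u}} {j : U ⟶ X} [Etale j]
  {Ω : Type u} [Field Ω] [IsSepClosed Ω] {ξ : Spec (CommRingCat.of Ω) ⟶ X}

attribute [local instance 10000] hasLimitsOfSize_moduleCat hasColimitsOfSize_moduleCat

instance (priority := 10000) hasProducts_moduleCat : HasProducts.{u} (ModuleCat.{u + 1} Λ) :=
  fun _ => inferInstance

variable [EtShriek.JCont j] {F G : EtModW.Mod Λ U} {M N : (ModuleCat.{u + 1} Λ)}

variable (j ξ) in
/-- Restriction of a skyscraper sheaf. -/
noncomputable abbrev restrSky : (ModuleCat.{u + 1} Λ) ⥤ EtModW.Mod Λ U :=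
  (Scheme.pointSmallEtale ξ).skyscraperSheafFunctor ⋙ EtSix.restrMod Λ j

/-- The component at a lift of a morphism to a restricted skyscraper sheaf. -/
noncomputable def component (g : F ⟶ (restrSky j ξ).obj M) (u : PointLift j ξ) :
    (EtModW.stalk Λ u.1).obj F ⟶ M :=
  (Scheme.pointSmallEtale u.1).presheafFiberDesc
    (fun V w => g.hom.app (op V) ≫
      Pi.π (fun _ : (Scheme.pointSmallEtale ξ).fiber.obj ((EtShriek.compEtale j).obj V) => M)
        (fiberIncl u w))
    (fun V V' f w => by
      rw [← Category.assoc]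
      change (F.obj.map f.op ≫ g.hom.app (op V)) ≫ _ = _
      rw [g.hom.naturality, Category.assoc]
      congr 1
      refine (sky_map_π M _ _ _).trans ?_
      rw [map_fiberIncl]
      rfl)

@[reassoc]
lemma germ_component (g : F ⟶ (restrSky j ξ).obj M) (u : PointLift j ξ) (V : U.Etale)
    (w : (Scheme.pointSmallEtale u.1).fiber.obj V) :
    (Scheme.pointSmallEtale u.1).toPresheafFiber V w F.obj ≫ component g u = g.hom.app (op V) ≫
      Pi.π (fun _ : (Scheme.pointSmallEtale ξ).fiber.obj ((EtShriek.compEtale j).obj V) => M)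
        (fiberIncl u w) :=
  GrothendieckTopology.Point.toPresheafFiber_presheafFiberDesc _ _ _ _ _

lemma component_map (g : F ⟶ (restrSky j ξ).obj M) (k : M ⟶ N) (u : PointLift j ξ) :
    component (g ≫ (restrSky j ξ).map k) u = component g u ≫ k := by
  refine (Scheme.pointSmallEtale u.1).presheafFiber_hom_ext fun V w => ?_
  refine (germ_component _ u V w).trans ?_
  refine Eq.trans ?_ (germ_component_assoc g u V w k).symm
  refine (Category.assoc _ _ _).trans ?_
  congr 1
  exact Pi.map_π (fun _ : (Scheme.pointSmallEtale ξ).fiber.obj ((EtShriek.compEtale j).obj V) => k)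
    (fiberIncl u w)

lemma component_comp (a : F ⟶ G) (g : G ⟶ (restrSky j ξ).obj M) (u : PointLift j ξ) :
    component (a ≫ g) u = (EtModW.stalk Λ u.1).map a ≫ component g u := by
  refine (Scheme.pointSmallEtale u.1).presheafFiber_hom_ext fun V w => ?_
  refine (germ_component _ u V w).trans ?_
  refine Eq.trans ?_
    ((Scheme.pointSmallEtale u.1).toPresheafFiber_naturality_assoc a.hom V w (component g u)).symm
  rw [germ_component]
  exact Category.assoc _ _ _

lemma component_injective {g g' : F ⟶ (restrSky j ξ).obj M}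
    (h : ∀ u, component g u = component g' u) : g = g' := by
  ext V : 3
  refine Pi.hom_ext _ _ fun x => ?_
  have := congrArg (fun k => (Scheme.pointSmallEtale (liftUnder x).1).toPresheafFiber V.unop
    (fiberOut x) F.obj ≫ k) (h (liftUnder x))
  simp only [germ_component, fiberIncl_fiberOut] at this
  exact this

lemma germ_congr (ψ : ∀ u : PointLift j ξ, (EtModW.stalk Λ u.1).obj F ⟶ M) {V : U.Etale}
    {u u' : PointLift j ξ} (h : u = u') (a : (Scheme.pointSmallEtale u.1).fiber.obj V)
    (b : (Scheme.pointSmallEtale u'.1).fiber.obj V) (hab : a.left = b.left) :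
    (Scheme.pointSmallEtale u.1).toPresheafFiber V a F.obj ≫ ψ u =
      (Scheme.pointSmallEtale u'.1).toPresheafFiber V b F.obj ≫ ψ u' := by
  subst h
  rw [Over.OverMorphism.ext hab]

/-- A morphism to a restricted skyscraper sheaf from its components. -/
noncomputable def ofComponents (ψ : ∀ u : PointLift j ξ, (EtModW.stalk Λ u.1).obj F ⟶ M) :
    F ⟶ (restrSky j ξ).obj M :=
  ⟨{ app V := Pi.lift fun x =>
        (Scheme.pointSmallEtale (liftUnder x).1).toPresheafFiber V.unop (fiberOut x) F.obj ≫
          ψ (liftUnder x)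
     naturality {V W} f := by
      refine Pi.hom_ext _ _ fun x => ?_
      simp only [Category.assoc, Pi.lift_π]
      refine Eq.trans ?_ (congrArg (fun t => Pi.lift _ ≫ t)
        (sky_map_π M (Scheme.pointSmallEtale ξ) ((EtShriek.compEtale j).map f.unop) x).symm)
      refine Eq.trans ?_ (Pi.lift_π (fun x => (Scheme.pointSmallEtale (liftUnder x).1).toPresheafFiber
        V.unop (fiberOut x) F.obj ≫ ψ (liftUnder x)) _).symm
      rw [← Category.assoc]
      refine (congrArg (fun t => t ≫ _) ((Scheme.pointSmallEtale _).toPresheafFiber_w f.unop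
        (fiberOut x) F.obj)).trans (germ_congr ψ ?_ _ _ rfl)
      apply Subtype.ext
      change _ = ((x.left : Spec (CommRingCat.of Ω) ⟶ _) ≫ f.unop.left) ≫ _
      rw [Category.assoc]
      exact congrArg (fun t => (x.left : Spec (CommRingCat.of Ω) ⟶ _) ≫ t)
        (MorphismProperty.Over.w f.unop).symm }⟩

lemma component_ofComponents (ψ : ∀ u : PointLift j ξ, (EtModW.stalk Λ u.1).obj F ⟶ M)
    (u : PointLift j ξ) : component (ofComponents ψ) u = ψ u := by
  refine (Scheme.pointSmallEtale u.1).presheafFiber_hom_ext fun V w => ?_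
  refine (germ_component _ u V w).trans ?_
  change Pi.lift (fun x : (Scheme.pointSmallEtale ξ).fiber.obj ((EtShriek.compEtale j).obj V) =>
        (Scheme.pointSmallEtale (liftUnder x).1).toPresheafFiber V (fiberOut x) F.obj ≫
          ψ (liftUnder x)) ≫ _ = _
  rw [Pi.lift_π]
  exact germ_congr ψ (Subtype.ext (Over.w w)) _ _ rfl

variable (j ξ)

/-- `stalk ξ ∘ j_! ⊣` restriction of skyscrapers. -/
noncomputable def extZeroStalkAdj : EtSix.extZeroMod Λ j ⋙ EtModW.stalk Λ ξ ⊣ restrSky j ξ :=
  (EtSix.extZeroModAdj Λ j).comp (Scheme.pointSmallEtale ξ).skyscraperSheafAdjunction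

/-- The inclusion of the stalk at a lift. -/
noncomputable def extZeroInj (F : EtModW.Mod Λ U) (u : PointLift j ξ) :
    (EtModW.stalk Λ u.1).obj F ⟶ (EtModW.stalk Λ ξ).obj ((EtSix.extZeroMod Λ j).obj F) :=
  component ((extZeroStalkAdj j ξ).unit.app F) u

lemma extZeroInj_comp {F : EtModW.Mod Λ U} {M : (ModuleCat.{u + 1} Λ)} (u : PointLift j ξ)
    (k : (EtModW.stalk Λ ξ).obj ((EtSix.extZeroMod Λ j).obj F) ⟶ M) :
    extZeroInj j ξ F u ≫ k = component ((extZeroStalkAdj j ξ).homEquiv F M k) u := by
  rw [Adjunction.homEquiv_unit, component_map]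
  rfl

lemma extZeroInj_naturality {F G : EtModW.Mod Λ U} (a : F ⟶ G) (u : PointLift j ξ) :
    (EtModW.stalk Λ u.1).map a ≫ extZeroInj j ξ G u =
      extZeroInj j ξ F u ≫ (EtModW.stalk Λ ξ).map ((EtSix.extZeroMod Λ j).map a) := by
  rw [extZeroInj, extZeroInj, ← component_comp, ← component_map]
  exact congrArg (component · u) ((extZeroStalkAdj j ξ).unit.naturality a)

/-- The stalk of `j_! F` is the sum of the stalks of `F` at the lifts. -/
noncomputable def extZeroIsColimit (F : EtModW.Mod Λ U) :
    IsColimit (Cofan.mk _ (extZeroInj j ξ F)) :=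
  mkCofanColimit _
    (fun s => ((extZeroStalkAdj j ξ).homEquiv F s.pt).symm (ofComponents s.inj))
    (fun s u => by
      refine (extZeroInj_comp j ξ u _).trans ?_
      rw [Equiv.apply_symm_apply]
      exact component_ofComponents s.inj u)
    (fun s m hm => by
      apply ((extZeroStalkAdj j ξ).homEquiv F s.pt).injective
      rw [Equiv.apply_symm_apply]
      refine component_injective fun u => ?_
      rw [component_ofComponents, ← extZeroInj_comp]
      exact hm u)

/-- The stalk of `j_! F`. -/
noncomputable def extZeroStalkIso (F : EtModW.Mod Λ U) :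
    (EtModW.stalk Λ ξ).obj ((EtSix.extZeroMod Λ j).obj F) ≅
      ∐ fun u : PointLift j ξ => (EtModW.stalk Λ u.1).obj F :=
  (extZeroIsColimit j ξ F).coconePointUniqueUpToIso (coproductIsCoproduct _)

/-- The family of stalks at the lifts. -/
noncomputable def liftStalks : EtModW.Mod Λ U ⥤ (Discrete (PointLift j ξ) ⥤ (ModuleCat.{u + 1} Λ)) where
  obj F := Discrete.functor fun u => (EtModW.stalk Λ u.1).obj F
  map a := Discrete.natTrans fun u => (EtModW.stalk Λ u.as.1).map a

/-- The stalk of `j_!` as a functor. -/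
noncomputable def extZeroStalkNatIso :
    liftStalks j ξ ⋙ colim ≅ EtSix.extZeroMod Λ j ⋙ EtModW.stalk Λ ξ :=
  NatIso.ofComponents
    (fun F => (colimit.isColimit _).coconePointUniqueUpToIso (extZeroIsColimit j ξ F))
    (fun {F G} a => colimit.hom_ext fun u => by
      simp only [Functor.comp_map, colim_map, ι_colimMap_assoc]
      refine (congrArg (fun t => _ ≫ t)
        ((colimit.isColimit _).comp_coconePointUniqueUpToIso_hom (extZeroIsColimit j ξ G) u)).trans ?_
      refine (extZeroInj_naturality j ξ a u.as).trans ?_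
      refine Eq.trans ?_ (Category.assoc _ _ _)
      exact congrArg (fun t => t ≫ _)
        ((colimit.isColimit _).comp_coconePointUniqueUpToIso_hom (extZeroIsColimit j ξ F) u).symm)

instance hasExactColimitsOfShape_discrete (ι : Type u) :
    HasExactColimitsOfShape (Discrete ι) (ModuleCat.{u + 1} Λ) :=
  have : HasExactColimitsOfShape (Discrete (ULift.{u + 1} ι)) (ModuleCat.{u + 1} Λ) :=
    AB4OfSize.ofShape _
  HasExactColimitsOfShape.of_domain_equivalence _ (Discrete.equivalence Equiv.ulift)

instance extZero_stalk_preservesFiniteLimits :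
    PreservesFiniteLimits (EtSix.extZeroMod Λ j ⋙ EtModW.stalk Λ ξ) := by
  have : PreservesFiniteLimits (liftStalks j ξ) :=
    preservesFiniteLimits_of_evaluation _ fun u =>
      preservesFiniteLimits_of_natIso (Iso.refl (EtModW.stalk Λ u.as.1))
  exact preservesFiniteLimits_of_natIso (extZeroStalkNatIso j ξ)

/-- A functor to sheaves is left exact if its composites with all stalks are. -/
lemma preservesFiniteLimits_of_stalks {C : Type*} [Category* C] (G : C ⥤ EtModW.Mod Λ X)
    (h : ∀ x : X, PreservesFiniteLimits (G ⋙ EtModW.stalk Λ (sepPoint X x))) :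
    PreservesFiniteLimits G := by
  refine ⟨fun Sh _ _ => ⟨fun {K} => ⟨fun {c} hc => ⟨?_⟩⟩⟩⟩
  let d := limit.isLimit (K ⋙ G)
  let φ := d.lift (G.mapCone c)
  suffices IsIso φ from d.ofIsoLimit (Cone.ext (asIso φ) (fun j => (d.fac _ j).symm)).symm
  refine isIso_of_stalks φ fun x => ?_
  let ξ := sepPoint X x
  have := h x
  have hc' : IsLimit ((EtModW.stalk Λ ξ).mapCone (G.mapCone c)) :=
    isLimitOfPreserves (G ⋙ EtModW.stalk Λ ξ) hc
  have hd' := isLimitOfPreserves (EtModW.stalk Λ ξ) d
  have : (EtModW.stalk Λ ξ).map φ = (hc'.conePointUniqueUpToIso hd').hom := by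
    refine hd'.hom_ext fun j => ?_
    rw [IsLimit.conePointUniqueUpToIso_hom_comp, Functor.mapCone_π_app, ← Functor.map_comp, d.fac]
    rfl
  rw [this]
  infer_instance

instance extZero_preservesFiniteLimits : PreservesFiniteLimits (EtSix.extZeroMod Λ j) :=
  preservesFiniteLimits_of_stalks (EtSix.extZeroMod Λ j) fun x =>
    extZero_stalk_preservesFiniteLimits j (sepPoint X x)

/-- The counit on stalks, restricted to the lift `u`. -/
noncomputable def restrStalkMap (u : PointLift j ξ) (H : EtModW.Mod Λ X) :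
    (EtModW.stalk Λ u.1).obj ((EtSix.restrMod Λ j).obj H) ⟶ (EtModW.stalk Λ ξ).obj H :=
  extZeroInj j ξ _ u ≫ (EtModW.stalk Λ ξ).map ((EtSix.extZeroModAdj Λ j).counit.app H)

lemma germ_restrStalkMap (u : PointLift j ξ) (H : EtModW.Mod Λ X) (V : U.Etale)
    (w : (Scheme.pointSmallEtale u.1).fiber.obj V) :
    (Scheme.pointSmallEtale u.1).toPresheafFiber V w ((EtSix.restrMod Λ j).obj H).obj ≫
        restrStalkMap j ξ u H =
      (Scheme.pointSmallEtale ξ).toPresheafFiber ((EtShriek.compEtale j).obj V) (fiberIncl u w)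
        H.obj := by
  have e : (extZeroStalkAdj j ξ).homEquiv ((EtSix.restrMod Λ j).obj H) ((EtModW.stalk Λ ξ).obj H)
      ((EtModW.stalk Λ ξ).map ((EtSix.extZeroModAdj Λ j).counit.app H)) =
      (EtSix.restrMod Λ j).map
        ((Scheme.pointSmallEtale ξ).skyscraperSheafAdjunction.unit.app H) := by
    let adj := EtSix.extZeroModAdj Λ j
    let sk := (Scheme.pointSmallEtale ξ).skyscraperSheafAdjunction (A := (ModuleCat.{u + 1} Λ))
    let G' := (EtSix.restrMod Λ j).obj H
    have hn : adj.counit.app H ≫ sk.unit.app H = sk.unit.app _ ≫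
        (Scheme.pointSmallEtale ξ).skyscraperSheafFunctor.map
          ((EtModW.stalk Λ ξ).map (adj.counit.app H)) :=
      sk.unit.naturality (adj.counit.app H)
    have hu : (extZeroStalkAdj j ξ).unit.app G' = adj.unit.app G' ≫
        (EtSix.restrMod Λ j).map (sk.unit.app ((EtSix.extZeroMod Λ j).obj G')) :=
      Adjunction.comp_unit_app _ _ _
    rw [Adjunction.homEquiv_unit]
    refine (congrArg (fun t => t ≫ _) hu).trans ?_
    refine (Category.assoc _ _ _).trans ?_
    refine (congrArg (fun t => adj.unit.app G' ≫ t)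
      ((Functor.map_comp (EtSix.restrMod Λ j) _ _).symm.trans
        (congrArg (EtSix.restrMod Λ j).map hn.symm))).trans ?_
    rw [Functor.map_comp, ← Category.assoc, adj.right_triangle_components]
    exact Category.id_comp _
  rw [restrStalkMap, extZeroInj_comp, e]
  refine (germ_component _ u V w).trans ?_
  exact ((Scheme.pointSmallEtale ξ).skyscraperPresheafHomEquiv_app_π
    (𝟙 ((EtModW.stalk Λ ξ).obj H)) _ _).trans (Category.comp_id _)

/-- The counit at a lift is bijective on stalks. -/
theorem restrStalkMap_bijective (u : PointLift j ξ) (H : EtModW.Mod Λ X) :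
    Function.Bijective (restrStalkMap j ξ u H) := by
  have key : ∀ (V : U.Etale) (w : (Scheme.pointSmallEtale u.1).fiber.obj V)
      (s : ((EtSix.restrMod Λ j).obj H).obj.obj (op V)),
      restrStalkMap j ξ u H
        ((Scheme.pointSmallEtale u.1).toPresheafFiber V w ((EtSix.restrMod Λ j).obj H).obj s) =
      (Scheme.pointSmallEtale ξ).toPresheafFiber ((EtShriek.compEtale j).obj V) (fiberIncl u w)
        H.obj s := fun V w s => congrArg (fun t => t s) (germ_restrStalkMap j ξ u H V w)
  constructor
  · intro p q hpq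
    obtain ⟨V, w, s, t, rfl, rfl⟩ :=
      (Scheme.pointSmallEtale u.1).toPresheafFiber_jointly_surjective₂ p q
    replace hpq := (key V w s).symm.trans (hpq.trans (key V w t))
    rw [(Scheme.pointSmallEtale ξ).toPresheafFiber_eq_iff'] at hpq
    obtain ⟨W, g, y, hy, hst⟩ := hpq
    rw [(Scheme.pointSmallEtale u.1).toPresheafFiber_eq_iff']
    let g₀ : (EtShriek.compEtaleLift j g).1 ⟶ V := MorphismProperty.Over.homMk g.left rfl
    have hy' : (y.left : Spec (CommRingCat.of Ω) ⟶ W.left) ≫ g.left = w.left :=
      congrArg CommaMorphism.left hy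
    have hw : (w.left : Spec (CommRingCat.of Ω) ⟶ V.left) ≫ V.hom = u.1 := Over.w w
    refine ⟨_, g₀, Over.homMk y.left ?_, Over.OverMorphism.ext hy', ?_⟩
    · refine (Category.assoc _ _ _).symm.trans ?_
      exact (congrArg (fun t => t ≫ V.hom) hy').trans hw
    · change H.obj.map ((EtShriek.compEtale j).map g₀).op s =
        H.obj.map ((EtShriek.compEtale j).map g₀).op t
      have hg : (EtShriek.compEtale j).map g₀ = (EtShriek.compEtaleLift j g).2.hom ≫ g :=
        (Scheme.Etale.forget X).map_injective (Over.OverMorphism.ext (Category.id_comp _).symm)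
      rw [hg, op_comp, Functor.map_comp, ConcreteCategory.comp_apply, ConcreteCategory.comp_apply,
        hst]
  · intro p
    obtain ⟨W, x, s, rfl⟩ := (Scheme.pointSmallEtale ξ).toPresheafFiber_jointly_surjective p
    let h := (compBcAdj j).counit.app W
    let w : (Scheme.pointSmallEtale u.1).fiber.obj ((EtCoh.bc j).obj W) :=
      Over.homMk (pullback.lift x.left u.1 ((Over.w x).trans u.2.symm)) (pullback.lift_snd _ _ _)
    refine ⟨(Scheme.pointSmallEtale u.1).toPresheafFiber _ w
      ((EtSix.restrMod Λ j).obj H).obj (H.obj.map h.op s), ?_⟩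
    refine (key _ w _).trans ?_
    refine ((Scheme.pointSmallEtale ξ).toPresheafFiber_w_apply h (fiberIncl u w) H.obj s).trans ?_
    have e : (Scheme.pointSmallEtale ξ).fiber.map h (fiberIncl u w) = x :=
      Over.OverMorphism.ext (pullback.lift_fst _ _ _)
    rw [e]
    rfl

/-- If `j` is surjective, `j_! j^* ⟶ 𝟭` is epi. -/
theorem epi_extZero_counit [Surjective j] (H : EtModW.Mod Λ X) :
    Epi ((EtSix.extZeroModAdj Λ j).counit.app H) := by
  refine epi_of_stalks _ fun x => ?_
  obtain ⟨y, hy⟩ := j.surjective (sepPoint X x default)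
  obtain ⟨v, hv, -⟩ := Scheme.exists_fac_of_etale_of_isSepClosed j (sepPoint X x) y hy
  intro p
  obtain ⟨q, rfl⟩ := (restrStalkMap_bijective j (sepPoint X x) ⟨v, hv⟩ H).2 p
  exact ⟨extZeroInj j (sepPoint X x) _ ⟨v, hv⟩ q, rfl⟩

end Groth.Agent.Et18.Mod
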