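import Groth.Agent.Et18.Mod.Stalk
import Groth.Agent.Et18.ConstNhd

/-!
# Constant sheaves of modules near a geometric point

Stalks of constant sheaves of modules, spreading out of equalities of morphisms out of a finite constant
sheaf, and spreading out of finitely presented stalks to morphisms from constant sheaves.
-/

universe u

open CategoryTheory CategoryTheory.Limits AlgebraicGeometry Opposite

set_option backward.isDefEq.respectTransparency.types false
set_option backward.isDefEq.respectTransparency false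

namespace Groth.Agent.Et18.Mod

variable {Λ : Type (u + 1)} [CommRing Λ] {X : Scheme.{u}}

variable (Λ) in
/-- The constant sheaf functor of the small étale site. -/
noncomputable abbrev cst (X : Scheme.{u}) : ModuleCat.{u + 1} Λ ⥤ EtModW.Mod Λ X :=
  constantSheaf X.smallEtaleTopology (ModuleCat.{u + 1} Λ)

instance cst_preservesFiniteLimits (X : Scheme.{u}) : PreservesFiniteLimits (cst Λ X) := by
  delta cst constantSheaf
  exact comp_preservesFiniteLimits _ _

instance cst_preservesColimits (X : Scheme.{u}) : PreservesColimitsOfSize.{0, 0} (cst Λ X) :=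
  (constantSheafAdj X.smallEtaleTopology (ModuleCat.{u + 1} Λ)
    (EtCore.topIsTerminal X)).leftAdjoint_preservesColimits

instance cst_preservesFiniteColimits (X : Scheme.{u}) : PreservesFiniteColimits (cst Λ X) :=
  PreservesColimitsOfSize.preservesFiniteColimits _

instance cst_additive (X : Scheme.{u}) : (cst Λ X).Additive :=
  Functor.additive_of_preserves_binary_products _

/-- The constant sections. -/
noncomputable def cstSec (A : ModuleCat.{u + 1} Λ) (W : X.Etale) :
    A ⟶ ((cst Λ X).obj A).obj.obj (op W) :=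
  (toSheafify X.smallEtaleTopology ((Functor.const X.Etaleᵒᵖ).obj A)).app (op W)

@[reassoc]
lemma cstSec_res (A : ModuleCat.{u + 1} Λ) {W W' : X.Etale} (g : W' ⟶ W) :
    cstSec A W ≫ ((cst Λ X).obj A).obj.map g.op = cstSec A W' :=
  ((toSheafify X.smallEtaleTopology ((Functor.const X.Etaleᵒᵖ).obj A)).naturality g.op).symm.trans
    (Category.id_comp _)

@[reassoc]
lemma cstSec_map {A B : ModuleCat.{u + 1} Λ} (h : A ⟶ B) (W : X.Etale) :
    cstSec A W ≫ ((cst Λ X).map h).hom.app (op W) = h ≫ cstSec B W :=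
  (congrArg (fun t => t.app (op W))
    (toSheafify_naturality X.smallEtaleTopology ((Functor.const X.Etaleᵒᵖ).map h))).symm

section Germ

variable {Ω : Type u} [Field Ω] [IsSepClosed Ω] (ξ : Spec (CommRingCat.of Ω) ⟶ X)

/-- The germ of the constant sections. -/
noncomputable def cstGerm (A : ModuleCat.{u + 1} Λ) : A ⟶ (EtModW.stalk Λ ξ).obj ((cst Λ X).obj A) :=
  cstSec A (EtCoh.top X) ≫
    (Scheme.pointSmallEtale ξ).toPresheafFiber (EtCoh.top X) (topPt ξ) ((cst Λ X).obj A).obj

@[reassoc]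
lemma cstSec_germ (A : ModuleCat.{u + 1} Λ) (W : X.Etale)
    (w : (Scheme.pointSmallEtale ξ).fiber.obj W) :
    cstSec A W ≫ (Scheme.pointSmallEtale ξ).toPresheafFiber W w ((cst Λ X).obj A).obj =
      cstGerm ξ A := by
  let g : W ⟶ EtCoh.top X := (EtCore.topIsTerminal X).from W
  rw [cstGerm, ← cstSec_res A g, Category.assoc, GrothendieckTopology.Point.toPresheafFiber_w,
    fiber_top_eq ξ ((Scheme.pointSmallEtale ξ).fiber.map g w) (topPt ξ)]

@[reassoc]
lemma cstGerm_naturality {A B : ModuleCat.{u + 1} Λ} (h : A ⟶ B) :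
    cstGerm ξ A ≫ (EtModW.stalk Λ ξ).map ((cst Λ X).map h) = h ≫ cstGerm ξ B := by
  refine (Category.assoc _ _ _).trans ?_
  refine (congrArg (fun t => cstSec A (EtCoh.top X) ≫ t)
    ((Scheme.pointSmallEtale ξ).toPresheafFiber_naturality ((cst Λ X).map h).hom _ (topPt ξ))).trans ?_
  exact cstSec_map_assoc h _ _

theorem cstGerm_bijective (A : ModuleCat.{u + 1} Λ) : Function.Bijective (cstGerm ξ A) := by
  let Φ := Scheme.pointSmallEtale ξ
  let P : X.Etaleᵒᵖ ⥤ ModuleCat.{u + 1} Λ := (Functor.const _).obj A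
  let η : P ⟶ ((cst Λ X).obj A).obj := toSheafify X.smallEtaleTopology P
  have e : cstGerm ξ A =
      Φ.toPresheafFiber (EtCoh.top X) (topPt ξ) P ≫ Φ.presheafFiber.map η :=
    (Φ.toPresheafFiber_naturality η _ (topPt ξ)).symm
  have hη : Function.Bijective (Φ.presheafFiber.map η) := Φ.toPresheafFiber_map_bijective η
  rw [e]
  refine hη.comp (f := Φ.toPresheafFiber (EtCoh.top X) (topPt ξ) P) ⟨fun a b hab => ?_, fun p => ?_⟩
  · obtain ⟨W, g, w, -, h⟩ := (Φ.toPresheafFiber_eq_iff' (P := P) _ _ a b).mp hab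
    exact h
  · obtain ⟨W, w, a, rfl⟩ := Φ.toPresheafFiber_jointly_surjective (P := P) p
    let g : W ⟶ EtCoh.top X := (EtCore.topIsTerminal X).from W
    refine ⟨a, ?_⟩
    rw [← fiber_top_eq ξ (Φ.fiber.map g w) (topPt ξ)]
    exact (Φ.toPresheafFiber_w_apply g w P a).symm

instance isIso_cstGerm (A : ModuleCat.{u + 1} Λ) : IsIso (cstGerm ξ A) :=
  (ConcreteCategory.isIso_iff_bijective _).mpr (cstGerm_bijective ξ A)

theorem germ_cstSec_map {A : ModuleCat.{u + 1} Λ} {G : EtModW.Mod Λ X} (θ : (cst Λ X).obj A ⟶ G) (W : X.Etale)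
    (w : (Scheme.pointSmallEtale ξ).fiber.obj W) :
    cstGerm ξ A ≫ (EtModW.stalk Λ ξ).map θ =
      cstSec A W ≫ θ.hom.app (op W) ≫ (Scheme.pointSmallEtale ξ).toPresheafFiber W w G.obj := by
  rw [← cstSec_germ ξ A W w, Category.assoc]
  exact congrArg (fun t => cstSec A W ≫ t) ((Scheme.pointSmallEtale ξ).toPresheafFiber_naturality θ.hom W w)

end Germ

/-- Two morphisms out of a constant sheaf which agree on the constant sections over `W` become
equal on `W`. -/
theorem pull_map_eq_of_agree {A : ModuleCat.{u + 1} Λ} {G : EtModW.Mod Λ X}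
    (φ ψ : (cst Λ X).obj A ⟶ G) (W : X.Etale)
    (h : cstSec A W ≫ φ.hom.app (op W) = cstSec A W ≫ ψ.hom.app (op W)) :
    (EtModW.pull Λ W.hom).map φ = (EtModW.pull Λ W.hom).map ψ := by
  refine hom_eq_of_stalks _ _ fun x => ?_
  let η := sepPoint W.left x
  let e := stalkPullIso Λ W.hom η
  let v : (Scheme.pointSmallEtale (η ≫ W.hom)).fiber.obj W := Over.homMk η rfl
  have key : (EtModW.stalk Λ (η ≫ W.hom)).map φ = (EtModW.stalk Λ (η ≫ W.hom)).map ψ := by
    rw [← cancel_epi (cstGerm (η ≫ W.hom) A), germ_cstSec_map _ φ W v, germ_cstSec_map _ ψ W v,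
      ← Category.assoc, h, Category.assoc]
  rw [← cancel_mono (e.hom.app G)]
  exact (e.hom.naturality φ).trans ((congrArg _ key).trans (e.hom.naturality ψ).symm)

/-- **Spreading out equalities**: two morphisms out of a finite constant sheaf which agree on the
stalk at a geometric point agree on an étale neighbourhood of it. -/
theorem exists_nhd_pull_map_eq {A : ModuleCat.{u + 1} Λ} [Module.Finite Λ A] {G : EtModW.Mod Λ X}
    (φ ψ : (cst Λ X).obj A ⟶ G) {Ω : Type u} [Field Ω] [IsSepClosed Ω]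
    (ξ : Spec (CommRingCat.of Ω) ⟶ X)
    (h : (EtModW.stalk Λ ξ).map φ = (EtModW.stalk Λ ξ).map ψ) :
    ∃ (W : X.Etale) (_ : (Scheme.pointSmallEtale ξ).fiber.obj W),
      (EtModW.pull Λ W.hom).map φ = (EtModW.pull Λ W.hom).map ψ := by
  let Φ := Scheme.pointSmallEtale ξ
  obtain ⟨n, s, hs⟩ := Module.Finite.exists_fin (R := Λ) (M := A)
  have : ∀ i : Fin n, ∃ (W : X.Etale) (w : Φ.fiber.obj W),
      φ.hom.app (op W) (cstSec A W (s i)) = ψ.hom.app (op W) (cstSec A W (s i)) := fun i => by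
    have hab := congrArg (fun k => k (s i)) ((germ_cstSec_map ξ φ (EtCoh.top X) (topPt ξ)).symm.trans
      ((congrArg (cstGerm ξ A ≫ ·) h).trans (germ_cstSec_map ξ ψ (EtCoh.top X) (topPt ξ))))
    obtain ⟨W, g, w, -, hW⟩ := (Φ.toPresheafFiber_eq_iff' (P := G.obj) _ _ _ _).mp hab
    refine ⟨W, w, ?_⟩
    rw [← cstSec_res A g]
    exact ((NatTrans.naturality_apply φ.hom g.op _).trans hW).trans
      (NatTrans.naturality_apply ψ.hom g.op _).symm
  choose W w hW using this
  obtain ⟨W', w', g, -⟩ := exists_common_nhd W w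
  refine ⟨W', w', pull_map_eq_of_agree φ ψ W' (ModuleCat.hom_ext (LinearMap.ext_on hs ?_))⟩
  rintro _ ⟨i, rfl⟩
  show φ.hom.app (op W') (cstSec A W' (s i)) = ψ.hom.app (op W') (cstSec A W' (s i))
  rw [← cstSec_res A (g i)]
  exact (NatTrans.naturality_apply φ.hom (g i).op _).trans
    ((congrArg _ (hW i)).trans (NatTrans.naturality_apply ψ.hom (g i).op _).symm)

/-- A linear map from a finitely presented module to a fibre lifts to sections over one neighbourhood. -/
theorem exists_hom_germ_lift {C : Type*} [Category* C] [LocallySmall.{u} C] {J : GrothendieckTopology C}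
    (Φ : GrothendieckTopology.Point.{u} J) (P : Cᵒᵖ ⥤ ModuleCat.{u + 1} Λ)
    {M : ModuleCat.{u + 1} Λ} [Module.FinitePresentation Λ M] (h : M ⟶ Φ.presheafFiber.obj P) :
    ∃ (W : C) (w : Φ.fiber.obj W) (σ : M ⟶ P.obj (op W)), σ ≫ Φ.toPresheafFiber W w P = h := by
  classical
  obtain ⟨n, s, hs⟩ := Module.Finite.exists_fin (R := Λ) (M := M)
  let π : (Fin n → Λ) →ₗ[Λ] M := Fintype.linearCombination Λ s
  have hπ : Function.Surjective π := by
    rw [← LinearMap.range_eq_top, Fintype.range_linearCombination]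
    exact hs
  obtain ⟨T, hT⟩ := Module.FinitePresentation.fg_ker π hπ
  choose W₀ w₀ s₀ hs₀ using fun i : Fin n => Φ.toPresheafFiber_jointly_surjective (P := P) (h (s i))
  have common : ∀ t : Finset (Fin n), ∃ (W : C) (w : Φ.fiber.obj W), ∀ i ∈ t, ∃ g : W ⟶ W₀ i,
      Φ.fiber.map g w = w₀ i := fun t => by
    obtain ⟨S, hS⟩ := IsCofiltered.inf_objs_exists
      (t.image fun i => Φ.fiber.elementsMk (W₀ i) (w₀ i))
    exact ⟨S.1, S.2, fun i hi =>
      ⟨(hS (Finset.mem_image_of_mem _ hi)).some.val, (hS (Finset.mem_image_of_mem _ hi)).some.property⟩⟩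
  obtain ⟨W₁, w₁, hW₁⟩ := common Finset.univ
  choose g hg using fun i => hW₁ i (Finset.mem_univ _)
  let L : (Fin n → Λ) →ₗ[Λ] P.obj (op W₁) := Fintype.linearCombination Λ fun i => P.map (g i).op (s₀ i)
  have hL : ∀ c, Φ.toPresheafFiber W₁ w₁ P (L c) = h (π c) := by
    suffices e : (Φ.toPresheafFiber W₁ w₁ P).hom.comp L = h.hom.comp π from fun c => LinearMap.congr_fun e c
    refine (Pi.basisFun Λ (Fin n)).ext fun i => ?_
    simp only [LinearMap.comp_apply, Pi.basisFun_apply, L, π, Fintype.linearCombination_apply_single, one_smul]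
    refine (Φ.toPresheafFiber_w_apply (g i) w₁ P (s₀ i)).trans ?_
    rw [hg i]
    exact hs₀ i
  have key : ∀ t : Finset (Fin n → Λ), (↑t ⊆ (LinearMap.ker π : Set (Fin n → Λ))) →
      ∃ (W : C) (w : Φ.fiber.obj W) (k : W ⟶ W₁),
      Φ.fiber.map k w = w₁ ∧ ∀ c ∈ t, P.map k.op (L c) = 0 := fun t => by
    induction t using Finset.induction with
    | empty => exact fun _ => ⟨W₁, w₁, 𝟙 _, by simp, by simp⟩
    | insert c t _ ih =>
      intro hsub
      rw [Finset.coe_insert, Set.insert_subset_iff] at hsub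
      obtain ⟨W, w, k, hw, hk⟩ := ih hsub.2
      have e : Φ.toPresheafFiber W w P (P.map k.op (L c)) = Φ.toPresheafFiber W w P 0 := by
        rw [Φ.toPresheafFiber_w_apply k w P, hw, hL, map_zero,
          show π c = 0 from LinearMap.mem_ker.1 hsub.1, map_zero]
      obtain ⟨W', f, w', hw', he⟩ := (Φ.toPresheafFiber_eq_iff' (P := P) _ _ _ _).mp e
      refine ⟨W', w', f ≫ k, (Functor.map_comp_apply Φ.fiber f k w').trans ((congrArg _ hw').trans hw),
        fun q hq => ?_⟩
      simp only [op_comp, Functor.map_comp, ConcreteCategory.comp_apply]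
      rcases Finset.mem_insert.mp hq with rfl | hq
      · exact he.trans (map_zero _)
      · rw [hk q hq, map_zero]
  obtain ⟨W, w, k, hk₁, hk⟩ := key T (hT ▸ Submodule.subset_span)
  let L' : (Fin n → Λ) →ₗ[Λ] P.obj (op W) := (P.map k.op).hom.comp L
  have hker : LinearMap.ker π ≤ LinearMap.ker L' := by
    rw [← hT, Submodule.span_le]
    exact fun c hc => LinearMap.mem_ker.2 (hk c hc)
  let σ : M →ₗ[Λ] P.obj (op W) :=
    ((LinearMap.ker π).liftQ L' hker).comp (π.quotKerEquivOfSurjective hπ).symm.toLinearMap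
  have hσ : ∀ c, σ (π c) = L' c := fun c => by
    have e : (π.quotKerEquivOfSurjective hπ).symm (π c) = Submodule.Quotient.mk c :=
      (LinearEquiv.symm_apply_eq _).2 rfl
    simp [σ, e]
  refine ⟨W, w, ModuleCat.ofHom σ, ModuleCat.hom_ext (LinearMap.ext fun m => ?_)⟩
  obtain ⟨c, rfl⟩ := hπ m
  show Φ.toPresheafFiber W w P (σ (π c)) = h (π c)
  rw [hσ c]
  refine Eq.trans ?_ (hL c)
  rw [← hk₁]
  exact Φ.toPresheafFiber_w_apply k w P (L c)

/-- A finitely presented stalk is the stalk of a constant sheaf mapping to the sheaf on a neighbourhood. -/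
theorem exists_nhd_isIso_stalk {G : EtModW.Mod Λ X} {Ω : Type u} [Field Ω] [IsSepClosed Ω]
    (ξ : Spec (CommRingCat.of Ω) ⟶ X) [Module.FinitePresentation Λ ((EtModW.stalk Λ ξ).obj G)] :
    ∃ (W : X.Etale) (v : Spec (CommRingCat.of Ω) ⟶ W.left) (_ : v ≫ W.hom = ξ)
      (ψ : (cst Λ W.left).obj ((EtModW.stalk Λ ξ).obj G) ⟶ (EtModW.pull Λ W.hom).obj G),
      IsIso ((EtModW.stalk Λ v).map ψ) := by
  let M := (EtModW.stalk Λ ξ).obj G
  obtain ⟨W, w, σ, hσ⟩ := exists_hom_germ_lift (Scheme.pointSmallEtale ξ) G.obj (𝟙 M)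
  let v : Spec (CommRingCat.of Ω) ⟶ W.left := w.left
  have hv : v ≫ W.hom = ξ := Over.w w
  let B := (EtCoh.bc W.hom).obj W
  let δ : EtCoh.top W.left ⟶ B := MorphismProperty.Over.homMk
    (pullback.lift (𝟙 W.left) (𝟙 W.left) rfl) (pullback.lift_snd _ _ _)
  let τ : M ⟶ ((EtModW.pull Λ W.hom).obj G).obj.obj (op (EtCoh.top W.left)) :=
    σ ≫ ((modAdj Λ W.hom).unit.app G).hom.app (op W) ≫ ((EtModW.pull Λ W.hom).obj G).obj.map δ.op
  let adj := constantSheafAdj W.left.smallEtaleTopology (ModuleCat.{u + 1} Λ) (EtCore.topIsTerminal W.left)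
  let ψ := (adj.homEquiv M ((EtModW.pull Λ W.hom).obj G)).symm τ
  have hψ : cstSec M (EtCoh.top W.left) ≫ ψ.hom.app (op (EtCoh.top W.left)) = τ := by
    have h0 : adj.unit.app M = cstSec M (EtCoh.top W.left) := by
      refine (Adjunction.comp_unit_app _ _ _).trans ?_
      exact (congrArg (fun z => z ≫ _) rfl).trans (Category.id_comp _)
    rw [← h0]
    exact (adj.homEquiv_unit M _ ψ).symm.trans ((adj.homEquiv M _).apply_symm_apply τ)
  let y : (Scheme.pointSmallEtale v).fiber.obj B := (Scheme.pointSmallEtale v).fiber.map δ (topPt v)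
  have h1 : cstGerm v M ≫ (EtModW.stalk Λ v).map ψ ≫ (stalkPullIso Λ W.hom v).hom.app G =
      σ ≫ (Scheme.pointSmallEtale (v ≫ W.hom)).toPresheafFiber W (downPt W.hom v y) G.obj := by
    rw [← germ_unit Λ W.hom v W y, ← Category.assoc, germ_cstSec_map v ψ (EtCoh.top W.left) (topPt v),
      ← Category.assoc (cstSec M _), hψ]
    simp only [τ, Category.assoc]
    rw [GrothendieckTopology.Point.toPresheafFiber_w_assoc]
  have h2 : (downPt W.hom v y).left = v := by
    rw [downPt_left]
    show (v ≫ pullback.lift (𝟙 W.left) (𝟙 W.left) rfl) ≫ pullback.fst W.hom W.hom = v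
    rw [Category.assoc, pullback.lift_fst, Category.comp_id]
  have key : ∀ (ξ' : Spec (CommRingCat.of Ω) ⟶ X) (e : ξ = ξ') (w' : (Scheme.pointSmallEtale ξ').fiber.obj W),
      w'.left = w.left → Function.Bijective (σ ≫ (Scheme.pointSmallEtale ξ').toPresheafFiber W w' G.obj) := by
    rintro _ rfl w' hw'
    rw [Over.OverMorphism.ext hw']
    rw [hσ]
    exact Function.bijective_id
  have hbij := key _ hv.symm _ h2
  rw [← h1] at hbij
  haveI : IsIso (cstGerm v M ≫ (EtModW.stalk Λ v).map ψ ≫ (stalkPullIso Λ W.hom v).hom.app G) :=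
    (ConcreteCategory.isIso_iff_bijective _).2 hbij
  haveI := IsIso.of_isIso_comp_left (cstGerm v M) ((EtModW.stalk Λ v).map ψ ≫ (stalkPullIso Λ W.hom v).hom.app G)
  exact ⟨W, v, hv, ψ, IsIso.of_isIso_comp_right _ ((stalkPullIso Λ W.hom v).hom.app G)⟩

end Groth.Agent.Et18.Mod
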