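import Groth.Agent.Et18.Mod.Generic
import Groth.Agent.Et18.StrataNoetherian
import Mathlib.CategoryTheory.Subobject.NoetherianObject

/-!
# Constructible sheaves of modules on Noetherian schemes are Noetherian objects
-/

universe u

open CategoryTheory CategoryTheory.Limits AlgebraicGeometry Opposite

set_option backward.isDefEq.respectTransparency.types false
set_option backward.isDefEq.respectTransparency false

namespace Groth.Agent.Et18.Mod

/-- A monotone property holding near each point of its closure holds everywhere at some level. -/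
theorem exists_level_of_noetherianSpace {S : Type*} [TopologicalSpace S] [TopologicalSpace.NoetherianSpace S]
    [QuasiSober S] (Q : ℕ → S → Prop) (hQ : ∀ {k k' : ℕ}, k ≤ k' → ∀ x, Q k x → Q k' x)
    (h : ∀ x₀ : S, ∃ k, ∃ U : Set S, IsOpen U ∧ x₀ ∈ U ∧ ∀ x ∈ U ∩ closure {x₀}, Q k x) :
    ∃ k, ∀ x, Q k x := by
  suffices key : ∀ C : TopologicalSpace.Closeds S, ∃ k, ∀ x ∈ C, Q k x by
    obtain ⟨k, hk⟩ := key ⊤
    exact ⟨k, fun x => hk x trivial⟩
  intro C
  refine WellFoundedLT.induction (motive := fun C : TopologicalSpace.Closeds S => ∃ k, ∀ x ∈ C, Q k x) C fun C ih => ?_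
  rcases Set.eq_empty_or_nonempty (C : Set S) with hC | hC
  · exact ⟨0, fun x hx => absurd (hC ▸ hx : x ∈ (∅ : Set S)) (Set.notMem_empty x)⟩
  by_cases hirr : IsPreirreducible (C : Set S)
  · obtain ⟨x₀, hx₀⟩ := QuasiSober.sober (⟨hC, hirr⟩ : IsIrreducible (C : Set S)) C.isClosed
    obtain ⟨k, U, hU, hxU, hk⟩ := h x₀
    let C' : TopologicalSpace.Closeds S := ⟨(C : Set S) ∩ Uᶜ, C.isClosed.inter hU.isClosed_compl⟩
    have hlt : C' < C := lt_of_le_of_ne Set.inter_subset_left fun e =>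
      ((e ▸ (hx₀.mem : x₀ ∈ C) : x₀ ∈ C')).2 hxU
    obtain ⟨k', hk'⟩ := ih C' hlt
    refine ⟨max k k', fun x hx => ?_⟩
    by_cases hxU' : x ∈ U
    · exact hQ (le_max_left _ _) x (hk x ⟨hxU', hx₀.symm ▸ hx⟩)
    · exact hQ (le_max_right _ _) x (hk' x ⟨hx, hxU'⟩)
  · simp only [IsPreirreducible, not_forall] at hirr
    obtain ⟨u, v, hu, hv, hCu, hCv, hn⟩ := hirr
    let C₁ : TopologicalSpace.Closeds S := ⟨(C : Set S) ∩ uᶜ, C.isClosed.inter hu.isClosed_compl⟩
    let C₂ : TopologicalSpace.Closeds S := ⟨(C : Set S) ∩ vᶜ, C.isClosed.inter hv.isClosed_compl⟩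
    have h₁ : C₁ < C := lt_of_le_of_ne Set.inter_subset_left fun e => by
      obtain ⟨x, hx, hxu⟩ := hCu
      exact ((e ▸ hx : x ∈ C₁)).2 hxu
    have h₂ : C₂ < C := lt_of_le_of_ne Set.inter_subset_left fun e => by
      obtain ⟨x, hx, hxv⟩ := hCv
      exact ((e ▸ hx : x ∈ C₂)).2 hxv
    obtain ⟨k₁, hk₁⟩ := ih C₁ h₁
    obtain ⟨k₂, hk₂⟩ := ih C₂ h₂
    refine ⟨max k₁ k₂, fun x hx => ?_⟩
    by_cases hxu : x ∈ u
    · exact hQ (le_max_right _ _) x (hk₂ x ⟨hx, fun hxv => hn ⟨x, hx, hxu, hxv⟩⟩)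
    · exact hQ (le_max_left _ _) x (hk₁ x ⟨hx, hxu⟩)

variable {Λ : Type (u + 1)} [CommRing Λ] {X : Scheme.{u}}

/-- The reduced closed subscheme on the closure of a point. -/
lemma exists_generic_subscheme [IsLocallyNoetherian X] (x₀ : X) :
    ∃ (T : Scheme.{u}) (g : T ⟶ X) (_ : IsLocallyNoetherian T) (t : T), IsImmersion g ∧
      Set.range g = closure {x₀} ∧ g t = x₀ ∧ ∀ z, t ⤳ z := by
  obtain ⟨T, g, hg, hr⟩ := exists_immersion_range (isClosed_closure (s := ({x₀} : Set X))).isLocallyClosed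
  obtain ⟨t, ht⟩ : x₀ ∈ Set.range g := hr ▸ subset_closure (Set.mem_singleton x₀)
  refine ⟨T, g, LocallyOfFiniteType.isLocallyNoetherian g, t, hg, hr, ht, fun z => ?_⟩
  rw [← g.isEmbedding.specializes_iff, ht, specializes_iff_mem_closure, ← hr]
  exact ⟨z, rfl⟩

variable [IsNoetherianRing Λ]

/-- Chains of subobjects of constructible sheaves are stationary near the generic point. -/
theorem exists_open_chain_stationary [IsLocallyNoetherian X] {F : EtModW.Mod Λ X}
    (hF : EtModW.IsConstructible Λ F) {η : X} (hη : ∀ x, η ⤳ x) (H : ℕ → EtModW.Mod Λ X)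
    (i : ∀ k, H k ⟶ F) [∀ k, Mono (i k)] (a : ∀ {k m : ℕ}, k ≤ m → (H k ⟶ H m))
    (ha : ∀ {k m : ℕ} (h : k ≤ m), a h ≫ i m = i k) :
    ∃ (k : ℕ) (O : X.Opens), η ∈ O ∧ ∀ m (h : k ≤ m), ∀ x ∈ O,
      IsIso ((EtModW.stalk Λ (sepPoint X x)).map (a h)) := by
  obtain ⟨W, f, hf, w, A, hw, hgen, hA, ⟨α⟩⟩ := exists_generic_triv hF hη
  let j : ∀ k, (EtModW.pull Λ f).obj (H k) ⟶ (cst Λ W).obj A := fun k => (EtModW.pull Λ f).map (i k) ≫ α.hom
  have haj : ∀ {k m : ℕ} (h : k ≤ m), (EtModW.pull Λ f).map (a h) ≫ j m = j k := fun {k m} h => by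
    simp only [j, ← Functor.map_comp_assoc, ha h]
  let ξ := sepPoint W w
  have hξ : ∀ z, ξ default ⤳ z := fun z => (sepPoint_default _ w).symm ▸ hgen z
  have hmono : ∀ {k m : ℕ}, k ≤ m → ∀ (z : W), imgAt (j k) (sepPoint W z) ≤ imgAt (j m) (sepPoint W z) := by
    intro k m h z b hb
    obtain ⟨t, ht⟩ := (mem_imgAt _ _ b).mp hb
    refine (mem_imgAt _ _ b).mpr ⟨(EtModW.stalk Λ (sepPoint W z)).map ((EtModW.pull Λ f).map (a h)) t, ?_⟩
    exact (congrArg (fun k' => k' t) ((Functor.map_comp _ _ _).symm.trans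
      (congrArg (EtModW.stalk Λ (sepPoint W z)).map (haj h)))).trans ht
  haveI : IsNoetherian Λ A := isNoetherian_of_isNoetherianRing_of_finite Λ A
  obtain ⟨k, hk⟩ := monotone_stabilizes_iff_noetherian.mpr (inferInstance : IsNoetherian Λ A)
    ⟨fun m => imgAt (j m) ξ, fun _ _ h => hmono h w⟩
  obtain ⟨O, hO, hle⟩ := exists_open_le_imgAt (j k) ξ (IsNoetherian.noetherian (imgAt (j k) ξ)) le_rfl
  haveI : Etale f := hf
  refine ⟨k, ⟨f '' O, f.isOpenMap _ O.2⟩, ⟨w, sepPoint_default W w ▸ hO, hw⟩, fun m h => ?_⟩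
  rintro _ ⟨z, hz, rfl⟩
  refine (isIso_stalk_map_iff (a h) _ (sepPoint W z ≫ f)
    ((sepPoint_default X (f z)).trans (congrArg f (sepPoint_default W z)).symm)).mpr ?_
  refine (NatIso.isIso_map_iff (stalkPullIso Λ f (sepPoint W z)) (a h)).mp ?_
  haveI : Mono (a h) := mono_of_mono_fac (ha h)
  refine (ConcreteCategory.isIso_iff_bijective _).mpr ⟨(ModuleCat.mono_iff_injective
    ((EtModW.pull Λ f ⋙ EtModW.stalk Λ (sepPoint W z)).map (a h))).mp inferInstance, fun t => ?_⟩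
  obtain ⟨b, hb⟩ := (cstGerm_bijective (sepPoint W z) A).2 ((EtModW.stalk Λ (sepPoint W z)).map (j m) t)
  have hbk : b ∈ imgAt (j k) (sepPoint W z) := by
    refine hle z hz ?_
    exact ((hk m h).symm.le :) (imgAt_le (j m) ξ hξ (sepPoint W z) ((mem_imgAt _ _ b).mpr ⟨t, hb.symm⟩))
  obtain ⟨t', ht'⟩ := (mem_imgAt _ _ b).mp hbk
  haveI : Mono (j m) := inferInstanceAs (Mono ((EtModW.pull Λ f).map (i m) ≫ α.hom))
  refine ⟨t', (ModuleCat.mono_iff_injective ((EtModW.stalk Λ (sepPoint W z)).map (j m))).mp inferInstance ?_⟩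
  refine Eq.trans ?_ hb
  refine Eq.trans ?_ ht'
  exact congrArg (fun k' => k' t') ((Functor.map_comp _ _ _).symm.trans
    (congrArg (EtModW.stalk Λ (sepPoint W z)).map (haj h)))

/-- Constructible sheaves on Noetherian schemes are Noetherian objects. -/
theorem isNoetherianObject_of_isConstructible [IsNoetherian X] {F : EtModW.Mod Λ X}
    (hF : EtModW.IsConstructible Λ F) : IsNoetherianObject F := by
  rw [isNoetherianObject_iff_monotone_chain_condition]
  intro c
  let Q : ℕ → X → Prop := fun k x => ∀ m (h : k ≤ m),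
    IsIso ((EtModW.stalk Λ (sepPoint X x)).map (Subobject.ofLE (c k) (c m) (c.monotone h)))
  obtain ⟨k, hk⟩ := exists_level_of_noetherianSpace Q (fun {k k'} hkk x hk m h => by
      have h₁ := hk k' hkk
      have h₂ := hk m (hkk.trans h)
      rw [← Subobject.ofLE_comp_ofLE (c k) (c k') (c m) (c.monotone hkk) (c.monotone h), Functor.map_comp] at h₂
      exact IsIso.of_isIso_comp_left ((EtModW.stalk Λ (sepPoint X x)).map (Subobject.ofLE (c k) (c k') _)) _)
    fun x₀ => by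
      obtain ⟨T, g, _, t, hg, hr, ht, hgen⟩ := exists_generic_subscheme x₀
      haveI : ∀ m, Mono ((EtModW.pull Λ g).map (c m).arrow) := fun m => inferInstance
      obtain ⟨k, O, htO, hO⟩ := exists_open_chain_stationary (isConstructible_pull g hF) hgen
        (fun m => (EtModW.pull Λ g).obj (c m : EtModW.Mod Λ X))
        (fun m => (EtModW.pull Λ g).map (c m).arrow)
        (fun {k m} h => (EtModW.pull Λ g).map (Subobject.ofLE (c k) (c m) (c.monotone h)))
        (fun h => ((EtModW.pull Λ g).map_comp _ _).symm.trans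
          (congrArg (EtModW.pull Λ g).map (Subobject.ofLE_arrow _)))
      obtain ⟨U, hU, hU'⟩ := g.isEmbedding.isOpen_iff.mp O.2
      refine ⟨k, U, hU, ?_, ?_⟩
      · rw [← ht]
        exact (hU'.symm ▸ htO : t ∈ g ⁻¹' U)
      · rintro x ⟨hxU, hxC⟩ m h
        obtain ⟨z, rfl⟩ : x ∈ Set.range g := hr.symm ▸ hxC
        have hz : z ∈ O := (hU'.subset :) (show z ∈ g ⁻¹' U from hxU)
        refine (isIso_stalk_map_iff _ _ (sepPoint T z ≫ g)
          ((sepPoint_default X (g z)).trans (congrArg g (sepPoint_default T z)).symm)).mpr ?_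
        exact (NatIso.isIso_map_iff (stalkPullIso Λ g (sepPoint T z)) _).mp (hO m h z hz)
  refine ⟨k, fun m h => ?_⟩
  haveI : IsIso (Subobject.ofLE (c k) (c m) (c.monotone h)) := isIso_of_stalks _ fun x => hk x m h
  exact le_antisymm (c.monotone h) (Subobject.le_of_comm (inv (Subobject.ofLE (c k) (c m) (c.monotone h)))
    (by simp))

end Groth.Agent.Et18.Mod
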