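import Groth.Agent.Et18.Mod.Generators
import Groth.Agent.Et18.Res.Relative
import Mathlib.Algebra.Homology.DerivedCategory.HomologySequence
import Mathlib.Algebra.Homology.DerivedCategory.ExactFunctor
import Mathlib.Algebra.Homology.SingleHomology

/-!
# Complexes of sheaves of modules with constructible cohomology
-/

universe u

open CategoryTheory CategoryTheory.Limits AlgebraicGeometry Opposite Topology

attribute [local instance] HasDerivedCategory.standard

set_option backward.isDefEq.respectTransparency.types false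
set_option backward.isDefEq.respectTransparency false

namespace Groth.Agent.Et18.Mod

variable {Λ : Type (u + 1)} [CommRing Λ] {U X : Scheme.{u}}

/-- A complex isomorphic to a given object of the derived category. -/
theorem exists_complex (K : EtModD.D Λ X) :
    ∃ C : CochainComplex (EtModW.Mod Λ X) ℤ, Nonempty (DerivedCategory.Q.obj C ≅ K) :=
  ⟨DerivedCategory.Q.objPreimage K, ⟨DerivedCategory.Q.objObjPreimageIso K⟩⟩

/-- Cohomology sheaves of a complex in the derived category. -/
noncomputable def hdIso {C : CochainComplex (EtModW.Mod Λ X) ℤ} {K : EtModD.D Λ X}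
    (e : DerivedCategory.Q.obj C ≅ K) (i : ℤ) : C.homology i ≅ EtModD.HD K i :=
  ((DerivedCategory.homologyFunctorFactors (EtModW.Mod Λ X) i).app C).symm ≪≫
    (DerivedCategory.homologyFunctor (EtModW.Mod Λ X) i).mapIso e

section

variable [IsNoetherianRing Λ]

theorem isConstructible_extZero_of_qcqs (j : U ⟶ X) [Etale j] [EtShriek.JCont j] [QuasiCompact j]
    [QuasiSeparated j] {F : EtModW.Mod Λ U} (hF : EtModW.IsConstructible Λ F) :
    EtModW.IsConstructible Λ ((EtSix.extZeroMod Λ j).obj F) := by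
  rw [isConstructible_iff_affine]
  intro V hV
  haveI := (Et18.qcqs_of_isAffineOpen hV).1
  haveI := (Et18.qcqs_of_isAffineOpen hV).2
  let j' := pullback.snd j V.ι
  haveI : EtShriek.JCont j' := Et18.jCont j'
  haveI : CompactSpace ↥(pullback j V.ι) := QuasiCompact.compactSpace_of_compactSpace j'
  haveI : QuasiSeparatedSpace ↥(pullback j V.ι) := quasiSeparatedSpace_of_quasiSeparated j'
  have h := isConstructible_extZero j' (isConstructible_pull (pullback.fst j V.ι) hF)
  exact ((isConstructible_iff_stratified _).mp h).of_iso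
    ((extZeroBaseChangeIso j V.ι j' (pullback.fst j V.ι) (IsPullback.of_hasPullback j V.ι).flip).app F)

theorem isConstructible_HD_extZero (j : U ⟶ X) [Etale j] [QuasiCompact j] [QuasiSeparated j]
    [EtShriek.JCont j] [PreservesFiniteLimits (EtSix.extZeroMod Λ j)] (M : EtModD.D Λ U)
    (hM : ∀ i : ℤ, EtModW.IsConstructible Λ (EtModD.HD M i)) (i : ℤ) :
    EtModW.IsConstructible Λ (EtModD.HD ((EtSix.extZeroMod Λ j).mapDerivedCategory.obj M) i) := by
  obtain ⟨C, ⟨e⟩⟩ := exists_complex M
  let F := EtSix.extZeroMod Λ j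
  have e' : DerivedCategory.Q.obj ((F.mapHomologicalComplex (ComplexShape.up ℤ)).obj C) ≅
      F.mapDerivedCategory.obj M :=
    (F.mapDerivedCategoryFactors.app C).symm ≪≫ F.mapDerivedCategory.mapIso e
  have hc : EtModW.IsConstructible Λ (F.obj (C.homology i)) :=
    isConstructible_extZero_of_qcqs j (isConstructible_of_iso (hM i) (hdIso e i).symm)
  exact isConstructible_of_iso hc (((C.sc i).mapHomologyIso F).symm ≪≫ hdIso e' i)

/-- The objects used in resolutions. -/
def IsSum (F : EtModW.Mod Λ X) : Prop :=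
  ∃ (m : ℕ) (W : Fin m → X.Etale), (∀ k, IsAffine (W k).left) ∧ Nonempty (F ≅ ∐ fun k => jΛ Λ (W k))

theorem isConstructible_of_isSum [QuasiSeparatedSpace X] {F : EtModW.Mod Λ X} (h : IsSum F) :
    EtModW.IsConstructible Λ F := by
  obtain ⟨m, W, hW, ⟨e⟩⟩ := h
  exact isConstructible_of_iso (isConstructible_sum W hW) e.symm

omit [IsNoetherianRing Λ] in
theorem isSum_of_isZero {F : EtModW.Mod Λ X} (h : IsZero F) : IsSum F :=
  ⟨0, Fin.elim0, fun k => k.elim0, ⟨h.iso ((IsZero.iff_id_eq_zero _).mpr (Sigma.hom_ext _ _ fun k => k.elim0))⟩⟩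

theorem good_isSum [CompactSpace X] [QuasiSeparatedSpace X] :
    RelRes.Good (IsSum : EtModW.Mod Λ X → Prop) (fun F => EtModW.IsConstructible Λ F) where
  cl_of_p := isConstructible_of_isSum
  iso h e := isConstructible_of_iso h e
  kernel f hX hY := isConstructible_kernel f hX hY
  ext hS h1 h3 := isConstructible_extension hS h1 h3
  cover v _ hY := by
    obtain ⟨m, W, hW, w, hw⟩ := exists_epi_generators v hY
    exact ⟨_, w, ⟨m, W, hW, ⟨Iso.refl _⟩⟩, hw⟩

/-- Resolutions by sums of `j_! Λ`. -/
theorem exists_sum_resolution [CompactSpace X] [QuasiSeparatedSpace X]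
    (K : CochainComplex (EtModW.Mod Λ X) ℤ) (hK : ∀ i, EtModW.IsConstructible Λ (K.homology i))
    (a : ℤ) [K.IsLE a] :
    ∃ (R : CochainComplex (EtModW.Mod Λ X) ℤ) (φ : R ⟶ K),
      R.IsStrictlyLE a ∧ (∀ n, IsSum (R.X n)) ∧ QuasiIso φ :=
  RelRes.exists_resolution good_isSum (fun ⟨m, W, hW, ⟨e⟩⟩ i => ⟨m, W, hW, ⟨i.symm ≪≫ e⟩⟩)
    isSum_of_isZero K hK a

theorem constructible_iff_exists_resolution [CompactSpace X] [QuasiSeparatedSpace X] (K : EtModD.D Λ X)
    (n : ℤ) [K.IsLE n] :
    (∀ i : ℤ, EtModW.IsConstructible Λ (EtModD.HD K i)) ↔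
      ∃ (C : CochainComplex (EtModW.Mod Λ X) ℤ) (c : ℤ),
        (∀ i : ℤ, c < i → IsZero (C.X i)) ∧ (∀ i : ℤ, IsSum (C.X i)) ∧
          Nonempty (DerivedCategory.Q.obj C ≅ K) := by
  constructor
  · intro hK
    obtain ⟨C, ⟨e⟩⟩ := exists_complex K
    haveI : C.IsLE n := by
      rw [CochainComplex.isLE_iff]
      intro i hi
      rw [HomologicalComplex.exactAt_iff_isZero_homology]
      exact (DerivedCategory.isZero_of_isLE K n i hi).of_iso (hdIso e i)
    obtain ⟨R, φ, hR, hRX, hφ⟩ := exists_sum_resolution C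
      (fun i => isConstructible_of_iso (hK i) (hdIso e i).symm) n
    exact ⟨R, n, fun i hi => R.isZero_of_isStrictlyLE n i hi, hRX, ⟨asIso (DerivedCategory.Q.map φ) ≪≫ e⟩⟩
  · rintro ⟨C, c, -, hC, ⟨e⟩⟩ i
    refine isConstructible_of_iso ?_ (hdIso e i)
    have hX : ∀ k, EtModW.IsConstructible Λ (C.X k) := fun k => isConstructible_of_isSum (hC k)
    let D := ShortComplex.LeftHomologyData.ofHasKernelOfHasCokernel (C.sc i)
    exact isConstructible_of_iso (isConstructible_cokernel _ (hX _) (isConstructible_kernel _ (hX _) (hX _)))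
      D.homologyIso.symm

/-- A morphism from a sum of `j_! Λ`, placed in one degree, surjective on cohomology. -/
theorem exists_sum_epi_HD [CompactSpace X] [QuasiSeparatedSpace X] (K : EtModD.D Λ X) (b : ℤ)
    (hK : EtModW.IsConstructible Λ (EtModD.HD K b)) :
    ∃ (m : ℕ) (W : Fin m → X.Etale), (∀ k, IsAffine (W k).left) ∧
      ∃ φ : (DerivedCategory.singleFunctor (EtModW.Mod Λ X) b).obj (∐ fun k => jΛ Λ (W k)) ⟶ K,
        Epi ((DerivedCategory.homologyFunctor (EtModW.Mod Λ X) b).map φ) := by
  obtain ⟨C, ⟨e⟩⟩ := exists_complex K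
  obtain ⟨m, W, hW, w, hw⟩ := exists_epi_generators (C.homologyπ b) (isConstructible_of_iso hK (hdIso e b).symm)
  let S := (HomologicalComplex.single (EtModW.Mod Λ X) (ComplexShape.up ℤ) b).obj (∐ fun k => jΛ Λ (W k))
  let g : S ⟶ C := HomologicalComplex.mkHomFromSingle (w ≫ C.iCycles b) (fun k _ => by
    rw [Category.assoc, HomologicalComplex.iCycles_d, comp_zero])
  have hcyc : (HomologicalComplex.singleObjCyclesSelfIso (ComplexShape.up ℤ) b _).inv ≫
      HomologicalComplex.cyclesMap g b = w := by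
    rw [← cancel_mono (C.iCycles b), Category.assoc, HomologicalComplex.cyclesMap_i,
      HomologicalComplex.singleObjCyclesSelfIso_inv_iCycles_assoc, HomologicalComplex.mkHomFromSingle_f,
      Iso.inv_hom_id_assoc]
  haveI : Epi (HomologicalComplex.homologyMap g b) := by
    haveI : Epi (((HomologicalComplex.singleObjCyclesSelfIso (ComplexShape.up ℤ) b _).inv ≫ S.homologyπ b) ≫
        HomologicalComplex.homologyMap g b) := by
      rw [Category.assoc, HomologicalComplex.homologyπ_naturality, ← Category.assoc, hcyc]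
      exact hw
    exact epi_of_epi ((HomologicalComplex.singleObjCyclesSelfIso (ComplexShape.up ℤ) b _).inv ≫ S.homologyπ b) _
  haveI : Epi ((DerivedCategory.homologyFunctor (EtModW.Mod Λ X) b).map (DerivedCategory.Q.map g)) :=
    ((MorphismProperty.epimorphisms _).arrow_mk_iso_iff
      (((Functor.mapArrowFunctor _ _).mapIso (DerivedCategory.homologyFunctorFactors (EtModW.Mod Λ X) b)).app
        (Arrow.mk g))).mpr ‹Epi (HomologicalComplex.homologyMap g b)›
  refine ⟨m, W, hW,
    (DerivedCategory.singleFunctorIsoCompQ (EtModW.Mod Λ X) b).hom.app _ ≫ DerivedCategory.Q.map g ≫ e.hom, ?_⟩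
  rw [Functor.map_comp, Functor.map_comp]
  infer_instance

end

end Groth.Agent.Et18.Mod
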