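import Groth.Agent.Et18.Mod.Strata

/-!
# Constructible sheaves of modules: constant sheaves, kernels, cokernels, extensions
-/

universe u

open CategoryTheory CategoryTheory.Limits AlgebraicGeometry Topology

set_option backward.isDefEq.respectTransparency.types false
set_option backward.isDefEq.respectTransparency false

namespace Groth.Agent.Et18.Mod

variable {Λ : Type (u + 1)} [CommRing Λ] {X : Scheme.{u}}

lemma stratified_of_isFTLocConst {F : EtModW.Mod Λ X} (h : EtModW.IsFTLocConst Λ F) :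
    Stratified F Set.univ := by
  have hr : Set.range (𝟙 X : X ⟶ X) = Set.univ := Set.eq_univ_of_forall fun x => ⟨x, rfl⟩
  refine ⟨PUnit, inferInstance, fun _ => X, fun _ => 𝟙 X, fun _ => inferInstance, fun _ => ?_,
    fun i j hij => absurd (Subsingleton.elim i j) hij, ?_, fun _ => isFTLocConst_pull h _⟩
  · rw [hr]
    exact IsConstructible.univ.isLocallyConstructible
  · rw [Set.iUnion_const, hr]

lemma isConstructible_of_isFTLocConst {F : EtModW.Mod Λ X} (h : EtModW.IsFTLocConst Λ F) :
    EtModW.IsConstructible Λ F :=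
  (isConstructible_iff_affine F).mpr fun U _ => stratified_of_isFTLocConst (isFTLocConst_pull h U.ι)

lemma isConstructible_cst (A : ModuleCat.{u + 1} Λ) [Module.Finite Λ A] :
    EtModW.IsConstructible Λ ((cst Λ X).obj A) :=
  isConstructible_of_isFTLocConst (isFTLocConst_cst A)

theorem isConstructible_cokernel {F G : EtModW.Mod Λ X} (φ : F ⟶ G)
    (hF : EtModW.IsConstructible Λ F) (hG : EtModW.IsConstructible Λ G) :
    EtModW.IsConstructible Λ (cokernel φ) := by
  rw [isConstructible_iff_affine] at hF hG ⊢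
  intro U hU
  obtain ⟨ι, hι, T, g, hg, hc, hd, hu, h⟩ := (hF U hU).exists_common (hG U hU)
  refine Stratified.of_iso ⟨ι, hι, T, g, hg, hc, hd, hu, fun i => ?_⟩
    (PreservesCokernel.iso (EtModW.pull Λ U.ι) φ).symm
  exact isFTLocConst_of_iso (isFTLocConst_cokernel _ (h i).1 (h i).2)
    (PreservesCokernel.iso (EtModW.pull Λ (g i)) ((EtModW.pull Λ U.ι).map φ)).symm

theorem isConstructible_kernel [IsNoetherianRing Λ] {F G : EtModW.Mod Λ X} (φ : F ⟶ G)
    (hF : EtModW.IsConstructible Λ F) (hG : EtModW.IsConstructible Λ G) :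
    EtModW.IsConstructible Λ (kernel φ) := by
  rw [isConstructible_iff_affine] at hF hG ⊢
  intro U hU
  obtain ⟨ι, hι, T, g, hg, hc, hd, hu, h⟩ := (hF U hU).exists_common (hG U hU)
  refine Stratified.of_iso ⟨ι, hι, T, g, hg, hc, hd, hu, fun i => ?_⟩
    (PreservesKernel.iso (EtModW.pull Λ U.ι) φ).symm
  exact isFTLocConst_of_iso (isFTLocConst_kernel _ (h i).1 (h i).2)
    (PreservesKernel.iso (EtModW.pull Λ (g i)) ((EtModW.pull Λ U.ι).map φ)).symm

theorem isConstructible_extension [IsNoetherianRing Λ] {S : ShortComplex (EtModW.Mod Λ X)} (hS : S.ShortExact)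
    (h1 : EtModW.IsConstructible Λ S.X₁) (h3 : EtModW.IsConstructible Λ S.X₃) :
    EtModW.IsConstructible Λ S.X₂ := by
  rw [isConstructible_iff_affine] at h1 h3 ⊢
  intro U hU
  obtain ⟨ι, hι, T, g, hg, hc, hd, hu, h⟩ := (h1 U hU).exists_common (h3 U hU)
  exact ⟨ι, hι, T, g, hg, hc, hd, hu, fun i =>
    isFTLocConst_extension ((hS.map_of_exact (EtModW.pull Λ U.ι)).map_of_exact (EtModW.pull Λ (g i)))
      (h i).1 (h i).2⟩

end Groth.Agent.Et18.Mod
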