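import Groth.Agent.Et18.Mod.StrataApps
import Groth.Agent.Et18.Mod.AdicStalk
import Groth.Agent.Et18.GenericFLC

/-!
# Sheaves of modules near a generic point

On a scheme with a generic point, subobjects of constant sheaves are controlled by their stalk at the
generic point; constructible sheaves are constant étale locally near the generic point.
-/

universe u

open CategoryTheory CategoryTheory.Limits AlgebraicGeometry Opposite

set_option backward.isDefEq.respectTransparency.types false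
set_option backward.isDefEq.respectTransparency false

namespace Groth.Agent.Et18.Mod

variable {Λ : Type (u + 1)} [CommRing Λ] {X : Scheme.{u}}

/-- The values at a geometric point of a morphism into a constant sheaf. -/
noncomputable def imgAt {A : ModuleCat.{u + 1} Λ} {H : EtModW.Mod Λ X} (i : H ⟶ (cst Λ X).obj A)
    {Ω : Type u} [Field Ω] [IsSepClosed Ω] (ξ : Spec (CommRingCat.of Ω) ⟶ X) : Submodule Λ A :=
  (LinearMap.range ((EtModW.stalk Λ ξ).map i).hom).comap (cstGerm ξ A).hom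

lemma mem_imgAt {A : ModuleCat.{u + 1} Λ} {H : EtModW.Mod Λ X} (i : H ⟶ (cst Λ X).obj A)
    {Ω : Type u} [Field Ω] [IsSepClosed Ω] (ξ : Spec (CommRingCat.of Ω) ⟶ X) (a : A) :
    a ∈ imgAt i ξ ↔ ∃ t, (EtModW.stalk Λ ξ).map i t = cstGerm ξ A a := Iff.rfl

lemma imgAt_eq_of_default_eq {A : ModuleCat.{u + 1} Λ} {H : EtModW.Mod Λ X} (i : H ⟶ (cst Λ X).obj A)
    {Ω Ω' : Type u} [Field Ω] [IsSepClosed Ω] [Field Ω'] [IsSepClosed Ω']
    (σ : Spec (CommRingCat.of Ω') ⟶ Spec (CommRingCat.of Ω)) (ξ : Spec (CommRingCat.of Ω) ⟶ X)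
    {ξ' : Spec (CommRingCat.of Ω') ⟶ X} (h : σ ≫ ξ = ξ') : imgAt i ξ = imgAt i ξ' := by
  subst h
  let e : EtModW.stalk Λ (σ ≫ ξ) ≅ EtModW.stalk Λ ξ := sheafFiberIsoOfIso (extendPointIso σ ξ)
  have he : cstGerm (σ ≫ ξ) A ≫ e.hom.app ((cst Λ X).obj A) = cstGerm ξ A := by
    rw [← cancel_mono (e.inv.app ((cst Λ X).obj A))]
    refine (Category.assoc _ _ _).trans ((congrArg (fun t => cstGerm (σ ≫ ξ) A ≫ t)
      (e.hom_inv_id_app _)).trans ((Category.comp_id _).trans ?_))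
    refine Eq.trans ?_ (Category.assoc _ _ _).symm
    refine congrArg (fun t => cstSec A (EtCoh.top X) ≫ t) ?_
    refine Eq.trans ?_ (GrothendieckTopology.Point.toPresheafFiber_presheafFiberDesc
      (A := ModuleCat.{u + 1} Λ) _ _ _ _ _).symm
    exact congrArg (fun p => (Scheme.pointSmallEtale (σ ≫ ξ)).toPresheafFiber (EtCoh.top X) p
      ((cst Λ X).obj A).obj) (fiber_top_eq _ _ _)
  ext a
  rw [mem_imgAt, mem_imgAt]
  constructor
  · rintro ⟨t, ht⟩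
    refine ⟨e.inv.app H t, (ConcreteCategory.bijective_of_isIso (e.hom.app ((cst Λ X).obj A))).1 ?_⟩
    refine Eq.trans ?_ (congrArg (fun k => k a) he).symm
    refine (congrArg (fun k => k (e.inv.app H t)) (e.hom.naturality i)).trans ?_
    refine Eq.trans ?_ ht
    exact congrArg ((EtModW.stalk Λ ξ).map i) (congrArg (fun k => k t) (e.inv_hom_id_app H))
  · rintro ⟨t, ht⟩
    refine ⟨e.hom.app H t, ?_⟩
    refine (congrArg (fun k => k t) (e.hom.naturality i)).symm.trans ?_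
    exact (congrArg (e.hom.app ((cst Λ X).obj A)) ht).trans (congrArg (fun k => k a) he)

/-- The values only depend on the point. -/
lemma imgAt_eq {A : ModuleCat.{u + 1} Λ} {H : EtModW.Mod Λ X} (i : H ⟶ (cst Λ X).obj A)
    {Ω Ω' : Type u} [Field Ω] [IsSepClosed Ω] [Field Ω'] [IsSepClosed Ω']
    (ξ : Spec (CommRingCat.of Ω) ⟶ X) (ξ' : Spec (CommRingCat.of Ω') ⟶ X)
    (h : ξ default = ξ' default) : imgAt i ξ = imgAt i ξ' := by
  obtain ⟨σ, hσ⟩ := exists_fac_sepPoint ξ _ rfl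
  obtain ⟨σ', hσ'⟩ := exists_fac_sepPoint ξ' _ h.symm
  exact (imgAt_eq_of_default_eq i σ _ hσ).symm.trans (imgAt_eq_of_default_eq i σ' _ hσ')

lemma mem_imgAt_kernel {A : ModuleCat.{u + 1} Λ} {G : EtModW.Mod Λ X} (θ : (cst Λ X).obj A ⟶ G)
    {Ω : Type u} [Field Ω] [IsSepClosed Ω] (ξ : Spec (CommRingCat.of Ω) ⟶ X) (a : A) :
    a ∈ imgAt (kernel.ι θ) ξ ↔ (EtModW.stalk Λ ξ).map θ (cstGerm ξ A a) = 0 := by
  have hex := ((ShortComplex.exact_kernel θ).map (EtModW.stalk Λ ξ)).moduleCat_range_eq_ker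
  exact (SetLike.ext_iff.mp hex (cstGerm ξ A a)).trans LinearMap.mem_ker

/-- Values at any point are values at the generic point. -/
theorem imgAt_le {A : ModuleCat.{u + 1} Λ} {H : EtModW.Mod Λ X} (i : H ⟶ (cst Λ X).obj A)
    {Ω Ω' : Type u} [Field Ω] [IsSepClosed Ω] [Field Ω'] [IsSepClosed Ω']
    (ξ : Spec (CommRingCat.of Ω) ⟶ X) (hξ : ∀ x, ξ default ⤳ x) (ξ' : Spec (CommRingCat.of Ω') ⟶ X) :
    imgAt i ξ' ≤ imgAt i ξ := by
  intro a ha
  obtain ⟨t, ht⟩ := (mem_imgAt i ξ' a).mp ha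
  let Φ := Scheme.pointSmallEtale ξ'
  obtain ⟨W, w, σ, rfl⟩ := Φ.toPresheafFiber_jointly_surjective (P := H.obj) t
  have he : Φ.toPresheafFiber W w ((cst Λ X).obj A).obj (i.hom.app (op W) σ) =
      Φ.toPresheafFiber W w ((cst Λ X).obj A).obj (cstSec A W a) :=
    ((congrArg (fun k => k σ) (Φ.toPresheafFiber_naturality i.hom W w)).symm.trans ht).trans
      (congrArg (fun k => k a) (cstSec_germ ξ' A W w)).symm
  obtain ⟨W', g, w', -, heq⟩ := (Φ.toPresheafFiber_eq_iff' (P := ((cst Λ X).obj A).obj) _ _ _ _).mp he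
  haveI : Etale W'.hom := W'.prop
  obtain ⟨y, hy⟩ : ξ default ∈ Set.range W'.hom :=
    (hξ (W'.hom (fiberPt w'))).mem_open W'.hom.isOpenMap.isOpen_range ⟨_, rfl⟩
  obtain ⟨v, -⟩ := exists_fiber_point ξ W' y hy
  refine (mem_imgAt i ξ a).mpr ⟨(Scheme.pointSmallEtale ξ).toPresheafFiber W' v H.obj (H.obj.map g.op σ), ?_⟩
  refine (congrArg (fun k => k (H.obj.map g.op σ))
    ((Scheme.pointSmallEtale ξ).toPresheafFiber_naturality i.hom W' v)).trans ?_
  refine (congrArg ((Scheme.pointSmallEtale ξ).toPresheafFiber W' v ((cst Λ X).obj A).obj) ?_).trans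
    (congrArg (fun k => k a) (cstSec_germ ξ A W' v))
  refine (NatTrans.naturality_apply i.hom g.op σ).trans (heq.trans ?_)
  exact congrArg (fun k => k a) (cstSec_res A g)

/-- A value at a geometric point is a value nearby. -/
theorem exists_open_mem_imgAt {A : ModuleCat.{u + 1} Λ} {H : EtModW.Mod Λ X} (i : H ⟶ (cst Λ X).obj A)
    {Ω : Type u} [Field Ω] [IsSepClosed Ω] (ξ : Spec (CommRingCat.of Ω) ⟶ X) {a : A} (ha : a ∈ imgAt i ξ) :
    ∃ O : X.Opens, ξ default ∈ O ∧ ∀ x ∈ O, a ∈ imgAt i (sepPoint X x) := by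
  obtain ⟨t, ht⟩ := (mem_imgAt i ξ a).mp ha
  let Φ := Scheme.pointSmallEtale ξ
  obtain ⟨W, w, σ, rfl⟩ := Φ.toPresheafFiber_jointly_surjective (P := H.obj) t
  have he : Φ.toPresheafFiber W w ((cst Λ X).obj A).obj (i.hom.app (op W) σ) =
      Φ.toPresheafFiber W w ((cst Λ X).obj A).obj (cstSec A W a) :=
    ((congrArg (fun k => k σ) (Φ.toPresheafFiber_naturality i.hom W w)).symm.trans ht).trans
      (congrArg (fun k => k a) (cstSec_germ ξ A W w)).symm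
  obtain ⟨W', g, w', -, heq⟩ := (Φ.toPresheafFiber_eq_iff' (P := ((cst Λ X).obj A).obj) _ _ _ _).mp he
  haveI : Etale W'.hom := W'.prop
  refine ⟨⟨_, W'.hom.isOpenMap.isOpen_range⟩, ⟨fiberPt w', hom_fiberPt w'⟩, fun x hx => ?_⟩
  obtain ⟨y, hy⟩ := hx
  let η := sepPoint X x
  obtain ⟨v, -⟩ := exists_fiber_point η W' y (hy.trans (sepPoint_default X x).symm)
  refine (mem_imgAt i η a).mpr ⟨(Scheme.pointSmallEtale η).toPresheafFiber W' v H.obj (H.obj.map g.op σ), ?_⟩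
  refine (congrArg (fun k => k (H.obj.map g.op σ))
    ((Scheme.pointSmallEtale η).toPresheafFiber_naturality i.hom W' v)).trans ?_
  refine (congrArg ((Scheme.pointSmallEtale η).toPresheafFiber W' v ((cst Λ X).obj A).obj) ?_).trans
    (congrArg (fun k => k a) (cstSec_germ η A W' v))
  refine (NatTrans.naturality_apply i.hom g.op σ).trans (heq.trans ?_)
  exact congrArg (fun k => k a) (cstSec_res A g)

theorem exists_open_le_imgAt {A : ModuleCat.{u + 1} Λ} {H : EtModW.Mod Λ X} (i : H ⟶ (cst Λ X).obj A)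
    {Ω : Type u} [Field Ω] [IsSepClosed Ω] (ξ : Spec (CommRingCat.of Ω) ⟶ X) {N : Submodule Λ A}
    (hfg : N.FG) (hN : N ≤ imgAt i ξ) :
    ∃ O : X.Opens, ξ default ∈ O ∧ ∀ x ∈ O, N ≤ imgAt i (sepPoint X x) := by
  induction N, hfg using Submodule.fg_induction with
  | singleton a =>
    obtain ⟨O, hO, h⟩ := exists_open_mem_imgAt i ξ (hN (Submodule.mem_span_singleton_self a))
    exact ⟨O, hO, fun x hx => (Submodule.span_singleton_le_iff_mem _ _).mpr (h x hx)⟩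
  | sup M₁ M₂ _ _ h₁ h₂ =>
    obtain ⟨O₁, hO₁, e₁⟩ := h₁ (le_sup_left.trans hN)
    obtain ⟨O₂, hO₂, e₂⟩ := h₂ (le_sup_right.trans hN)
    exact ⟨O₁ ⊓ O₂, ⟨hO₁, hO₂⟩, fun x hx => sup_le (e₁ x hx.1) (e₂ x hx.2)⟩

lemma injective_stalk_map_of_generic {A : ModuleCat.{u + 1} Λ} {G : EtModW.Mod Λ X} (θ : (cst Λ X).obj A ⟶ G)
    {Ω : Type u} [Field Ω] [IsSepClosed Ω] (ξ : Spec (CommRingCat.of Ω) ⟶ X) (hξ : ∀ x, ξ default ⤳ x)
    (hinj : Function.Injective ((EtModW.stalk Λ ξ).map θ))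
    {Ω' : Type u} [Field Ω'] [IsSepClosed Ω'] (ξ' : Spec (CommRingCat.of Ω') ⟶ X) :
    Function.Injective ((EtModW.stalk Λ ξ').map θ) := by
  rw [injective_iff_map_eq_zero]
  intro z hz
  obtain ⟨a, rfl⟩ := (cstGerm_bijective ξ' A).2 z
  have h := (mem_imgAt_kernel θ ξ a).mp (imgAt_le (kernel.ι θ) ξ hξ ξ' ((mem_imgAt_kernel θ ξ' a).mpr hz))
  rw [(injective_iff_map_eq_zero _).mp (cstGerm_bijective ξ A).1 a ((injective_iff_map_eq_zero _).mp hinj _ h),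
    map_zero]

lemma isZero_stalk_iff (F : EtModW.Mod Λ X) {Ω Ω' : Type u} [Field Ω] [IsSepClosed Ω] [Field Ω']
    [IsSepClosed Ω'] (ξ : Spec (CommRingCat.of Ω) ⟶ X) (ξ' : Spec (CommRingCat.of Ω') ⟶ X)
    (h : ξ default = ξ' default) :
    IsZero ((EtModW.stalk Λ ξ).obj F) ↔ IsZero ((EtModW.stalk Λ ξ').obj F) := by
  obtain ⟨e⟩ := nonempty_stalkFun_iso (Λ := Λ) ξ ξ' h
  exact (e.app F).isZero_iff

lemma isIso_stalk_map_iff {F G : EtModW.Mod Λ X} (φ : F ⟶ G) {Ω Ω' : Type u} [Field Ω] [IsSepClosed Ω]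
    [Field Ω'] [IsSepClosed Ω'] (ξ : Spec (CommRingCat.of Ω) ⟶ X) (ξ' : Spec (CommRingCat.of Ω') ⟶ X)
    (h : ξ default = ξ' default) :
    IsIso ((EtModW.stalk Λ ξ).map φ) ↔ IsIso ((EtModW.stalk Λ ξ').map φ) := by
  obtain ⟨e⟩ := nonempty_stalkFun_iso (Λ := Λ) ξ ξ' h
  exact NatIso.isIso_map_iff e φ

/-- A constructible sheaf with vanishing stalk at the generic point vanishes near it. -/
theorem exists_open_isZero_stalk {F : EtModW.Mod Λ X} (hF : EtModW.IsConstructible Λ F) {η : X}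
    (hη : ∀ x, η ⤳ x) (h0 : IsZero ((EtModW.stalk Λ (sepPoint X η)).obj F)) :
    ∃ O : X.Opens, η ∈ O ∧ ∀ x ∈ O, IsZero ((EtModW.stalk Λ (sepPoint X x)).obj F) := by
  obtain ⟨_, ⟨V, hV, rfl⟩, hηV, -⟩ := X.isBasis_affineOpens.exists_subset_of_mem_open
    (Set.mem_univ η) isOpen_univ
  obtain ⟨n, T, g, hg, -, -, hu, hFT⟩ := hF V hV
  obtain ⟨i, t₀, ht₀⟩ := Set.mem_iUnion.mp (hu.symm ▸ hηV : η ∈ ⋃ i, Set.range (g i))
  haveI := hg i
  obtain ⟨O', C, hO', hC, hr⟩ := (g i).isLocallyClosed_range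
  have hηOC : η ∈ O' ∩ C := hr ▸ ⟨t₀, ht₀⟩
  have hopen : IsOpen (Set.range (g i)) := by
    rw [hr, Set.inter_eq_left.mpr fun x _ => (hη x).mem_closed hC hηOC.2]
    exact hO'
  obtain ⟨U, y, A, hy, -, ⟨α⟩⟩ := isFTLocConst_iff.mp (hFT i) t₀
  have hA : IsZero A := by
    obtain ⟨e⟩ := nonempty_stalk_iso' (Λ := Λ) ⟨α⟩ (sepPoint (T i) t₀) y
      (hy.trans (sepPoint_default _ t₀).symm)
    refine IsZero.of_iso ?_ (e.symm ≪≫ (stalkPullIso Λ (g i) _).app F)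
    exact (isZero_stalk_iff F _ _ ((sepPoint_default X η).trans
      ((congrArg (g i) (sepPoint_default _ t₀)).trans ht₀).symm)).mp h0
  haveI : Etale U.hom := U.prop
  obtain ⟨P, hP, hP'⟩ := (g i).isEmbedding.isOpen_iff.mp (U.hom.isOpenMap.isOpen_range)
  refine ⟨⟨Set.range (g i) ∩ P, hopen.inter hP⟩, ⟨⟨t₀, ht₀⟩, ?_⟩, ?_⟩
  · have : t₀ ∈ (g i) ⁻¹' P := hP'.symm ▸ ⟨y, hy⟩
    exact ht₀ ▸ this
  · rintro _ ⟨⟨t, rfl⟩, htP⟩
    obtain ⟨z, hz⟩ : t ∈ Set.range U.hom := hP' ▸ htP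
    obtain ⟨e⟩ := nonempty_stalk_iso' (Λ := Λ) ⟨α⟩ (sepPoint (T i) t) z (hz.trans (sepPoint_default _ t).symm)
    refine (isZero_stalk_iff F (sepPoint (T i) t ≫ g i) _ ((congrArg (g i) (sepPoint_default _ t)).trans
      (sepPoint_default X (g i t)).symm)).mp ?_
    exact IsZero.of_iso hA (((stalkPullIso Λ (g i) _).app F).symm ≪≫ e)

/-- Near the generic point a constructible sheaf is constant on an étale neighbourhood. -/
theorem exists_generic_triv [IsNoetherianRing Λ] [IsLocallyNoetherian X] {F : EtModW.Mod Λ X}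
    (hF : EtModW.IsConstructible Λ F) {η : X} (hη : ∀ x, η ⤳ x) :
    ∃ (W : Scheme.{u}) (f : W ⟶ X) (_ : Etale f) (w : W) (A : ModuleCat.{u + 1} Λ),
      f w = η ∧ (∀ z, w ⤳ z) ∧ Module.Finite Λ A ∧ Nonempty ((EtModW.pull Λ f).obj F ≅ (cst Λ W).obj A) := by
  let ξ := sepPoint X η
  haveI := finite_stalk_of_isConstructible hF ξ
  haveI : Module.FinitePresentation Λ ((EtModW.stalk Λ ξ).obj F) :=
    Module.finitePresentation_of_finite Λ _
  obtain ⟨U, v, hv, ψ, hψ⟩ := exists_nhd_isIso_stalk (G := F) ξ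
  haveI : Etale U.hom := U.prop
  have hy : U.hom (v default) = η := (congrArg (fun k => k default) hv).trans (sepPoint_default X η)
  obtain ⟨O, hvO, hO⟩ := exists_generic_nhd η hη U _ hy
  let w₁ : O.toScheme := ⟨v default, hvO⟩
  have hw₁ : ∀ z : O.toScheme, w₁ ⤳ z := fun z => (subtype_specializes_iff _ _).mpr (hO z.1 z.2)
  let M := (EtModW.stalk Λ ξ).obj F
  let ψ₁ : (cst Λ O.toScheme).obj M ⟶ (EtModW.pull Λ (O.ι ≫ U.hom)).obj F :=
    (modPullConstIso Λ O.ι).inv.app M ≫ (EtModW.pull Λ O.ι).map ψ ≫ (modPullComp Λ O.ι U.hom).inv.app F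
  let ξ₁ := sepPoint O.toScheme w₁
  haveI h₁ : IsIso ((EtModW.stalk Λ ξ₁).map ψ₁) := by
    haveI : IsIso ((EtModW.stalk Λ ξ₁).map ((EtModW.pull Λ O.ι).map ψ)) := by
      refine (NatIso.isIso_map_iff (stalkPullIso Λ O.ι ξ₁) ψ).mpr ?_
      exact (isIso_stalk_map_iff ψ v (ξ₁ ≫ O.ι)
        (congrArg O.ι (sepPoint_default O.toScheme w₁)).symm).mp hψ
    simp only [ψ₁, Functor.map_comp]
    infer_instance
  have hgen : ∀ z : O.toScheme, ξ₁ default ⤳ z := fun z => (sepPoint_default _ w₁).symm ▸ hw₁ z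
  have hinj := (ConcreteCategory.bijective_of_isIso ((EtModW.stalk Λ ξ₁).map ψ₁)).1
  obtain ⟨O₂, hw₂, hO₂⟩ := exists_open_isZero_stalk (F := cokernel ψ₁)
    (isConstructible_cokernel ψ₁ (isConstructible_cst M) (isConstructible_pull _ hF)) hw₁
    (IsZero.of_iso (isZero_cokernel_of_epi _) (PreservesCokernel.iso (EtModW.stalk Λ ξ₁) ψ₁))
  let ψ₂ := (EtModW.pull Λ O₂.ι).map ψ₁
  haveI : IsIso ψ₂ := isIso_of_stalks _ fun z => by
    refine (NatIso.isIso_map_iff (stalkPullIso Λ O₂.ι (sepPoint _ z)) ψ₁).mpr ?_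
    haveI : Mono ((EtModW.stalk Λ (sepPoint O₂.toScheme z ≫ O₂.ι)).map ψ₁) :=
      (ModuleCat.mono_iff_injective _).mpr
        (injective_stalk_map_of_generic ψ₁ ξ₁ hgen hinj (sepPoint O₂.toScheme z ≫ O₂.ι))
    haveI : Epi ((EtModW.stalk Λ (sepPoint O₂.toScheme z ≫ O₂.ι)).map ψ₁) := by
      refine Preadditive.epi_of_isZero_cokernel _ (IsZero.of_iso ?_
        (PreservesCokernel.iso (EtModW.stalk Λ _) ψ₁).symm)
      exact (isZero_stalk_iff (cokernel ψ₁) (sepPoint O.toScheme z.1) (sepPoint O₂.toScheme z ≫ O₂.ι)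
        ((sepPoint_default _ z.1).trans (congrArg O₂.ι (sepPoint_default O₂.toScheme z)).symm)).mp (hO₂ z.1 z.2)
    exact isIso_of_mono_of_epi _
  refine ⟨O₂.toScheme, O₂.ι ≫ O.ι ≫ U.hom, inferInstance, ⟨w₁, hw₂⟩, M, hy, fun z => ?_,
    inferInstance, ⟨(modPullComp Λ O₂.ι (O.ι ≫ U.hom)).app F ≪≫ (asIso ψ₂).symm ≪≫
      (modPullConstIso Λ O₂.ι).app M⟩⟩
  exact (subtype_specializes_iff _ _).mpr (hw₁ z.1)

end Groth.Agent.Et18.Mod
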