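import Groth.Agent.Et18.Mod.Generic
import Groth.Agent.ARLib.Graded
import Mathlib.RingTheory.MvPolynomial.Basic
import Mathlib.RingTheory.Polynomial.Basic
import Mathlib.LinearAlgebra.StdBasis
import Mathlib.Algebra.Category.ModuleCat.Kernels

/-!
# Adic systems of constructible sheaves near a generic point

The graded pieces of an adic system are quotients of the first member tensored with monomials; by
Hilbert's basis theorem one open neighbourhood of the generic point serves all degrees.
-/

universe u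

open CategoryTheory CategoryTheory.Limits AlgebraicGeometry Opposite ARSys

set_option backward.isDefEq.respectTransparency.types false
set_option backward.isDefEq.respectTransparency false

namespace Groth.Agent.Et18.Mod

variable {Λ : Type (u + 1)} [CommRing Λ] {X : Scheme.{u}}

/-- The constant sections of a morphism out of a constant sheaf. -/
noncomputable def cstDesc {A : ModuleCat.{u + 1} Λ} {G : EtModW.Mod Λ X}
    (σ : A ⟶ G.obj.obj (op (EtCoh.top X))) : (cst Λ X).obj A ⟶ G :=
  ((constantSheafAdj X.smallEtaleTopology (ModuleCat.{u + 1} Λ) (EtCore.topIsTerminal X)).homEquiv A G).symm σ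

lemma cstSec_cstDesc {A : ModuleCat.{u + 1} Λ} {G : EtModW.Mod Λ X} (σ : A ⟶ G.obj.obj (op (EtCoh.top X))) :
    cstSec A (EtCoh.top X) ≫ (cstDesc σ).hom.app (op (EtCoh.top X)) = σ := by
  let adj := constantSheafAdj X.smallEtaleTopology (ModuleCat.{u + 1} Λ) (EtCore.topIsTerminal X)
  have h0 : adj.unit.app A = cstSec A (EtCoh.top X) := by
    refine (Adjunction.comp_unit_app _ _ _).trans ?_
    exact (congrArg (fun z => z ≫ _) rfl).trans (Category.id_comp _)
  rw [← h0]
  exact (adj.homEquiv_unit A _ (cstDesc σ)).symm.trans ((adj.homEquiv A _).apply_symm_apply σ)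

/-- The germ at a geometric point of a global section. -/
noncomputable abbrev topGerm (G : EtModW.Mod Λ X) {Ω : Type u} [Field Ω] [IsSepClosed Ω]
    (ξ : Spec (CommRingCat.of Ω) ⟶ X) : G.obj.obj (op (EtCoh.top X)) ⟶ (EtModW.stalk Λ ξ).obj G :=
  (Scheme.pointSmallEtale ξ).toPresheafFiber (EtCoh.top X) (topPt ξ) G.obj

lemma stalk_map_cstDesc {A : ModuleCat.{u + 1} Λ} {G : EtModW.Mod Λ X} (σ : A ⟶ G.obj.obj (op (EtCoh.top X)))
    {Ω : Type u} [Field Ω] [IsSepClosed Ω] (ξ : Spec (CommRingCat.of Ω) ⟶ X) (a : A) :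
    (EtModW.stalk Λ ξ).map (cstDesc σ) (cstGerm ξ A a) = topGerm G ξ (σ a) := by
  refine (congrArg (fun k => k a) (germ_cstSec_map ξ (cstDesc σ) (EtCoh.top X) (topPt ξ))).trans ?_
  exact congrArg (topGerm G ξ) (congrArg (fun k => k a) (cstSec_cstDesc σ))

section Graded

variable (J : Ideal Λ) {r k : ℕ} (g : Fin r → Λ) (G : PS (EtModW.Mod Λ X))
  (s : Fin k → (G.obj (op 0)).obj.obj (op (EtCoh.top X)))

/-- Tuples of polynomials. -/
abbrev PolyTup (Λ : Type (u + 1)) [CommRing Λ] (r k : ℕ) : Type (u + 1) := Fin k → MvPolynomial (Fin r) Λ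

/-- The monomial basis. -/
noncomputable def monBasis (Λ : Type (u + 1)) [CommRing Λ] (r k : ℕ) :
    Module.Basis (Σ _ : Fin k, Fin r →₀ ℕ) Λ (PolyTup Λ r k) :=
  Pi.basis fun _ => MvPolynomial.basisMonomials (Fin r) Λ

lemma monBasis_apply (j : Fin k) (e : Fin r →₀ ℕ) :
    monBasis Λ r k ⟨j, e⟩ = Pi.single j (MvPolynomial.monomial e 1) := by
  simp [monBasis, Pi.basis_apply]

lemma X_smul_monBasis (i : Fin r) (j : Fin k) (e : Fin r →₀ ℕ) :
    (MvPolynomial.X i : MvPolynomial (Fin r) Λ) • monBasis Λ r k ⟨j, e⟩ =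
      monBasis Λ r k ⟨j, Finsupp.single i 1 + e⟩ := by
  rw [monBasis_apply, monBasis_apply, ← Pi.single_smul, smul_eq_mul, MvPolynomial.X, MvPolynomial.monomial_mul,
    one_mul]

/-- The sections of degree `q`. -/
noncomputable def phi (q : ℕ) : PolyTup Λ r k →ₗ[Λ] (G.obj (op q)).obj.obj (op (EtCoh.top X)) :=
  (monBasis Λ r k).constr Λ fun p =>
    if ∑ i, p.2 i = q then
      (ARLib.mu J G (ARLib.gpow g p.2) 0 q).hom.app (op (EtCoh.top X)) (s p.1)
    else 0

lemma phi_basis (q : ℕ) (j : Fin k) (e : Fin r →₀ ℕ) :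
    phi J g G s q (monBasis Λ r k ⟨j, e⟩) =
      if ∑ i, e i = q then (ARLib.mu J G (ARLib.gpow g e) 0 q).hom.app (op (EtCoh.top X)) (s j) else 0 :=
  Module.Basis.constr_basis ..

/-- The homogeneous part of degree `q`. -/
noncomputable def degPart (Λ : Type (u + 1)) [CommRing Λ] (r k q : ℕ) : PolyTup Λ r k →ₗ[Λ] PolyTup Λ r k :=
  (monBasis Λ r k).constr Λ fun p => if ∑ i, p.2 i = q then monBasis Λ r k p else 0

lemma phi_degPart (q q' : ℕ) (p : PolyTup Λ r k) :
    phi J g G s q' (degPart Λ r k q p) = if q' = q then phi J g G s q' p else 0 := by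
  suffices e : (phi J g G s q').comp (degPart Λ r k q) = if q' = q then phi J g G s q' else 0 by
    have := LinearMap.congr_fun e p
    split_ifs at this ⊢ <;> exact this
  refine (monBasis Λ r k).ext fun ⟨j, e⟩ => ?_
  simp only [LinearMap.comp_apply, degPart, Module.Basis.constr_basis]
  by_cases h : q' = q <;> by_cases he : ∑ i, e i = q <;> simp [h, he, phi_basis, eq_comm] <;>
    exact fun hq => absurd hq.symm h

/-- All but finitely many degrees kill a given tuple. -/
lemma exists_bound (p : PolyTup Λ r k) : ∃ B : ℕ, ∀ q, B ≤ q → phi J g G s q p = 0 := by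
  refine ⟨((monBasis Λ r k).repr p).support.sup (fun b => ∑ i, b.2 i) + 1, fun q hq => ?_⟩
  rw [phi, Module.Basis.constr_apply, Finsupp.sum]
  refine Finset.sum_eq_zero fun b hb => ?_
  have := Finset.le_sup (f := fun b : (Σ _ : Fin k, Fin r →₀ ℕ) => ∑ i, b.2 i) hb
  rw [if_neg (by omega), smul_zero]

variable {J g G} (hG : IsAdic J G) (hg : Ideal.span (Set.range g) = J)

include hG hg in
lemma phi_X_smul (i : Fin r) (q : ℕ) (p : PolyTup Λ r k) :
    phi J g G s (q + 1) ((MvPolynomial.X i : MvPolynomial (Fin r) Λ) • p) =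
      (ARLib.mu J G (g i) q (q + 1)).hom.app (op (EtCoh.top X)) (phi J g G s q p) := by
  suffices e : (phi J g G s (q + 1)).comp (DistribSMul.toLinearMap Λ (PolyTup Λ r k)
      (MvPolynomial.X i : MvPolynomial (Fin r) Λ)) =
      ((ARLib.mu J G (g i) q (q + 1)).hom.app (op (EtCoh.top X))).hom.comp (phi J g G s q) from
    LinearMap.congr_fun e p
  refine (monBasis Λ r k).ext fun ⟨j, e⟩ => ?_
  simp only [LinearMap.comp_apply, DistribSMul.toLinearMap_apply, X_smul_monBasis, phi_basis]
  have hdeg : ∑ a, (Finsupp.single i 1 + e : Fin r →₀ ℕ) a = ∑ a, e a + 1 := by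
    simp [Finset.sum_add_distrib, add_comm]
  rw [hdeg]
  by_cases he : ∑ a, e a = q
  · rw [if_pos (by omega), if_pos he]
    have hgm : ∀ a, g a ∈ J := fun a => hg ▸ Ideal.subset_span ⟨a, rfl⟩
    have h := ARLib.mu_comp hG (a := ARLib.gpow g e) (b := g i) (show q + 0 = q from rfl)
      (show 1 + q = q + 1 by omega) (he ▸ ARLib.gpow_mem hgm _) (by simpa using hgm i)
    have hgp : g i * ARLib.gpow g e = ARLib.gpow g (Finsupp.single i 1 + e : Fin r →₀ ℕ) := by
      rw [Finsupp.coe_add, ARLib.gpow_add]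
      congr 1
      simp [ARLib.gpow, Finsupp.single_apply, pow_ite, Finset.prod_ite_eq]
    rw [← hgp, ← h]
    rfl
  · rw [if_neg (by omega), if_neg he]
    exact (map_zero _).symm

omit hG hg in
lemma phi_zero_X_smul (i : Fin r) (p : PolyTup Λ r k) :
    phi J g G s 0 ((MvPolynomial.X i : MvPolynomial (Fin r) Λ) • p) = 0 := by
  suffices e : (phi J g G s 0).comp (DistribSMul.toLinearMap Λ (PolyTup Λ r k)
      (MvPolynomial.X i : MvPolynomial (Fin r) Λ)) = 0 from LinearMap.congr_fun e p
  refine (monBasis Λ r k).ext fun ⟨j, e⟩ => ?_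
  simp only [LinearMap.comp_apply, DistribSMul.toLinearMap_apply, X_smul_monBasis, phi_basis, LinearMap.zero_apply]
  rw [if_neg]
  simp [Finset.sum_add_distrib]

variable (J g G)

/-- The relations of degree `q` at a geometric point. -/
noncomputable def rel (q : ℕ) {Ω : Type u} [Field Ω] [IsSepClosed Ω] (ξ : Spec (CommRingCat.of Ω) ⟶ X) :
    Submodule Λ (PolyTup Λ r k) :=
  LinearMap.ker ((topGerm (G.obj (op q)) ξ).hom.comp (phi J g G s q))

/-- The map from the constant sheaf of tuples. -/
noncomputable abbrev theta (q : ℕ) : (cst Λ X).obj (ModuleCat.of Λ (PolyTup Λ r k)) ⟶ G.obj (op q) :=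
  cstDesc (ModuleCat.ofHom (phi J g G s q))

lemma mem_rel_iff (q : ℕ) {Ω : Type u} [Field Ω] [IsSepClosed Ω] (ξ : Spec (CommRingCat.of Ω) ⟶ X)
    (p : PolyTup Λ r k) : p ∈ rel J g G s q ξ ↔ topGerm (G.obj (op q)) ξ (phi J g G s q p) = 0 :=
  LinearMap.mem_ker

lemma rel_eq_imgAt (q : ℕ) {Ω : Type u} [Field Ω] [IsSepClosed Ω] (ξ : Spec (CommRingCat.of Ω) ⟶ X) :
    rel J g G s q ξ = imgAt (kernel.ι (theta J g G s q)) ξ := by
  ext p
  rw [mem_rel_iff, mem_imgAt_kernel, stalk_map_cstDesc]
  rfl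

variable {J g G}

include hG hg in
/-- Hilbert basis: relations at the generic point spread to all degrees at once. -/
theorem exists_open_rel_eq [IsNoetherianRing Λ] {η : X} (hη : ∀ x, η ⤳ x) :
    ∃ O : X.Opens, η ∈ O ∧ ∀ x ∈ O, ∀ q, rel J g G s q (sepPoint X x) = rel J g G s q (sepPoint X η) := by
  classical
  let N : ∀ {Ω : Type u} [Field Ω] [IsSepClosed Ω] (ξ : Spec (CommRingCat.of Ω) ⟶ X),
      Submodule (MvPolynomial (Fin r) Λ) (PolyTup Λ r k) := fun {Ω} _ _ ξ =>
    { carrier := {p | ∀ q, p ∈ rel J g G s q ξ}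
      add_mem' := fun ha hb q => add_mem (ha q) (hb q)
      zero_mem' := fun q => zero_mem _
      smul_mem' := fun c p hp => by
        induction c using MvPolynomial.induction_on generalizing p with
        | C a =>
          intro q
          rw [← MvPolynomial.algebraMap_eq, algebraMap_smul]
          exact Submodule.smul_mem _ a (hp q)
        | add c d hc hd => exact fun q => by rw [add_smul]; exact add_mem (hc p hp q) (hd p hp q)
        | mul_X c i hc =>
          rw [mul_smul]
          refine hc _ fun q => ?_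
          rcases q with _ | q
          · rw [mem_rel_iff, phi_zero_X_smul, map_zero]
          · rw [mem_rel_iff, phi_X_smul s hG hg]
            refine ((congrArg (fun k => k (phi J g G s q p)) ((Scheme.pointSmallEtale ξ).toPresheafFiber_naturality
              (ARLib.mu J G (g i) q (q + 1)).hom (EtCoh.top X) (topPt ξ))).symm).trans ?_
            exact (congrArg ((EtModW.stalk Λ ξ).map (ARLib.mu J G (g i) q (q + 1)))
              ((mem_rel_iff J g G s q ξ p).mp (hp q))).trans
              (map_zero ((EtModW.stalk Λ ξ).map (ARLib.mu J G (g i) q (q + 1))).hom) }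
  let ξ := sepPoint X η
  obtain ⟨S, hS⟩ := IsNoetherian.noetherian (N ξ)
  choose B hB using fun p : PolyTup Λ r k => exists_bound J g G s p
  let D := S.sup B
  have hspread : ∀ q, ∃ O : X.Opens, η ∈ O ∧ ∀ x ∈ O, ∀ p ∈ S, p ∈ rel J g G s q (sepPoint X x) := by
    intro q
    have hle : Submodule.span Λ (S : Set (PolyTup Λ r k)) ≤ imgAt (kernel.ι (theta J g G s q)) ξ := by
      rw [Submodule.span_le, ← rel_eq_imgAt]
      intro p hp
      exact (hS ▸ Submodule.subset_span hp : p ∈ N ξ) q
    obtain ⟨O, hO, h⟩ := exists_open_le_imgAt _ ξ (A := ModuleCat.of Λ (PolyTup Λ r k))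
      (Submodule.fg_span S.finite_toSet) hle
    exact ⟨O, sepPoint_default X η ▸ hO, fun x hx p hp => by
      rw [rel_eq_imgAt]; exact h x hx (Submodule.subset_span hp)⟩
  choose O hO hOS using hspread
  refine ⟨(Finset.range D).inf O, ?_, fun x hx q => le_antisymm ?_ fun p hp => ?_⟩
  · induction Finset.range D using Finset.induction with
    | empty => simp
    | insert a t _ ih => rw [Finset.inf_insert]; exact ⟨hO a, ih⟩
  · rw [rel_eq_imgAt, rel_eq_imgAt]
    exact imgAt_le _ ξ (fun z => (sepPoint_default X η).symm ▸ hη z) _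
  · have hNle : N ξ ≤ N (sepPoint X x) := by
      rw [← hS, Submodule.span_le]
      intro p' hp' q'
      rcases lt_or_ge q' D with hq | hq
      · have hle : (Finset.range D).inf O ≤ O q' := Finset.inf_le (Finset.mem_range.mpr hq)
        exact hOS q' x (hle hx) p' hp'
      · rw [mem_rel_iff, hB p' q' ((Finset.le_sup hp').trans hq), map_zero]
    have hmem : degPart Λ r k q p ∈ N ξ := fun q' => by
      rw [mem_rel_iff, phi_degPart]
      split_ifs with hq
      · subst hq; exact (mem_rel_iff J g G s q' ξ p).mp hp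
      · exact map_zero _
    have := hNle hmem q
    rw [mem_rel_iff, phi_degPart, if_pos rfl] at this
    exact (mem_rel_iff J g G s q _ p).mpr this

end Graded

end Groth.Agent.Et18.Mod

namespace Groth.Agent.Et18.Mod

section Lisse

variable {Λ : Type (u + 1)} [CommRing Λ] {X : Scheme.{u}} {J : Ideal Λ} {r k : ℕ} {g : Fin r → Λ}
  {G : PS (EtModW.Mod Λ X)} (s : Fin k → (G.obj (op 0)).obj.obj (op (EtCoh.top X)))
  (hG : IsAdic J G) (hg : Ideal.span (Set.range g) = J)

include hG hg in
lemma theta_tr (q : ℕ) : theta J g G s (q + 1) ≫ tr G q.le_succ = 0 := by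
  have hgm : ∀ a, g a ∈ J := fun a => hg ▸ Ideal.subset_span ⟨a, rfl⟩
  have hw : ((tr G q.le_succ).hom.app (op (EtCoh.top X))).hom.comp (phi J g G s (q + 1)) = 0 := by
    refine (monBasis Λ r k).ext fun ⟨j, e⟩ => ?_
    simp only [LinearMap.comp_apply, phi_basis, LinearMap.zero_apply]
    split_ifs with he
    · have hmem : ARLib.gpow g e ∈ J ^ (q + 1) := he ▸ ARLib.gpow_mem hgm _
      have h0 : ARLib.mu J G (ARLib.gpow g e) 0 (q + 1) ≫ tr G q.le_succ = 0 := by
        haveI := ARLib.isQuot_epi (hG.2 0 (q + 1) (Nat.zero_le _))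
        rw [← cancel_epi (tr G (Nat.zero_le (q + 1))), ← Category.assoc, comp_zero,
          ARLib.mu_fac hG (show q + 1 + 0 = q + 1 from rfl) hmem, Linear.smul_comp, Category.id_comp]
        exact ARLib.homKilledBy_of_target (hG.1 q) _ _ hmem
      exact congrArg (fun φ => (φ : G.obj (op 0) ⟶ G.obj (op q)).hom.app (op (EtCoh.top X)) (s j)) h0
    · exact map_zero _
  refine hom_eq_of_stalks _ _ fun x => ?_
  rw [Functor.map_zero, Functor.map_comp, ← cancel_epi (cstGerm (sepPoint X x) _), comp_zero]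
  refine ModuleCat.hom_ext (LinearMap.ext fun p => ?_)
  refine ((congrArg ((EtModW.stalk Λ (sepPoint X x)).map (tr G q.le_succ))
    (stalk_map_cstDesc (ModuleCat.ofHom (phi J g G s (q + 1))) (sepPoint X x) p)).trans (congrArg (fun k => k (phi J g G s (q + 1) p))
      ((Scheme.pointSmallEtale (sepPoint X x)).toPresheafFiber_naturality (tr G q.le_succ).hom (EtCoh.top X)
        (topPt (sepPoint X x))))).trans ?_
  exact (congrArg (topGerm (G.obj (op q)) (sepPoint X x)) (LinearMap.congr_fun hw p)).trans (map_zero _)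

lemma ker_le_of_isQuot {R : Type (u + 1)} [CommRing R] {I : Ideal R} {M Q : ModuleCat.{u + 1} R} {p : M ⟶ Q}
    (h : IsQuot I p) {m : M} (hm : p m = 0) : m ∈ I • (⊤ : Submodule R M) := by
  let N : Submodule R M := I • ⊤
  obtain ⟨ψ, hψ, -⟩ := h.2 (ModuleCat.of R (M ⧸ N)) (ModuleCat.ofHom N.mkQ) fun a ha =>
    ModuleCat.hom_ext (LinearMap.ext fun x => by
      show a • N.mkQ x = 0
      rw [← map_smul]
      exact (Submodule.Quotient.mk_eq_zero N).mpr (Submodule.smul_mem_smul ha trivial))
  refine (Submodule.Quotient.mk_eq_zero N).mp ?_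
  exact ((congrArg (fun k => k m) hψ).symm).trans ((congrArg ψ hm).trans (map_zero ψ.hom))

include hG hg in
lemma exact_stalk_theta (hs : ∀ x, Submodule.span Λ (Set.range fun j => topGerm (G.obj (op 0)) (sepPoint X x) (s j)) = ⊤)
    (q : ℕ) (x : X) {z : (EtModW.stalk Λ (sepPoint X x)).obj (G.obj (op (q + 1)))}
    (hz : (EtModW.stalk Λ (sepPoint X x)).map (tr G q.le_succ) z = 0) :
    z ∈ LinearMap.range ((topGerm (G.obj (op (q + 1))) (sepPoint X x)).hom.comp (phi J g G s (q + 1))) := by
  let ξ := sepPoint X x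
  let S := EtModW.stalk Λ ξ
  let L := (topGerm (G.obj (op (q + 1))) ξ).hom.comp (phi J g G s (q + 1))
  have hfg : J.FG := by rw [← hg]; exact Submodule.fg_span (Set.finite_range g)
  have hgm : ∀ a, g a ∈ J := fun a => hg ▸ Ideal.subset_span ⟨a, rfl⟩
  have key : ∀ (e : Fin r → ℕ), ∑ i, e i = q + 1 → ∀ y : S.obj (G.obj (op (q + 1))),
      ARLib.gpow g e • y ∈ LinearMap.range L := by
    intro e he y
    have hmem : ARLib.gpow g e ∈ J ^ (q + 1) := he ▸ ARLib.gpow_mem hgm _
    let μ := ARLib.mu J G (ARLib.gpow g e) 0 (q + 1)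
    have h1 : ARLib.gpow g e • y = S.map μ (S.map (tr G (Nat.zero_le (q + 1))) y) := by
      have h := congrArg S.map (ARLib.mu_fac hG (show q + 1 + 0 = q + 1 from rfl) hmem)
      rw [Functor.map_comp, Functor.map_smul, CategoryTheory.Functor.map_id] at h
      exact (congrArg (fun k => k y) h).symm
    rw [h1]
    have : ∀ w ∈ (⊤ : Submodule Λ (S.obj (G.obj (op 0)))), S.map μ w ∈ LinearMap.range L := by
      rw [← hs x]
      intro w hw
      induction hw using Submodule.span_induction with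
      | mem w hw =>
        obtain ⟨j, rfl⟩ := hw
        refine ⟨monBasis Λ r k ⟨j, Finsupp.equivFunOnFinite.symm e⟩, ?_⟩
        show topGerm _ ξ (phi J g G s (q + 1) _) = _
        rw [phi_basis, if_pos (by simpa using he)]
        exact (congrArg (fun k => k (s j)) ((Scheme.pointSmallEtale ξ).toPresheafFiber_naturality μ.hom
          (EtCoh.top X) (topPt ξ))).symm
      | zero => simp
      | add a b _ _ ha hb => rw [map_add]; exact add_mem ha hb
      | smul c a _ ha => rw [map_smul]; exact Submodule.smul_mem _ c ha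
    exact this _ trivial
  have hz' : z ∈ (J ^ (q + 1)) • (⊤ : Submodule Λ (S.obj (G.obj (op (q + 1))))) :=
    ker_le_of_isQuot (isQuot_map S hfg.pow (hG.2 q (q + 1) q.le_succ)) hz
  refine Submodule.smul_induction_on hz' (fun a ha y _ => ?_) (fun a b ha hb => add_mem ha hb)
  replace ha := ARLib.pow_le_span_gpow hg (q + 1) ha
  induction ha using Submodule.span_induction with
  | mem a ha => obtain ⟨e, he, rfl⟩ := ha; exact key e he y
  | zero => simp
  | add a b _ _ ha hb => rw [add_smul]; exact add_mem ha hb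
  | smul c a _ ha => rw [smul_eq_mul, mul_smul]; exact Submodule.smul_mem _ c ha

include hG hg in
/-- With constant relations the adic system is lisse. -/
theorem isFTLocConst_pull_of_rel [IsNoetherianRing Λ] (O : X.Opens) {η : X}
    (hs : ∀ x, Submodule.span Λ (Set.range fun j => topGerm (G.obj (op 0)) (sepPoint X x) (s j)) = ⊤)
    (hrel : ∀ x ∈ O, ∀ q, rel J g G s q (sepPoint X x) = rel J g G s q (sepPoint X η))
    (hfin : ∀ q, Module.Finite Λ ((EtModW.stalk Λ (sepPoint X η)).obj (G.obj (op q))))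
    (h0 : EtModW.IsFTLocConst Λ (G.obj (op 0))) :
    ∀ q, EtModW.IsFTLocConst Λ ((EtModW.pull Λ O.ι).obj (G.obj (op q)))
  | 0 => isFTLocConst_pull h0 O.ι
  | q + 1 => by
    have ih := isFTLocConst_pull_of_rel O hs hrel hfin h0 q
    let P := ModuleCat.of Λ (PolyTup Λ r k)
    let R : Submodule Λ P := rel J g G s (q + 1) (sepPoint X η)
    let E := cst Λ X ⋙ EtModW.pull Λ O.ι
    let κ := kernel.ι (tr G q.le_succ)
    let θ' : (cst Λ X).obj P ⟶ kernel (tr G q.le_succ) :=
      kernel.lift _ (theta J g G s (q + 1)) (theta_tr s hG hg q)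
    have hθ : ∀ (x : X) (p : P), (EtModW.stalk Λ (sepPoint X x)).map κ
        ((EtModW.stalk Λ (sepPoint X x)).map θ' (cstGerm (sepPoint X x) P p)) =
        topGerm (G.obj (op (q + 1))) (sepPoint X x) (phi J g G s (q + 1) p) := fun x p => by
      refine Eq.trans ?_ (stalk_map_cstDesc _ _ p)
      exact congrArg (fun k => k (cstGerm (sepPoint X x) P p))
        (((EtModW.stalk Λ (sepPoint X x)).map_comp θ' κ).symm.trans
          (congrArg (EtModW.stalk Λ (sepPoint X x)).map (kernel.lift_ι _ _ _)))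
    have hκ : ∀ x : X, Function.Injective ((EtModW.stalk Λ (sepPoint X x)).map κ) :=
      fun x => (ModuleCat.mono_iff_injective _).mp inferInstance
    let ι₀ : ModuleCat.of Λ R ⟶ P := ModuleCat.ofHom R.subtype
    let π₀ : P ⟶ ModuleCat.of Λ (P ⧸ R) := ModuleCat.ofHom R.mkQ
    have hpt : ∀ z : O.toScheme, (sepPoint O.toScheme z ≫ O.ι) default = (sepPoint X z.1) default := fun z =>
      (congrArg O.ι (sepPoint_default O.toScheme z)).trans (sepPoint_default X z.1).symm
    have hzero : ∀ z : O.toScheme, (EtModW.stalk Λ (sepPoint X z.1)).map ((cst Λ X).map ι₀ ≫ θ') = 0 := by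
      intro z
      rw [← cancel_epi (cstGerm (sepPoint X z.1) (ModuleCat.of Λ R)), comp_zero, Functor.map_comp,
        cstGerm_naturality_assoc]
      ext ⟨p, hp⟩
      refine hκ z.1 ((hθ z.1 p).trans ?_)
      rw [show R = rel J g G s (q + 1) (sepPoint X z.1) from (hrel z.1 z.2 (q + 1)).symm, mem_rel_iff] at hp
      exact hp.trans (map_zero ((EtModW.stalk Λ (sepPoint X z.1)).map κ).hom).symm
    have hw : E.map ι₀ ≫ (EtModW.pull Λ O.ι).map θ' = 0 := by
      refine hom_eq_of_stalks _ _ fun z => ?_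
      obtain ⟨e⟩ := nonempty_stalkFun_iso (Λ := Λ) _ _ (hpt z)
      let e' := stalkPullIso Λ O.ι (sepPoint O.toScheme z) ≪≫ e
      refine Eq.trans (congrArg (EtModW.stalk Λ (sepPoint O.toScheme z)).map
        ((EtModW.pull Λ O.ι).map_comp ((cst Λ X).map ι₀) θ').symm) ?_
      rw [Functor.map_zero, ← cancel_mono (e'.hom.app _), zero_comp]
      exact (e'.hom.naturality ((cst Λ X).map ι₀ ≫ θ')).trans
        ((congrArg (fun t => _ ≫ t) (hzero z)).trans comp_zero)
    let S := ShortComplex.mk (E.map ι₀) ((EtModW.pull Λ O.ι).map θ') hw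
    have hepi : Epi S.g := by
      refine epi_of_stalks _ fun z => ?_
      obtain ⟨e⟩ := nonempty_stalkFun_iso (Λ := Λ) _ _ (hpt z)
      let e' := stalkPullIso Λ O.ι (sepPoint O.toScheme z) ≪≫ e
      rw [← ModuleCat.epi_iff_surjective]
      refine (MorphismProperty.arrow_mk_iso_iff (MorphismProperty.epimorphisms _)
        (Arrow.isoMk (e'.app _) (e'.app _) (e'.hom.naturality θ').symm)).mpr ?_
      refine (ModuleCat.epi_iff_surjective _).mpr fun y => ?_
      obtain ⟨p, hp⟩ := exact_stalk_theta s hG hg hs q z.1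
        (z := (EtModW.stalk Λ (sepPoint X z.1)).map κ y) ((congrArg (fun k => k y)
          (((EtModW.stalk Λ (sepPoint X z.1)).map_comp κ (tr G q.le_succ)).symm.trans
            ((congrArg (EtModW.stalk Λ (sepPoint X z.1)).map (kernel.condition _)).trans (Functor.map_zero _ _ _)))))
      exact ⟨cstGerm (sepPoint X z.1) P p, hκ z.1 ((hθ z.1 p).trans hp)⟩
    have hex : S.Exact := by
      refine exact_of_stalks S fun z => ?_
      obtain ⟨e⟩ := nonempty_stalkFun_iso (Λ := Λ) _ _ (hpt z)
      let e' := stalkPullIso Λ O.ι (sepPoint O.toScheme z) ≪≫ e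
      let S₀ : ShortComplex (ModuleCat.{u + 1} Λ) :=
        ShortComplex.mk ((EtModW.stalk Λ (sepPoint X z.1)).map ((cst Λ X).map ι₀))
          ((EtModW.stalk Λ (sepPoint X z.1)).map θ') ((Functor.map_comp _ _ _).symm.trans (hzero z))
      refine (ShortComplex.exact_iff_of_iso (ShortComplex.isoMk (e'.app _) (e'.app _) (e'.app _)
        (e'.hom.naturality _).symm (e'.hom.naturality θ').symm : _ ≅ S₀)).mpr ?_
      refine S₀.moduleCat_exact_iff.mpr fun w hw => ?_
      obtain ⟨p, rfl⟩ := (cstGerm_bijective (sepPoint X z.1) P).2 w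
      have hp : p ∈ R := by
        rw [show R = rel J g G s (q + 1) (sepPoint X z.1) from (hrel z.1 z.2 (q + 1)).symm, mem_rel_iff]
        exact (hθ z.1 p).symm.trans ((congrArg _ hw).trans
          (map_zero ((EtModW.stalk Λ (sepPoint X z.1)).map κ).hom))
      exact ⟨cstGerm (sepPoint X z.1) (ModuleCat.of Λ R) ⟨p, hp⟩,
        congrArg (fun k => k (⟨p, hp⟩ : R)) (cstGerm_naturality (sepPoint X z.1) ι₀)⟩
    have hι : ι₀ ≫ π₀ = 0 := by ext ⟨p, hp⟩; exact (Submodule.Quotient.mk_eq_zero R).mpr hp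
    haveI : Epi π₀ := (ModuleCat.epi_iff_surjective _).mpr R.mkQ_surjective
    have hc : IsColimit (CokernelCofork.ofπ π₀ hι) :=
      CokernelCofork.IsColimit.ofπ' π₀ hι fun {T} φ hφ => ⟨ModuleCat.ofHom (R.liftQ φ.hom fun p hp =>
        LinearMap.mem_ker.mpr (congrArg (fun k => k (⟨p, hp⟩ : R)) hφ)), by ext; rfl⟩
    haveI : Epi π₀ := (ModuleCat.epi_iff_surjective _).mpr R.mkQ_surjective
    haveI : E.Additive := Functor.additive_of_preserves_binary_products _
    haveI : PreservesFiniteColimits E := comp_preservesFiniteColimits _ _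
    have hcE := CokernelCofork.mapIsColimit _ hc E
    haveI := hepi
    have i₁ : E.obj (ModuleCat.of Λ (P ⧸ R)) ≅ (EtModW.pull Λ O.ι).obj (kernel (tr G q.le_succ)) :=
      hcE.coconePointUniqueUpToIso hex.gIsCokernel
    haveI : Module.Finite Λ (ModuleCat.of Λ (P ⧸ R)) := by
      haveI := hfin (q + 1)
      let L := (topGerm (G.obj (op (q + 1))) (sepPoint X η)).hom.comp (phi J g G s (q + 1))
      exact Module.Finite.of_injective (R.liftQ L le_rfl)
        (by rw [← LinearMap.ker_eq_bot, Submodule.ker_liftQ_eq_bot]; exact le_rfl)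
    have hK := isFTLocConst_of_iso (isFTLocConst_cst (X := O.toScheme) (ModuleCat.of Λ (P ⧸ R)))
      (((modPullConstIso Λ O.ι).app _).symm ≪≫ i₁)
    haveI := ARLib.isQuot_epi (hG.2 q (q + 1) q.le_succ)
    let T := ShortComplex.mk κ (tr G q.le_succ) (kernel.condition _)
    have hT : T.ShortExact := { exact := ShortComplex.exact_kernel _ }
    exact isFTLocConst_extension (hT.map_of_exact (EtModW.pull Λ O.ι)) hK ih

end Lisse

end Groth.Agent.Et18.Mod
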