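import Groth.Agent.Et18.Mod.ARApps
import Groth.Prelude.Def_EtModW
import Mathlib.RingTheory.Artinian.Module

/-!
# The Mittag-Leffler condition for systems of locally constant sheaves with Artinian reductions
-/

universe u

open CategoryTheory CategoryTheory.Limits AlgebraicGeometry Opposite ARSys

set_option backward.isDefEq.respectTransparency.types false
set_option backward.isDefEq.respectTransparency false

namespace Groth.Agent.Et18.Mod

variable {Λ : Type (u + 1)} [CommRing Λ] [IsNoetherianRing Λ] {X : Scheme.{u}}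

/-- The vanishing locus of a morphism of locally constant sheaves is open and closed. -/
theorem isClopen_zero_locus {F G : EtModW.Mod Λ X} (φ : F ⟶ G) (hF : EtModW.IsFTLocConst Λ F)
    (hG : EtModW.IsFTLocConst Λ G) :
    IsClopen {x : X | (EtModW.stalk Λ (sepPoint X x)).map φ = 0} := by
  have hI := kc_ftLocConst.image φ hF hG
  have hiff : ∀ x, (EtModW.stalk Λ (sepPoint X x)).map φ = 0 ↔
      IsZero ((EtModW.stalk Λ (sepPoint X x)).obj (Abelian.image φ)) := fun x => by
    constructor
    · intro h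
      refine IsZero.of_mono_eq_zero ((EtModW.stalk Λ (sepPoint X x)).map (Abelian.image.ι φ))
        (zero_of_epi_comp ((EtModW.stalk Λ (sepPoint X x)).map (Abelian.factorThruImage φ)) ?_)
      rw [← Functor.map_comp, Abelian.image.fac, h]
    · intro h
      rw [← Abelian.image.fac φ, Functor.map_comp, h.eq_of_tgt ((EtModW.stalk Λ (sepPoint X x)).map _) 0, zero_comp]
  have hloc : ∀ x : X, ∃ O : Set X, IsOpen O ∧ x ∈ O ∧ ∀ x' ∈ O,
      ((EtModW.stalk Λ (sepPoint X x')).map φ = 0 ↔ (EtModW.stalk Λ (sepPoint X x)).map φ = 0) := fun x => by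
    obtain ⟨U, y, A, hy, -, hU⟩ := isFTLocConst_iff.mp hI x
    haveI : Etale U.hom := U.prop
    refine ⟨Set.range U.hom, U.hom.isOpenMap.isOpen_range, ⟨y, hy⟩, ?_⟩
    rintro x' ⟨y', hy'⟩
    obtain ⟨e'⟩ := nonempty_stalk_iso' hU (sepPoint X x') y' (hy'.trans (sepPoint_default X x').symm)
    obtain ⟨e⟩ := nonempty_stalk_iso' hU (sepPoint X x) y (hy.trans (sepPoint_default X x).symm)
    rw [hiff, hiff]
    exact (e' ≪≫ e.symm).isZero_iff
  refine ⟨⟨isOpen_iff_forall_mem_open.mpr fun x hx => ?_⟩, isOpen_iff_forall_mem_open.mpr fun x hx => ?_⟩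
  all_goals obtain ⟨O, hO, hxO, h⟩ := hloc x
  · exact ⟨O, fun x' hx' hs => hx ((h x' hx').mp hs), hO, hxO⟩
  · exact ⟨O, fun x' hx' => (h x' hx').mpr hx, hO, hxO⟩

/-- A killed finite module over an Artinian reduction is Artinian. -/
theorem isArtinian_of_killed {I : Ideal Λ} [IsArtinianRing (Λ ⧸ I)] :
    ∀ (k : ℕ) {M : Type (u + 1)} [AddCommGroup M] [Module Λ M] [Module.Finite Λ M],
      (∀ a ∈ I ^ k, ∀ m : M, a • m = 0) → IsArtinian Λ M
  | 0, M, _, _, _, h => by
    haveI : Subsingleton M := ⟨fun a b => by rw [← one_smul Λ a, ← one_smul Λ b, h 1 (by simp), h 1 (by simp)]⟩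
    infer_instance
  | k + 1, M, _, _, _, h => by
    let N : Submodule Λ M := (I ^ k) • ⊤
    haveI : Module.Finite Λ N := Module.Finite.iff_fg.mpr (IsNoetherian.noetherian N)
    have h1 : IsArtinian Λ (M ⧸ N) := isArtinian_of_killed k fun a ha m => by
      obtain ⟨m, rfl⟩ := Submodule.Quotient.mk_surjective N m
      rw [← Submodule.Quotient.mk_smul, Submodule.Quotient.mk_eq_zero]
      exact Submodule.smul_mem_smul ha trivial
    have hN : Module.IsTorsionBySet Λ N I := fun ⟨n, hn⟩ ⟨a, ha⟩ => by
      ext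
      show a • n = 0
      refine Submodule.smul_induction_on hn (fun b hb m _ => ?_) (fun u v hu hv => by rw [smul_add, hu, hv, add_zero])
      rw [smul_smul]
      exact h _ (by rw [pow_succ']; exact Ideal.mul_mem_mul ha hb) m
    letI := hN.module
    haveI : IsScalarTower Λ (Λ ⧸ I) N := hN.isScalarTower
    haveI : Module.Finite (Λ ⧸ I) N := Module.Finite.of_restrictScalars_finite Λ (Λ ⧸ I) N
    haveI : IsArtinian (Λ ⧸ I) N := inferInstance
    haveI : IsArtinian Λ N := isArtinian_of_surjective_algebraMap (R := Λ ⧸ I) Ideal.Quotient.mk_surjective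
    haveI := h1
    exact isArtinian_of_range_eq_ker N.subtype N.mkQ (by rw [Submodule.range_subtype, Submodule.ker_mkQ])

/-- Systems of locally constant sheaves with Artinian reductions are Mittag-Leffler. -/
theorem exists_stable [IsNoetherian X] {I : Ideal Λ} [IsArtinianRing (Λ ⧸ I)] (F : PS (EtModW.Mod Λ X))
    (hk : TermKilled I F) (hF : ∀ n, EtModW.IsFTLocConst Λ (F.obj (op n))) (n : ℕ) :
    ∃ r : ℕ, ∀ s, r ≤ s → shiftMap F r n ≫ cokernel.π (shiftMap F s n) = 0 := by
  classical
  have hpt : ∀ x : X, ∃ r, ∀ s, r ≤ s →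
      (EtModW.stalk Λ (sepPoint X x)).map (shiftMap F r n ≫ cokernel.π (shiftMap F s n)) = 0 := by
    intro x
    let S := EtModW.stalk Λ (sepPoint X x)
    haveI := finite_stalk (hF n) (sepPoint X x)
    haveI : IsArtinian Λ (S.obj (F.obj (op n))) := isArtinian_of_killed (n + 1) fun a ha m => by
      exact congrArg (fun k => k m) (killedBy_map S (hk n) a ha)
    let R : ℕ →o (Submodule Λ (S.obj (F.obj (op n))))ᵒᵈ :=
      ⟨fun s => OrderDual.toDual (LinearMap.range (S.map (shiftMap F s n)).hom), fun s t hst => by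
        show LinearMap.range (S.map (shiftMap F t n)).hom ≤ LinearMap.range (S.map (shiftMap F s n)).hom
        rw [show shiftMap F t n = tr F (show n + s ≤ n + t by omega) ≫ shiftMap F s n from (ARLib.tr_comp F _ _).symm,
          Functor.map_comp, ModuleCat.hom_comp]
        exact LinearMap.range_comp_le_range _ _⟩
    obtain ⟨r, hr⟩ := IsArtinian.monotone_stabilizes R
    refine ⟨r, fun s hs => ModuleCat.hom_ext (LinearMap.ext fun z => ?_)⟩
    obtain ⟨w, hw⟩ : S.map (shiftMap F r n) z ∈ LinearMap.range (S.map (shiftMap F s n)).hom :=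
      (le_of_eq (congrArg OrderDual.ofDual (hr s hs)) :) ⟨z, rfl⟩
    refine (congrArg (fun k => k z) (S.map_comp (shiftMap F r n) (cokernel.π (shiftMap F s n)))).trans ?_
    refine (congrArg (S.map (cokernel.π (shiftMap F s n))) hw.symm).trans ?_
    refine (congrArg (fun k => k w) ((S.map_comp _ _).symm.trans
      (congrArg S.map (cokernel.condition (shiftMap F s n))))).trans ?_
    rw [Functor.map_zero]
    rfl
  choose r hr using hpt
  have hfin := TopologicalSpace.NoetherianSpace.finite_irreducibleComponents (α := X)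
  have hne : ∀ Z ∈ irreducibleComponents X, Z.Nonempty := fun Z hZ => hZ.1.nonempty
  haveI := hfin.fintype
  refine ⟨Finset.univ.sup fun Z : irreducibleComponents X => r (hne Z.1 Z.2).some, fun s hs => ?_⟩
  refine hom_eq_of_stalks _ _ fun x => ?_
  rw [Functor.map_zero]
  let φ := shiftMap F (Finset.univ.sup fun Z : irreducibleComponents X => r (hne Z.1 Z.2).some) n ≫
    cokernel.π (shiftMap F s n)
  have hZ := irreducibleComponent_mem_irreducibleComponents x
  let x₀ := (hne _ hZ).some
  have hle : r x₀ ≤ Finset.univ.sup fun Z : irreducibleComponents X => r (hne Z.1 Z.2).some :=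
    Finset.le_sup (f := fun Z : irreducibleComponents X => r (hne Z.1 Z.2).some) (Finset.mem_univ ⟨_, hZ⟩)
  have h0 : (EtModW.stalk Λ (sepPoint X x₀)).map φ = 0 := by
    simp only [φ, shiftMap]
    rw [← ARLib.tr_comp F (Nat.le_add_right n (r x₀)) (Nat.add_le_add_left hle n), Category.assoc, Functor.map_comp]
    exact (congrArg (fun t => _ ≫ t) (hr x₀ s (hle.trans hs))).trans comp_zero
  exact (isIrreducible_irreducibleComponent (x := x)).isConnected.isPreconnected.subset_isClopen
    (isClopen_zero_locus φ (hF _) (kc_ftLocConst.coker _ (hF _) (hF _)))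
    ⟨x₀, (hne _ hZ).some_mem, h0⟩ mem_irreducibleComponent

/-- Left adjoints transport stable images. -/
theorem isML_comp {C D : Type*} [Category* C] [Category* D] [Abelian C] [Abelian D] (L : C ⥤ D)
    [L.IsLeftAdjoint] {F : PS C} (h : ∀ n, ∃ r, ∀ s, r ≤ s → shiftMap F r n ≫ cokernel.π (shiftMap F s n) = 0) :
    IsML (F ⋙ L) := by
  intro n
  obtain ⟨r, hr⟩ := h n
  refine ⟨r, fun s hs => le_antisymm ?_ ?_⟩
  · show imageSubobject (tr (F ⋙ L) (Nat.le_add_right n s)) ≤ _
    rw [← ARLib.tr_comp (F ⋙ L) (Nat.le_add_right n r) (Nat.add_le_add_left hs n)]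
    exact imageSubobject_comp_le _ _
  · rw [ARLib.imageSubobject_le_iff]
    have h0 := congrArg L.map (hr s hs)
    rw [Functor.map_comp, Functor.map_zero] at h0
    have hπ : cokernel.π (L.map (shiftMap F s n)) =
        L.map (cokernel.π (shiftMap F s n)) ≫ (PreservesCokernel.iso L (shiftMap F s n)).hom := by
      rw [← cancel_mono (PreservesCokernel.iso L (shiftMap F s n)).inv, Category.assoc, Iso.hom_inv_id,
        Category.comp_id, PreservesCokernel.iso_inv, π_comp_cokernelComparison]
    show L.map (shiftMap F r n) ≫ cokernel.π (L.map (shiftMap F s n)) = 0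
    rw [hπ, reassoc_of% h0, zero_comp]

end Groth.Agent.Et18.Mod
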