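import Groth.Agent.Et18.Mod.ExtZeroConstr
import Groth.Agent.Et18.Mod.AdicGraded
import Groth.Agent.Et18.Mod.AdicStalk
import Groth.Agent.Et18.Mod.MLFTLC
import Groth.Agent.H8ProCons.ConsTopology
import Mathlib.Algebra.Category.ModuleCat.Products
import Mathlib.RingTheory.Flat.Basic

/-!
# Constructible sheaves of modules are quotients of finite sums of `j_! Λ`
-/

universe u

open CategoryTheory CategoryTheory.Limits AlgebraicGeometry Opposite Topology

set_option backward.isDefEq.respectTransparency.types false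
set_option backward.isDefEq.respectTransparency false

namespace Groth.Agent.Et18.Mod

open Et18 (PointLift fiberIncl finite_lifts_of_etale exists_lift_of_mem)

variable {Λ : Type (u + 1)} [CommRing Λ] {X : Scheme.{u}}

instance etale_hom (W : X.Etale) : Etale W.hom := W.prop

instance jCont_hom (W : X.Etale) : EtShriek.JCont W.hom := Et18.jCont W.hom

variable (Λ) in
/-- `j_! Λ`. -/
noncomputable abbrev jΛ (W : X.Etale) : EtModW.Mod Λ X :=
  (EtSix.extZeroMod Λ W.hom).obj (EtSix.constΛ Λ W.left)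

/-- `W`, as an image of its own final object. -/
noncomputable def topToSelf (W : X.Etale) : (EtShriek.compEtale W.hom).obj (EtCoh.top W.left) ⟶ W :=
  MorphismProperty.Over.homMk (𝟙 W.left) (by
    show 𝟙 W.left ≫ W.hom = 𝟙 W.left ≫ W.hom
    rfl)

/-- A section as a morphism out of the constant sheaf. -/
noncomputable def cstSect {F : EtModW.Mod Λ X} (W : X.Etale) (s : F.obj.obj (op W)) :
    EtSix.constΛ Λ W.left ⟶ (EtSix.restrMod Λ W.hom).obj F :=
  cstDesc (A := ModuleCat.of Λ Λ) (G := (EtSix.restrMod Λ W.hom).obj F)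
    (ModuleCat.ofHom (LinearMap.toSpanSingleton Λ
      (((EtSix.restrMod Λ W.hom).obj F).obj.obj (op (EtCoh.top W.left))) (F.obj.map (topToSelf W).op s)))

/-- A section as a morphism out of `j_! Λ`. -/
noncomputable def sectHom {F : EtModW.Mod Λ X} (W : X.Etale) (s : F.obj.obj (op W)) : jΛ Λ W ⟶ F :=
  ((EtSix.extZeroModAdj Λ W.hom).homEquiv _ F).symm (cstSect W s)

/-- The germ of the section is in the image. -/
theorem exists_stalk_sectHom {F : EtModW.Mod Λ X} (W : X.Etale) (s : F.obj.obj (op W))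
    {Ω : Type u} [Field Ω] [IsSepClosed Ω] (ξ : Spec (CommRingCat.of Ω) ⟶ X)
    (w : (Scheme.pointSmallEtale ξ).fiber.obj W) :
    ∃ t, (EtModW.stalk Λ ξ).map (sectHom W s) t = (Scheme.pointSmallEtale ξ).toPresheafFiber W w F.obj s := by
  let u : PointLift W.hom ξ := ⟨w.left, Over.w w⟩
  refine ⟨extZeroInj W.hom ξ _ u (cstGerm u.1 (ModuleCat.of Λ Λ) (1 : Λ)), ?_⟩
  have h1 : extZeroInj W.hom ξ _ u ≫ (EtModW.stalk Λ ξ).map (sectHom W s) =
      (EtModW.stalk Λ u.1).map (cstSect W s) ≫ restrStalkMap W.hom ξ u F := by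
    rw [sectHom, Adjunction.homEquiv_counit, Functor.map_comp, restrStalkMap, ← Category.assoc,
      ← Category.assoc]
    exact congrArg (fun t => t ≫ _) (extZeroInj_naturality W.hom ξ (cstSect W s) u).symm
  refine (congrArg (fun k => k (cstGerm u.1 (ModuleCat.of Λ Λ) (1 : Λ))) h1).trans ?_
  refine (congrArg (restrStalkMap W.hom ξ u F) (stalk_map_cstDesc (A := ModuleCat.of Λ Λ) _ u.1 (1 : Λ))).trans ?_
  let V := EtCoh.top W.left
  refine (congrArg (fun k : ((EtSix.restrMod Λ W.hom).obj F).obj.obj (op V) ⟶ (EtModW.stalk Λ ξ).obj F => k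
    ((1 : Λ) • F.obj.map (topToSelf W).op s)) (germ_restrStalkMap W.hom ξ u F V (topPt u.1))).trans ?_
  show (Scheme.pointSmallEtale ξ).toPresheafFiber _ (fiberIncl u (topPt u.1)) F.obj
    ((1 : Λ) • F.obj.map (topToSelf W).op s) = _
  rw [one_smul]
  refine ((Scheme.pointSmallEtale ξ).toPresheafFiber_w_apply (topToSelf W) (fiberIncl u (topPt u.1)) F.obj s).trans ?_
  exact congrArg (fun z => (Scheme.pointSmallEtale ξ).toPresheafFiber W z F.obj s)
    (Over.OverMorphism.ext (Category.comp_id _))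

/-- Germs come from sections over affines. -/
theorem exists_affine_section (F : EtModW.Mod Λ X) {Ω : Type u} [Field Ω] [IsSepClosed Ω]
    (ξ : Spec (CommRingCat.of Ω) ⟶ X) (a : (EtModW.stalk Λ ξ).obj F) :
    ∃ (W : X.Etale) (w : (Scheme.pointSmallEtale ξ).fiber.obj W) (s : F.obj.obj (op W)),
      IsAffine W.left ∧ (Scheme.pointSmallEtale ξ).toPresheafFiber W w F.obj s = a := by
  let Φ := Scheme.pointSmallEtale ξ
  obtain ⟨W, w, s, rfl⟩ := Φ.toPresheafFiber_jointly_surjective (P := F.obj) a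
  obtain ⟨O, hO, hy, -⟩ := exists_isAffineOpen_mem_and_subset (X := W.left) (x := fiberPt w) (U := ⊤) trivial
  let W' : X.Etale := Scheme.Etale.mk (O.ι ≫ W.hom)
  let k : W' ⟶ W := MorphismProperty.Over.homMk O.ι rfl
  obtain ⟨t, ht⟩ := exists_lift_of_mem (w.left : Spec (CommRingCat.of Ω) ⟶ W.left) O.ι
    (by rw [Scheme.Opens.range_ι]; exact hy)
  let w' : Φ.fiber.obj W' := Over.homMk t (by
    show t ≫ O.ι ≫ W.hom = ξ
    rw [← Category.assoc, ht]
    exact Over.w w)
  refine ⟨W', w', F.obj.map k.op s, hO, ?_⟩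
  refine (Φ.toPresheafFiber_w_apply k w' F.obj s).trans ?_
  exact congrArg (fun z => Φ.toPresheafFiber W z F.obj s) (Over.OverMorphism.ext ht)

variable [IsNoetherianRing Λ]

/-- The vanishing locus of the stalks of a constructible sheaf. -/
theorem isLocallyConstructible_zeroStalk {F : EtModW.Mod Λ X} (hF : EtModW.IsConstructible Λ F) :
    IsLocallyConstructible {x : X | IsZero ((EtModW.stalk Λ (sepPoint X x)).obj F)} := by
  refine IsLocallyConstructible.of_isOpenCover (U := fun U : X.affineOpens => U.1)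
    (iSup_affineOpens_eq_top X) fun U => ?_
  have := (Et18.qcqs_of_isAffineOpen U.2).1
  have := (Et18.qcqs_of_isAffineOpen U.2).2
  obtain ⟨ι, hι, T, g, hg, hc, hd, hu, hFi⟩ := (isConstructible_iff_affine F).mp hF U.1 U.2
  let G := (EtModW.pull Λ U.1.ι).obj F
  have hcl : ∀ i, IsClopen {t : T i | IsZero ((EtModW.stalk Λ (sepPoint (T i) t)).obj ((EtModW.pull Λ (g i)).obj G))} :=
    fun i => by
      have := isClopen_zero_locus (𝟙 _) (hFi i) (hFi i)
      simpa only [CategoryTheory.Functor.map_id, ← IsZero.iff_id_eq_zero] using this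
  have hiff : ∀ {S : Scheme.{u}} (f : S ⟶ U.1.toScheme) (t : S),
      IsZero ((EtModW.stalk Λ (sepPoint S t)).obj ((EtModW.pull Λ f).obj G)) ↔
        IsZero ((EtModW.stalk Λ (sepPoint U.1.toScheme (f t))).obj G) := fun f t => by
    exact ((stalkPullIso Λ f _).app G).isZero_iff.trans
      (isZero_stalk_iff G _ _ ((congrArg f (sepPoint_default _ t)).trans (sepPoint_default _ _).symm))
  have key : IsLocallyConstructible {z : U.1.toScheme | IsZero ((EtModW.stalk Λ (sepPoint U.1.toScheme z)).obj G)} := by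
    have heq : {z : U.1.toScheme | IsZero ((EtModW.stalk Λ (sepPoint U.1.toScheme z)).obj G)} =
        ⋃ i, g i '' {t : T i | IsZero ((EtModW.stalk Λ (sepPoint (T i) t)).obj ((EtModW.pull Λ (g i)).obj G))} := by
      ext z
      simp only [Set.mem_setOf_eq, Set.mem_iUnion, Set.mem_image, hiff]
      refine ⟨fun h => ?_, fun ⟨i, t, ht, e⟩ => e ▸ ht⟩
      obtain ⟨i, t, rfl⟩ := Set.mem_iUnion.mp (hu.symm ▸ Set.mem_univ z : z ∈ ⋃ i, Set.range (g i))
      exact ⟨i, t, h, rfl⟩
    rw [heq]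
    exact IsLocallyConstructible.iUnion fun i =>
      Et18.isLocallyConstructible_image (g i) (hc i) (Et18.isLocallyConstructible_of_isClopen (hcl i))
  have heq : {z : U.1.toScheme | IsZero ((EtModW.stalk Λ (sepPoint U.1.toScheme z)).obj G)} =
      U.1.ι ⁻¹' {x : X | IsZero ((EtModW.stalk Λ (sepPoint X x)).obj F)} := Set.ext fun z =>
    ((stalkPullIso Λ U.1.ι _).app F).isZero_iff.trans
      (isZero_stalk_iff F _ _ ((congrArg U.1.ι (sepPoint_default _ z)).trans (sepPoint_default X _).symm))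
  rw [heq] at key
  exact key

theorem isConstructible_of_isZero {F : EtModW.Mod Λ X} (h : IsZero F) : EtModW.IsConstructible Λ F :=
  isConstructible_of_isFTLocConst (isFTLocConst_of_isZero h)

theorem isConstructible_biproduct : ∀ {n : ℕ} (F : Fin n → EtModW.Mod Λ X),
    (∀ i, EtModW.IsConstructible Λ (F i)) → EtModW.IsConstructible Λ (⨁ F)
  | 0, F, _ => isConstructible_of_isZero
      ((IsZero.iff_id_eq_zero _).mpr (biproduct.hom_ext' _ _ fun i => i.elim0))
  | _ + 1, F, h => isConstructible_of_iso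
      (isConstructible_extension
        (S := ShortComplex.mk (biprod.inl : F 0 ⟶ F 0 ⊞ (⨁ fun i => F i.succ)) biprod.snd biprod.inl_snd)
        (ShortComplex.Splitting.shortExact { r := biprod.fst, s := biprod.inr }) (h 0)
        (isConstructible_biproduct _ fun i => h i.succ))
      (biproductFinSuccIso F)

theorem isConstructible_jΛ [QuasiSeparatedSpace X] (W : X.Etale) [IsAffine W.left] :
    EtModW.IsConstructible Λ (jΛ Λ W) :=
  haveI hc : CompactSpace W.left := inferInstance
  haveI hq : QuasiSeparatedSpace W.left := inferInstance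
  @isConstructible_extZero Λ _ W.left X _ W.hom _ _ hc hq _ _ (isConstructible_cst (ModuleCat.of Λ Λ))

theorem isConstructible_sum [QuasiSeparatedSpace X] {m : ℕ} (W : Fin m → X.Etale)
    (h : ∀ i, IsAffine (W i).left) : EtModW.IsConstructible Λ (∐ fun i => jΛ Λ (W i)) :=
  isConstructible_of_iso (isConstructible_biproduct _ fun i => haveI := h i; isConstructible_jΛ (W i))
    (biproduct.isoCoproduct _)

/-- Generators of a constructible quotient. -/
theorem exists_epi_generators [CompactSpace X] [QuasiSeparatedSpace X] {A B : EtModW.Mod Λ X} (v : A ⟶ B)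
    [Epi v] (hB : EtModW.IsConstructible Λ B) :
    ∃ (m : ℕ) (W : Fin m → X.Etale), (∀ i, IsAffine (W i).left) ∧
      ∃ w : (∐ fun i => jΛ Λ (W i)) ⟶ A, Epi (w ≫ v) := by
  classical
  have hfg : ∀ x : X, ∃ (r : ℕ) (b : Fin r → (EtModW.stalk Λ (sepPoint X x)).obj B),
      Submodule.span Λ (Set.range b) = ⊤ := fun x => by
    haveI := finite_stalk_of_isConstructible hB (sepPoint X x)
    exact Module.Finite.exists_fin
  choose r b hb using hfg
  have hsurj : ∀ x : X, Function.Surjective ((EtModW.stalk Λ (sepPoint X x)).map v) := fun x =>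
    (ModuleCat.epi_iff_surjective _).mp inferInstance
  choose a ha using fun (x : X) (i : Fin (r x)) => hsurj x (b x i)
  choose W w s hW hs using fun (x : X) (i : Fin (r x)) => exists_affine_section A (sepPoint X x) (a x i)
  let φ : ∀ x, (∐ fun i => jΛ Λ (W x i)) ⟶ B := fun x => Sigma.desc fun i => sectHom (W x i) (s x i) ≫ v
  let Good : X → Set X := fun x => {z | IsZero ((EtModW.stalk Λ (sepPoint X z)).obj (cokernel (φ x)))}
  have hmem : ∀ x, x ∈ Good x := fun x => by
    let ξ := sepPoint X x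
    haveI : Epi ((EtModW.stalk Λ ξ).map (φ x)) := by
      refine (ModuleCat.epi_iff_surjective _).mpr (LinearMap.range_eq_top.mp ?_)
      rw [eq_top_iff, ← hb x, Submodule.span_le]
      rintro _ ⟨i, rfl⟩
      obtain ⟨t, ht⟩ := exists_stalk_sectHom (W x i) (s x i) ξ (w x i)
      refine ⟨(EtModW.stalk Λ ξ).map (Sigma.ι (fun i => jΛ Λ (W x i)) i) t, ?_⟩
      show ((EtModW.stalk Λ ξ).map (Sigma.ι _ i) ≫ (EtModW.stalk Λ ξ).map (φ x)) t = b x i
      rw [← Functor.map_comp, Sigma.ι_desc, Functor.map_comp, ConcreteCategory.comp_apply, ht, hs, ha]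
    exact (isZero_cokernel_of_epi _).of_iso (PreservesCokernel.iso (EtModW.stalk Λ ξ) (φ x))
  have hopen : ∀ x, IsOpen[constructibleTopology X] (Good x) := fun x =>
    H8ProCons.isOpen_cons_of_isLocallyConstructible (isLocallyConstructible_zeroStalk
      (isConstructible_cokernel (φ x) (isConstructible_sum _ (hW x)) hB))
  obtain ⟨t, ht⟩ := @IsCompact.elim_finite_subcover X (constructibleTopology X) Set.univ X
    (H8ProCons.isCompact_cons (@isClosed_univ X (constructibleTopology X))) Good hopen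
    fun x _ => Set.mem_iUnion.mpr ⟨x, hmem x⟩
  obtain ⟨m, ⟨e⟩⟩ := Finite.exists_equiv_fin (Σ x : t, Fin (r x.1))
  let W' : Fin m → X.Etale := fun j => W (e.symm j).1.1 (e.symm j).2
  let w' : (∐ fun j => jΛ Λ (W' j)) ⟶ A :=
    Sigma.desc fun j => sectHom (W (e.symm j).1.1 (e.symm j).2) (s (e.symm j).1.1 (e.symm j).2)
  refine ⟨m, W', fun j => hW _ _, w', Preadditive.epi_of_isZero_cokernel _ (isZero_of_stalks fun z => ?_)⟩
  obtain ⟨x, hx, hz⟩ := Set.mem_iUnion₂.mp (ht (Set.mem_univ z))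
  have hfac : ∀ i, sectHom (W x i) (s x i) ≫ v ≫ cokernel.π (w' ≫ v) = 0 := fun i => by
    have key : ∀ q : Σ x : t, Fin (r x.1),
        sectHom (W q.1.1 q.2) (s q.1.1 q.2) ≫ v ≫ cokernel.π (w' ≫ v) = 0 := fun q => by
      have h0 : ∀ j, sectHom (W (e.symm j).1.1 (e.symm j).2) (s (e.symm j).1.1 (e.symm j).2) ≫ v ≫
          cokernel.π (w' ≫ v) = 0 := fun j => by
        rw [← Sigma.ι_desc (fun j => sectHom (W (e.symm j).1.1 (e.symm j).2) (s (e.symm j).1.1 (e.symm j).2)) j,
          Category.assoc, ← Category.assoc w', cokernel.condition, comp_zero]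
      exact e.symm_apply_apply q ▸ h0 (e q)
    exact key ⟨⟨x, hx⟩, i⟩
  let r' : cokernel (φ x) ⟶ cokernel (w' ≫ v) := cokernel.desc _ (cokernel.π (w' ≫ v))
    (Sigma.hom_ext _ _ fun i => by rw [comp_zero, Sigma.ι_desc_assoc, Category.assoc, hfac])
  haveI : Epi r' := by
    haveI : Epi (cokernel.π (φ x) ≫ r') := by rw [cokernel.π_desc]; infer_instance
    exact epi_of_epi (cokernel.π (φ x)) r'
  exact IsZero.of_epi ((EtModW.stalk Λ (sepPoint X z)).map r') hz

/-- The stalks of `j_! Λ` are flat. -/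
theorem flat_stalk_jΛ (W : X.Etale) {Ω : Type u} [Field Ω] [IsSepClosed Ω]
    (ξ : Spec (CommRingCat.of Ω) ⟶ X) : Module.Flat Λ ((EtModW.stalk Λ ξ).obj (jΛ Λ W)) := by
  classical
  let Z : PointLift W.hom ξ → ModuleCat.{u + 1} Λ := fun u =>
    (EtModW.stalk Λ u.1).obj (EtSix.constΛ Λ W.left)
  haveI : ∀ u, Module.Flat Λ (Z u) := fun u =>
    Module.Flat.of_linearEquiv (asIso (cstGerm u.1 (ModuleCat.of Λ Λ))).toLinearEquiv.symm
  exact Module.Flat.of_linearEquiv
    ((extZeroStalkIso W.hom ξ (EtSix.constΛ Λ W.left)) ≪≫ ModuleCat.coprodIsoDirectSum.{u + 1, u, u + 1} Z).toLinearEquiv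

theorem flat_stalk_sum {m : ℕ} (W : Fin m → X.Etale) {Ω : Type u} [Field Ω] [IsSepClosed Ω]
    (ξ : Spec (CommRingCat.of Ω) ⟶ X) : Module.Flat Λ ((EtModW.stalk Λ ξ).obj (∐ fun i => jΛ Λ (W i))) := by
  classical
  haveI : ∀ i, Module.Flat Λ ((EtModW.stalk Λ ξ).obj (jΛ Λ (W i))) := fun i => flat_stalk_jΛ (W i) ξ
  exact Module.Flat.of_linearEquiv
    ((PreservesCoproduct.iso (EtModW.stalk Λ ξ) _) ≪≫ ModuleCat.coprodIsoDirectSum.{u + 1, 0, u + 1} _).toLinearEquiv

end Groth.Agent.Et18.Mod
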