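import Groth.Agent.Et18.Mod.TensorNat
import Groth.Agent.Et18.Mod.Generators
import Groth.Agent.Et18.StalkIndep
import Groth.Agent.DCat.KFlatRes
import Mathlib.CategoryTheory.Abelian.GrothendieckCategory.Basic

/-!
# K-flat complexes of sheaves of modules on the small étale site
-/

universe u

open CategoryTheory CategoryTheory.Limits AlgebraicGeometry Opposite MonoidalCategory HomologicalComplex
open Groth.Agent.DCat

set_option backward.isDefEq.respectTransparency.types false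
set_option backward.isDefEq.respectTransparency false
set_option synthInstance.maxHeartbeats 200000
set_option maxHeartbeats 800000

namespace Groth.Agent.Et18.Mod

variable {Λ : Type (u + 1)} [CommRing Λ] {X Y : Scheme.{u}}

variable (Λ X) in
/-- The tensor bifunctor. -/
noncomputable abbrev eT : EtModW.Mod Λ X ⥤ EtModW.Mod Λ X ⥤ EtModW.Mod Λ X := EtModD.tensorBi Λ X

section Stalk

variable {Ω : Type u} [Field Ω] [IsSepClosed Ω] (ξ : Spec (CommRingCat.of Ω) ⟶ X)

variable (Λ) in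
/-- Stalks of complexes. -/
noncomputable abbrev stalkK :
    CochainComplex (EtModW.Mod Λ X) ℤ ⥤ CochainComplex (ModuleCat.{u + 1} Λ) ℤ :=
  (EtModW.stalk Λ ξ).mapHomologicalComplex (ComplexShape.up ℤ)

/-- The stalk of a total tensor complex. -/
noncomputable def stalkTotIso (M K : CochainComplex (EtModW.Mod Λ X) ℤ) :
    (stalkK Λ ξ).obj (tot (eT Λ X) M K) ≅ tot (modT Λ) ((stalkK Λ ξ).obj M) ((stalkK Λ ξ).obj K) :=
  mapTotIso (eT Λ X) (modT Λ) (EtModW.stalk Λ ξ) (EtModW.stalk Λ ξ) (EtModW.stalk Λ ξ)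
    (fun F G => (tensStalkIso ξ F G).symm) (fun a G => stalkTens_nat₁ ξ a G)
    (fun F _ _ b => stalkTens_nat₂ ξ F b) M K

lemma stalkTotIso_natural {M M' K K' : CochainComplex (EtModW.Mod Λ X) ℤ} (f : M ⟶ M') (g : K ⟶ K') :
    (stalkK Λ ξ).map (mapBifunctorMap f g (eT Λ X) (ComplexShape.up ℤ)) ≫ (stalkTotIso ξ M' K').hom =
      (stalkTotIso ξ M K).hom ≫ mapBifunctorMap ((stalkK Λ ξ).map f) ((stalkK Λ ξ).map g)
        (modT Λ) (ComplexShape.up ℤ) :=
  mapTotHom_natural (fun a G => stalkTens_nat₁ ξ a G) (fun F _ _ b => stalkTens_nat₂ ξ F b) f g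

theorem acyclic_stalk {M : CochainComplex (EtModW.Mod Λ X) ℤ} (hM : M.Acyclic) :
    ((stalkK Λ ξ).obj M).Acyclic := fun n => (hM n).map (EtModW.stalk Λ ξ)

instance quasiIso_stalk {M N : CochainComplex (EtModW.Mod Λ X) ℤ} (φ : M ⟶ N) [QuasiIso φ] :
    QuasiIso ((stalkK Λ ξ).map φ) := inferInstance

end Stalk

theorem acyclic_of_stalks {M : CochainComplex (EtModW.Mod Λ X) ℤ}
    (h : ∀ x : X, ((stalkK Λ (sepPoint X x)).obj M).Acyclic) : M.Acyclic := fun n =>
  exact_of_stalks (M.sc n) fun x => h x n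

theorem quasiIso_of_stalks {M N : CochainComplex (EtModW.Mod Λ X) ℤ} (φ : M ⟶ N)
    (h : ∀ x : X, QuasiIso ((stalkK Λ (sepPoint X x)).map φ)) : QuasiIso φ := by
  refine ⟨fun n => (quasiIsoAt_iff_isIso_homologyMap φ n).mpr (isIso_of_stalks _ fun x => ?_)⟩
  let F := EtModW.stalk Λ (sepPoint X x)
  haveI := h x
  haveI hi : IsIso (ShortComplex.homologyMap (F.mapShortComplex.map
      ((shortComplexFunctor _ (ComplexShape.up ℤ) n).map φ))) :=
    inferInstanceAs (IsIso (HomologicalComplex.homologyMap ((stalkK Λ (sepPoint X x)).map φ) n))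
  have hn := ShortComplex.mapHomologyIso_hom_naturality (F := F)
    ((shortComplexFunctor _ (ComplexShape.up ℤ) n).map φ)
  haveI : IsIso (F.map (HomologicalComplex.homologyMap φ n) ≫
      ((N.sc n).mapHomologyIso F).inv) := by
    have : F.map (HomologicalComplex.homologyMap φ n) ≫ ((N.sc n).mapHomologyIso F).inv =
        ((M.sc n).mapHomologyIso F).inv ≫ ShortComplex.homologyMap (F.mapShortComplex.map
          ((shortComplexFunctor _ (ComplexShape.up ℤ) n).map φ)) :=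
      (ShortComplex.mapHomologyIso_inv_naturality (F := F) ((shortComplexFunctor _ (ComplexShape.up ℤ) n).map φ))
    rw [this]
    infer_instance
  exact IsIso.of_isIso_comp_right _ ((N.sc n).mapHomologyIso F).inv

/-- K-flat on all stalks. -/
def KF (P : CochainComplex (EtModW.Mod Λ X) ℤ) : Prop :=
  ∀ x : X, IsKFlatFor (modT Λ) ((stalkK Λ (sepPoint X x)).obj P)

/-- Flat stalks. -/
def SF (F : EtModW.Mod Λ X) : Prop :=
  ∀ x : X, Module.Flat Λ ((EtModW.stalk Λ (sepPoint X x)).obj F)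

theorem isKFlatFor_of_kf {P : CochainComplex (EtModW.Mod Λ X) ℤ} (h : KF P) : IsKFlatFor (eT Λ X) P :=
  fun M hM => acyclic_of_stalks fun x =>
    acyclic_of_iso' (stalkTotIso (sepPoint X x) M P).symm (h x _ (acyclic_stalk (sepPoint X x) hM))

theorem quasiIso_tot₁ {P Q : CochainComplex (EtModW.Mod Λ X) ℤ} (hP : KF P) (hQ : KF Q) (α : P ⟶ Q)
    [QuasiIso α] (E : CochainComplex (EtModW.Mod Λ X) ℤ) : QuasiIso (totMap₁ (eT Λ X) α E) := by
  refine quasiIso_of_stalks _ fun x => ?_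
  let ξ := sepPoint X x
  let s := (stalkK Λ ξ).map α
  let E' := (stalkK Λ ξ).obj E
  haveI := quasiIso_tot_of_kflat (hP x) (hQ x) s E'
  haveI : QuasiIso (totMap₁ (modT Λ) s E') := by
    refine (quasiIso_iff_comp_right _ (totSymm _ E').hom).1 ?_
    rw [show totMap₁ (modT Λ) s E' ≫ (totSymm _ E').hom = (totSymm _ E').hom ≫ totMap₂ (modT Λ) E' s from
      totSymm_natural s (𝟙 E')]
    infer_instance
  refine (quasiIso_iff_comp_right _ (stalkTotIso ξ Q E).hom).1 ?_
  have e := stalkTotIso_natural ξ α (𝟙 E)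
  rw [CategoryTheory.Functor.map_id] at e
  rw [e]
  infer_instance

theorem quasiIso_tot₂ {P : CochainComplex (EtModW.Mod Λ X) ℤ} (hP : KF P)
    {E E' : CochainComplex (EtModW.Mod Λ X) ℤ} (β : E ⟶ E') [QuasiIso β] :
    QuasiIso (totMap₂ (eT Λ X) P β) := by
  refine quasiIso_of_stalks _ fun x => ?_
  let ξ := sepPoint X x
  let s := (stalkK Λ ξ).map β
  let P' := (stalkK Λ ξ).obj P
  haveI := (hP x).quasiIso_map s
  haveI : QuasiIso (totMap₂ (modT Λ) P' s) := by
    refine (quasiIso_iff_comp_right _ (totSymm P' _).hom).1 ?_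
    rw [show totMap₂ (modT Λ) P' s ≫ (totSymm P' _).hom = (totSymm P' _).hom ≫ totMap₁ (modT Λ) s P' from
      totSymm_natural (𝟙 P') s]
    infer_instance
  refine (quasiIso_iff_comp_right _ (stalkTotIso ξ P E').hom).1 ?_
  have e := stalkTotIso_natural ξ (𝟙 P) β
  rw [CategoryTheory.Functor.map_id] at e
  rw [e]
  infer_instance

/-- Stalks at equal points. -/
theorem nonempty_stalk_iso_sepPoint {Ω : Type u} [Field Ω] [IsSepClosed Ω] (ξ : Spec (CommRingCat.of Ω) ⟶ X)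
    (x : X) (h : ξ default = x) : Nonempty (EtModW.stalk Λ ξ ≅ EtModW.stalk Λ (sepPoint X x)) := by
  obtain ⟨σ, rfl⟩ := exists_fac_sepPoint ξ x h
  exact ⟨sheafFiberIsoOfIso (A := ModuleCat.{u + 1} Λ) (extendPointIso σ (sepPoint X x))⟩

/-- Stalks of inverse images at the standard points. -/
theorem nonempty_stalk_pull_iso (f : X ⟶ Y) (x : X) :
    Nonempty (EtModW.pull Λ f ⋙ EtModW.stalk Λ (sepPoint X x) ≅ EtModW.stalk Λ (sepPoint Y (f x))) := by
  obtain ⟨e⟩ := nonempty_stalk_iso_sepPoint (Λ := Λ) (sepPoint X x ≫ f) (f x)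
    (congrArg f (sepPoint_default X x))
  exact ⟨stalkPullIso Λ f _ ≪≫ e⟩

theorem KF.pull {P : CochainComplex (EtModW.Mod Λ Y) ℤ} (h : KF P) (f : X ⟶ Y) :
    KF (((EtModW.pull Λ f).mapHomologicalComplex (ComplexShape.up ℤ)).obj P) := fun x => by
  obtain ⟨e⟩ := nonempty_stalk_pull_iso (Λ := Λ) f x
  exact IsKFlatFor.of_iso ((NatIso.mapHomologicalComplex e (ComplexShape.up ℤ)).app P).symm (h (f x))

theorem kf_of_flat (P : CochainComplex (EtModW.Mod Λ X) ℤ) (b : ℤ) (hb : ∀ n, b < n → IsZero (P.X n))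
    (h : ∀ n, SF (P.X n)) : KF P := fun x =>
  isKFlatFor_of_flat _ b (fun n hn => (EtModW.stalk Λ _).map_isZero (hb n hn)) fun n => h n x

theorem sf_of_isZero {F : EtModW.Mod Λ X} (h : IsZero F) : SF F := fun x => by
  haveI := ModuleCat.subsingleton_of_isZero ((EtModW.stalk Λ (sepPoint X x)).map_isZero h)
  exact (inferInstance : Module.Flat Λ ((EtModW.stalk Λ (sepPoint X x)).obj F))

instance stalk_preservesCoproducts {Ω : Type u} [Field Ω] [IsSepClosed Ω]
    (ξ : Spec (CommRingCat.of Ω) ⟶ X) : PreservesColimitsOfSize.{u + 1, u + 1} (EtModW.stalk Λ ξ) :=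
  ((Scheme.pointSmallEtale ξ).skyscraperSheafAdjunction (A := ModuleCat.{u + 1} Λ)).leftAdjoint_preservesColimits

/-- The stalks of `j_! Λ` are flat, for any ring. -/
theorem flat_stalk_jΛ' (W : X.Etale) {Ω : Type u} [Field Ω] [IsSepClosed Ω]
    (ξ : Spec (CommRingCat.of Ω) ⟶ X) : Module.Flat Λ ((EtModW.stalk Λ ξ).obj (jΛ Λ W)) := by
  classical
  let Z : PointLift W.hom ξ → ModuleCat.{u + 1} Λ := fun u =>
    (EtModW.stalk Λ u.1).obj (EtSix.constΛ Λ W.left)
  haveI : ∀ u, Module.Flat Λ (Z u) := fun u =>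
    Module.Flat.of_linearEquiv (asIso (cstGerm u.1 (ModuleCat.of Λ Λ))).toLinearEquiv.symm
  exact Module.Flat.of_linearEquiv
    ((extZeroStalkIso W.hom ξ (EtSix.constΛ Λ W.left)) ≪≫ ModuleCat.coprodIsoDirectSum.{u + 1, u, u + 1} Z).toLinearEquiv

/-- Every sheaf is a quotient of a sheaf with flat stalks. -/
theorem exists_sf_cover (F : EtModW.Mod Λ X) :
    ∃ (U : EtModW.Mod Λ X) (p : U ⟶ F), Epi p ∧ SF U := by
  classical
  let ι := Σ W : X.Etale, PLift (IsAffine W.left) × F.obj.obj (op W)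
  haveI : HasColimitsOfSize.{u + 1, u + 1} (EtModW.Mod Λ X) :=
    IsGrothendieckAbelian.hasColimits (EtModW.Mod Λ X)
  let Z : ι → EtModW.Mod Λ X := fun i => jΛ Λ i.1
  refine ⟨∐ Z, Sigma.desc fun i => sectHom i.1 i.2.2, epi_of_stalks _ fun x a => ?_, fun x => ?_⟩
  · obtain ⟨W, w, s, hW, rfl⟩ := exists_affine_section F (sepPoint X x) a
    obtain ⟨t, ht⟩ := exists_stalk_sectHom W s (sepPoint X x) w
    let i : ι := ⟨W, ⟨hW⟩, s⟩
    refine ⟨(EtModW.stalk Λ (sepPoint X x)).map (Sigma.ι Z i) t, ?_⟩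
    rw [← ConcreteCategory.comp_apply, ← Functor.map_comp, Sigma.ι_desc]
    exact ht
  · haveI : ∀ i, Module.Flat Λ ((EtModW.stalk Λ (sepPoint X x)).obj (Z i)) := fun i =>
      flat_stalk_jΛ' i.1 (sepPoint X x)
    exact Module.Flat.of_linearEquiv ((PreservesCoproduct.iso (EtModW.stalk Λ (sepPoint X x)) Z) ≪≫
      ModuleCat.coprodIsoDirectSum.{u + 1, u + 1, u + 1} _).toLinearEquiv

theorem kf_zeroD (U : ℤ → EtModW.Mod Λ X) (h : ∀ n, SF (U n)) : KF (zeroD U) := fun x => by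
  refine IsKFlatFor.of_iso (K := zeroD fun n => (EtModW.stalk Λ (sepPoint X x)).obj (U n))
    (Hom.isoOfComponents (fun n => Iso.refl _) fun i j _ => ?_)
    (isKFlatFor_zeroD.{u + 1} (fun n => (EtModW.stalk Λ (sepPoint X x)).obj (U n)) fun n => h n x)
  simp [zeroD]

theorem kf_shift {P : CochainComplex (EtModW.Mod Λ X) ℤ} (n : ℤ) (h : KF P) :
    KF ((CategoryTheory.shiftFunctor (CochainComplex (EtModW.Mod Λ X) ℤ) n).obj P) := fun x =>
  IsKFlatFor.of_iso
    ((((EtModW.stalk Λ (sepPoint X x)).mapHomologicalComplex (ComplexShape.up ℤ)).commShiftIso n).app P).symm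
    ((h x).shift n)

theorem kf_ext (S : ShortComplex (CochainComplex (EtModW.Mod Λ X) ℤ))
    (hS : ∀ n, Nonempty ((S.map (HomologicalComplex.eval _ (ComplexShape.up ℤ) n)).Splitting))
    (h₁ : KF S.X₁) (h₃ : KF S.X₃) : KF S.X₂ := fun x =>
  haveI : HasCountableCoproducts (ModuleCat.{u + 1} Λ) := inferInstance
  haveI : CountableAB4 (ModuleCat.{u + 1} Λ) :=
    haveI : HasExactColimitsOfShape ℕ (ModuleCat.{u + 1} Λ) := hasExactColimitsOfShape_nat
    haveI := Abelian.hasFiniteBiproducts (C := ModuleCat.{u + 1} Λ)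
    CountableAB4.of_countableAB5 _
  IsKFlatFor.ext₂ (S := S.map (stalkK Λ (sepPoint X x)))
    (fun a q => shortExact_map_of_splitting
      (fun n => ⟨(hS n).some.map (EtModW.stalk Λ (sepPoint X x))⟩) a q) (h₁ x) (h₃ x)

theorem kf_colimit (F : ℕ ⥤ CochainComplex (EtModW.Mod Λ X) ℤ) (c : Cocone F) (hc : IsColimit c)
    (h : ∀ j, KF (F.obj j)) : KF c.pt := fun x => by
  refine IsKFlatFor.colimit (F := F ⋙ stalkK Λ (sepPoint X x)) (c := (stalkK Λ (sepPoint X x)).mapCocone c)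
    (fun a q => ?_) fun j => h j x
  haveI : PreservesColimitsOfShape ℕ ((modT Λ).obj a) :=
    inferInstanceAs (PreservesColimitsOfShape ℕ (tensorLeft a))
  exact isColimitOfPreserves ((modT Λ).obj a) (isColimitOfPreserves (EtModW.stalk Λ (sepPoint X x))
    (isColimitOfPreserves (HomologicalComplex.eval _ (ComplexShape.up ℤ) q) hc))

theorem sf_splitting (S : ShortComplex (EtModW.Mod Λ X)) (σ : S.Splitting) (h₁ : SF S.X₁) (h₃ : SF S.X₃) :
    SF S.X₂ := fun x => flat_of_splitting _ (σ.map (EtModW.stalk Λ (sepPoint X x))) (h₁ x) (h₃ x)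

theorem sf_colimit (F : ℕ ⥤ EtModW.Mod Λ X) (c : Cocone F) (hc : IsColimit c) (h : ∀ j, SF (F.obj j)) :
    SF c.pt := fun x =>
  flat_of_isColimit (isColimitOfPreserves (EtModW.stalk Λ (sepPoint X x)) hc) fun j => h j x

/-- K-flat resolutions of bounded above complexes, bounded above. -/
theorem exists_kf_le (L : CochainComplex (EtModW.Mod Λ X) ℤ) (b : ℤ) (hb : ∀ n, b < n → IsZero (L.X n)) :
    ∃ (N : CochainComplex (EtModW.Mod Λ X) ℤ) (c : N ⟶ L), KF N ∧ QuasiIso c ∧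
      ∀ n, b < n → IsZero (N.X n) := by
  haveI : HasColimitsOfShape ℕ (EtModW.Mod Λ X) := inferInstance
  haveI : HasExactColimitsOfShape ℕ (EtModW.Mod Λ X) := hasExactColimitsOfShape_nat
  obtain ⟨N, c, hN, -, hc, hb'⟩ := exists_cell_res_le KF SF exists_sf_cover kf_zeroD
    (fun _ n h => kf_shift n h) kf_ext sf_splitting kf_colimit sf_colimit (fun _ h => sf_of_isZero h) L b hb
  exact ⟨N, c, hN, hc, hb'⟩

/-- K-flat resolutions. -/
theorem exists_kf (L : CochainComplex (EtModW.Mod Λ X) ℤ) :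
    ∃ (N : CochainComplex (EtModW.Mod Λ X) ℤ) (c : N ⟶ L), KF N ∧ QuasiIso c := by
  haveI : HasColimitsOfShape ℕ (EtModW.Mod Λ X) := inferInstance
  haveI : HasExactColimitsOfShape ℕ (EtModW.Mod Λ X) := hasExactColimitsOfShape_nat
  let Z : EtModW.Mod Λ X := kernel (𝟙 (EtSix.constΛ Λ X))
  have hZ : IsZero Z := isZero_kernel_of_mono _
  obtain ⟨N, -, c, hN, hc, -, -, -⟩ := exists_cell_res KF SF exists_sf_cover kf_zeroD
    (fun _ n h => kf_shift n h) kf_ext sf_splitting kf_colimit sf_colimit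
    (0 : zeroD (fun _ => Z) ⟶ L) (kf_zeroD (fun _ => Z) fun _ => sf_of_isZero hZ)
  exact ⟨N, c, hN, hc⟩

end Groth.Agent.Et18.Mod
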