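import Groth.Agent.Et18.Mod.ARCrit
import Groth.Agent.Et18.Mod.ConsNoeth
import Groth.Agent.ARLib.AdicCat

/-!
# Constructible systems adic up to translation
-/

universe u

open CategoryTheory CategoryTheory.Limits AlgebraicGeometry Opposite ARSys

set_option backward.isDefEq.respectTransparency.types false
set_option backward.isDefEq.respectTransparency false

namespace Groth.Agent.Et18.Mod

variable {Λ : Type (u + 1)} [CommRing Λ] [IsNoetherianRing Λ] {X : Scheme.{u}} {I : Ideal Λ}

/-- The constructible sheaves. -/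
lemma kc_constructible : Kc (fun F : EtModW.Mod Λ X => EtModW.IsConstructible Λ F) :=
  ⟨fun φ hF hG => isConstructible_kernel φ hF hG, fun φ hF hG => isConstructible_cokernel φ hF hG,
    fun e h => isConstructible_of_iso h e⟩

/-- The sheaves locally constant of finite type. -/
lemma kc_ftLocConst : Kc (fun F : EtModW.Mod Λ X => EtModW.IsFTLocConst Λ F) :=
  ⟨fun φ hF hG => isFTLocConst_kernel φ hF hG, fun φ hF hG => isFTLocConst_cokernel φ hF hG,
    fun e h => isFTLocConst_of_iso h e⟩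

/-- Being adic up to translation with constructible reference system. -/
theorem arAdicCons_of_isARAdic {F : PS (EtModW.Mod Λ X)} (hc : ∀ n, EtModW.IsConstructible Λ (F.obj (op n)))
    (h : IsARAdic I F) : TermKilled I F ∧ ∃ (Y : PS (EtModW.Mod Λ X)) (v : Y ⟶ F), IsAdic I Y ∧
      (∀ n : ℕ, EtModW.IsConstructible Λ (Y.obj (op n))) ∧ IsARIso v := by
  obtain ⟨hk, Y, v, hY, hv⟩ := h
  exact ⟨hk, Y, v, hY, kc_constructible.of_arIso hY hv hc, hv⟩

/-- A morphism vanishing on covering pieces vanishes. -/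
theorem eq_zero_of_pulls {ι : Type*} (T : ι → Scheme.{u}) (g : ∀ i, T i ⟶ X)
    (hcov : ∀ x : X, ∃ i, x ∈ Set.range (g i)) {F G : EtModW.Mod Λ X} (φ : F ⟶ G)
    (h : ∀ i, (EtModW.pull Λ (g i)).map φ = 0) : φ = 0 := by
  refine hom_eq_of_stalks _ _ fun x => ?_
  obtain ⟨i, t, ht⟩ := hcov x
  obtain ⟨e⟩ := nonempty_stalkFun_iso (Λ := Λ) (sepPoint (T i) t ≫ g i) (sepPoint X x)
    (((congrArg (g i) (sepPoint_default _ t)).trans ht).trans (sepPoint_default X x).symm)
  let e' := stalkPullIso Λ (g i) (sepPoint (T i) t) ≪≫ e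
  rw [Functor.map_zero, ← cancel_epi (e'.hom.app F), comp_zero]
  refine (e'.hom.naturality φ).symm.trans ?_
  refine (congrArg (fun k => (EtModW.stalk Λ (sepPoint (T i) t)).map k ≫ e'.hom.app G) (h i)).trans ?_
  rw [Functor.map_zero, zero_comp]

/-- Adicity up to translation is detected on finitely many pieces. -/
theorem isARAdic_of_pulls {ι : Type*} [Finite ι] (T : ι → Scheme.{u}) (g : ∀ i, T i ⟶ X)
    (hcov : ∀ x : X, ∃ i, x ∈ Set.range (g i)) {F : PS (EtModW.Mod Λ X)}
    (hc : ∀ n, EtModW.IsConstructible Λ (F.obj (op n))) (hk : TermKilled I F)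
    (h : ∀ i, IsARAdic I (F ⋙ EtModW.pull Λ (g i))) : IsARAdic I F :=
  isARAdic_of_functors (fun i => EtModW.pull Λ (g i)) kc_constructible
    (fun φ _ _ hφ => eq_zero_of_pulls T g hcov φ hφ) hc hk h

/-- On a connected scheme a morphism of locally constant sheaves vanishing at one point vanishes. -/
theorem eq_zero_of_stalk_connected [ConnectedSpace X] {F G : EtModW.Mod Λ X} (φ : F ⟶ G)
    (hF : EtModW.IsFTLocConst Λ F) (hG : EtModW.IsFTLocConst Λ G) {Ω : Type u} [Field Ω] [IsSepClosed Ω]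
    (s : Spec (CommRingCat.of Ω) ⟶ X) (h : (EtModW.stalk Λ s).map φ = 0) : φ = 0 := by
  have hI := kc_ftLocConst.image φ hF hG
  obtain ⟨A, -, hA⟩ := exists_single_module hI
  have h0 : IsZero ((EtModW.stalk Λ s).obj (Abelian.image φ)) := by
    have e : (EtModW.stalk Λ s).map (Abelian.factorThruImage φ) ≫ (EtModW.stalk Λ s).map (Abelian.image.ι φ) = 0 := by
      rw [← Functor.map_comp, Abelian.image.fac, h]
    exact IsZero.of_mono_eq_zero _ (zero_of_epi_comp _ e)
  obtain ⟨U, y, hy, hU⟩ := hA (s default)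
  obtain ⟨e⟩ := nonempty_stalk_iso' hU s y hy
  have hz : IsZero (Abelian.image φ) := isZero_of_stalks fun x => by
    obtain ⟨U', y', hy', hU'⟩ := hA x
    obtain ⟨e'⟩ := nonempty_stalk_iso' hU' (sepPoint X x) y' (hy'.trans (sepPoint_default X x).symm)
    exact h0.of_iso (e' ≪≫ e.symm)
  rw [← Abelian.image.fac φ, hz.eq_of_tgt (Abelian.factorThruImage φ) 0, zero_comp]

theorem isARAdic_iff_stalk_connected [ConnectedSpace X] {F : PS (EtModW.Mod Λ X)}
    (hl : ∀ n, EtModW.IsFTLocConst Λ (F.obj (op n))) (hk : TermKilled I F) {Ω : Type u} [Field Ω]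
    [IsSepClosed Ω] (s : Spec (CommRingCat.of Ω) ⟶ X) (h : IsARAdic I (F ⋙ EtModW.stalk Λ s)) :
    IsARAdic I F :=
  isARAdic_of_functors (ι := PUnit.{1}) (fun _ => EtModW.stalk Λ s) kc_ftLocConst
    (fun φ hF hG hφ => eq_zero_of_stalk_connected φ hF hG s (hφ PUnit.unit)) hl hk fun _ => h

variable [IsNoetherian X]

/-- Kernels and cokernels of morphisms of adic constructible systems. -/
theorem isARAdic_kernel_cokernel {F G : PS (EtModW.Mod Λ X)} (hF : IsAdic I F) (hG : IsAdic I G)
    (hFc : ∀ n, EtModW.IsConstructible Λ (F.obj (op n))) (hGc : ∀ n, EtModW.IsConstructible Λ (G.obj (op n)))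
    (w : F ⟶ G) :
    (IsARAdic I (kernel w) ∧ ∀ n, EtModW.IsConstructible Λ ((kernel w).obj (op n))) ∧
      (IsARAdic I (cokernel w) ∧ ∀ n, EtModW.IsConstructible Λ ((cokernel w).obj (op n))) := by
  have h := ARLib.isARAdicNoeth_kernel_cokernel w
    (show IsARAdicNoeth I F from ⟨ARLib.isARAdic_of_isAdic hF, fun n => isNoetherianObject_of_isConstructible (hFc n)⟩)
    (show IsARAdicNoeth I G from ⟨ARLib.isARAdic_of_isAdic hG, fun n => isNoetherianObject_of_isConstructible (hGc n)⟩)
  exact ⟨⟨h.1.1, fun n => isConstructible_of_iso (isConstructible_kernel (w.app (op n)) (hFc n) (hGc n))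
      (PreservesKernel.iso ((evaluation ℕᵒᵖ _).obj (op n)) w).symm⟩,
    ⟨h.2.1, fun n => isConstructible_of_iso (isConstructible_cokernel (w.app (op n)) (hFc n) (hGc n))
      (PreservesCokernel.iso ((evaluation ℕᵒᵖ _).obj (op n)) w).symm⟩⟩

/-- Chains of subsystems with uniform images become constant up to translation. -/
theorem exists_chain_arIso {F : PS (EtModW.Mod Λ X)} (hF : IsAdic I F)
    (hFc : ∀ n, EtModW.IsConstructible Λ (F.obj (op n))) (Z : ℕ →o Subobject F)
    (hZ : ∀ k, IsMLAR (Subobject.underlying.obj (Z k) : PS (EtModW.Mod Λ X))) :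
    ∃ k₀ : ℕ, ∀ k : ℕ, k₀ ≤ k →
      IsARIso (Subobject.ofLE (Z k) (Z (k + 1)) (Z.monotone (Nat.le_succ k))) := by
  choose r hr using fun k => ARLib.isMLAR_iff.mp (hZ k)
  let i : ∀ k, ARLib.uim (hr k) ⟶ F := fun k => ARLib.uimι (hr k) ≫ (Z k).arrow
  have hstep : ∀ k, ∃ c : ARLib.uim (hr k) ⟶ ARLib.uim (hr (k + 1)), c ≫ ARLib.uimι (hr (k + 1)) =
      ARLib.uimι (hr k) ≫ Subobject.ofLE (Z k) (Z (k + 1)) (Z.monotone k.le_succ) := by
    intro k
    let a := Subobject.ofLE (Z k) (Z (k + 1)) (Z.monotone k.le_succ)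
    have hw : ∀ n, Abelian.image.ι (tr (Subobject.underlying.obj (Z k)) (Nat.le_add_right n (r k))) ≫
        a.app (op n) ≫ cokernel.π (tr (Subobject.underlying.obj (Z (k + 1))) (Nat.le_add_right n (r (k + 1)))) =
          0 := by
      intro n
      rw [← cancel_epi (Abelian.factorThruImage (tr (Subobject.underlying.obj (Z k)) (Nat.le_add_right n (r k)))),
        comp_zero, ← Category.assoc, Abelian.image.fac]
      have h1 : tr (Subobject.underlying.obj (Z k)) (Nat.le_add_right n (max (r k) (r (k + 1)))) ≫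
          a.app (op n) ≫ cokernel.π (tr (Subobject.underlying.obj (Z (k + 1))) (Nat.le_add_right n (r (k + 1)))) =
            0 := by
        rw [← ARLib.tr_nat_assoc, hr (k + 1) (show n + r (k + 1) ≤ n + max (r k) (r (k + 1)) by omega)
          (Nat.le_add_right n _), comp_zero]
      rw [← cokernel.π_desc _ _ h1, reassoc_of% (hr k (le_refl (n + r k))
        (Nat.le_add_right n (max (r k) (r (k + 1))))), zero_comp]
    haveI : ∀ n, Mono ((ARLib.uimι (hr (k + 1))).app (op n)) := fun n =>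
      inferInstanceAs (Mono (Abelian.image.ι _))
    let b : ∀ n, (ARLib.uim (hr k)).obj (op n) ⟶ (ARLib.uim (hr (k + 1))).obj (op n) := fun n =>
      kernel.lift _ ((ARLib.uimι (hr k)).app (op n) ≫ a.app (op n)) ((Category.assoc _ _ _).trans (hw n))
    have hb : ∀ n, b n ≫ (ARLib.uimι (hr (k + 1))).app (op n) = (ARLib.uimι (hr k)).app (op n) ≫ a.app (op n) :=
      fun n => kernel.lift_ι _ _ _
    refine ⟨ARLib.mkHom b fun n m h => ?_, NatTrans.ext (funext fun ⟨n⟩ => hb n)⟩
    rw [← cancel_mono ((ARLib.uimι (hr (k + 1))).app (op n)), Category.assoc, Category.assoc, hb,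
      ← ARLib.tr_nat, reassoc_of% (hb m), ARLib.tr_nat, ARLib.tr_nat_assoc]
  choose c hc using hstep
  have hci : ∀ k, c k ≫ i (k + 1) = i k := fun k => by
    simp only [i, reassoc_of% (hc k), Subobject.ofLE_arrow]
  haveI : ∀ k, Mono (i k) := fun k => by dsimp only [i]; infer_instance
  let U : ℕ →o Subobject F := ⟨fun k => Subobject.mk (i k),
    monotone_nat_of_le_succ fun k => Subobject.mk_le_mk_of_comm (c k) (hci k)⟩
  have hU : ∀ k, IsStrict (Subobject.underlying.obj (U k) : PS (EtModW.Mod Λ X)) := fun k =>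
    ARLib.isStrict_of_epi (Subobject.underlyingIso (i k)).inv (ARLib.isStrict_uim (hr k))
  obtain ⟨k₀, hk₀⟩ := ARLib.strict_chain_stationary
    (show IsAdicNoeth I F from ⟨hF, fun n => isNoetherianObject_of_isConstructible (hFc n)⟩) U hU
  refine ⟨k₀, fun k hk => ?_⟩
  have e : Subobject.mk (i k) = Subobject.mk (i (k + 1)) := (hk₀ k hk).trans (hk₀ (k + 1) (by omega)).symm
  let φ := Subobject.isoOfMkEqMk _ _ e
  have hφ : c k = φ.hom := by
    rw [← cancel_mono (i (k + 1)), hci k]
    exact (Subobject.ofMkLEMk_comp e.le).symm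
  haveI : IsIso (c k) := hφ ▸ inferInstance
  refine ARLib.isARIso_of_comp_left (ARLib.isARIso_uimι (hr k)) ?_
  rw [← hc k]
  exact ARLib.isARIso_comp (ARLib.isARIso_of_isIso (c k)) (ARLib.isARIso_uimι (hr (k + 1)))

end Groth.Agent.Et18.Mod
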