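import Groth.Agent.Et18.Mod.Linear
import Groth.Agent.ARLib.Ext

/-!
# Systems adic up to translation: detection by exact functors, closure properties of the members
-/

universe w u

open CategoryTheory CategoryTheory.Limits Opposite ARSys

set_option backward.isDefEq.respectTransparency.types false
set_option backward.isDefEq.respectTransparency false

namespace Groth.Agent.Et18.Mod

section Class

variable {A : Type w} [CommRing A] {C : Type*} [Category* C] [Abelian C] [Linear A C]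

/-- A class of objects closed under kernels and cokernels. -/
structure Kc (P : C → Prop) : Prop where
  ker : ∀ {X Y : C} (φ : X ⟶ Y), P X → P Y → P (kernel φ)
  coker : ∀ {X Y : C} (φ : X ⟶ Y), P X → P Y → P (cokernel φ)
  iso : ∀ {X Y : C}, (X ≅ Y) → P X → P Y

variable {P : C → Prop}

lemma Kc.image (hP : Kc P) {X Y : C} (φ : X ⟶ Y) (hX : P X) (hY : P Y) : P (Abelian.image φ) :=
  hP.ker (cokernel.π φ) hY (hP.coker φ hX hY)

/-- Quotients modulo finitely generated ideals stay in the class. -/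
theorem Kc.exists_isQuot (hP : Kc P) {I : Ideal A} (hI : I.FG) :
    ∀ {X : C}, P X → ∃ (Q : C) (q : X ⟶ Q), IsQuot I q ∧ P Q := by
  induction I, hI using Submodule.fg_induction with
  | singleton a =>
    intro X hX
    refine ⟨cokernel (a • 𝟙 X), cokernel.π _, ⟨?_, fun T φ hφ => ?_⟩, hP.coker _ hX hX⟩
    · intro b hb
      obtain ⟨c, rfl⟩ := Submodule.mem_span_singleton.mp hb
      rw [← cancel_epi (cokernel.π (a • 𝟙 X)), comp_zero, Linear.comp_smul, Category.comp_id, smul_eq_mul,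
        mul_smul, ← Category.id_comp (cokernel.π (a • 𝟙 X)), ← Linear.smul_comp, cokernel.condition, smul_zero]
    · have h0 : (a • 𝟙 X) ≫ φ = 0 := by
        rw [Linear.smul_comp, Category.id_comp, hφ a (Submodule.mem_span_singleton_self a)]
      exact ⟨cokernel.desc _ φ h0, cokernel.π_desc _ _ _,
        fun ψ hψ => coequalizer.hom_ext (hψ.trans (cokernel.π_desc _ _ h0).symm)⟩
  | sup I₁ I₂ _ _ h₁ h₂ =>
    intro X hX
    obtain ⟨Q₁, q₁, hq₁, hQ₁⟩ := h₁ hX
    obtain ⟨Q₂, q₂, hq₂, hQ₂⟩ := h₂ hQ₁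
    haveI := ARLib.isQuot_epi hq₁
    haveI := ARLib.isQuot_epi hq₂
    refine ⟨Q₂, q₁ ≫ q₂, ⟨?_, fun T φ hφ => ?_⟩, hQ₂⟩
    · intro b hb
      obtain ⟨b₁, hb₁, b₂, hb₂, rfl⟩ := Submodule.mem_sup.mp hb
      rw [add_smul, ARLib.killedBy_of_epi q₂ hq₁.1 b₁ hb₁, hq₂.1 b₂ hb₂, add_zero]
    · have hφ₁ : HomKilledBy I₁ φ := fun b hb => hφ b (le_sup_left (b := I₂) hb)
      have hφ₂ : HomKilledBy I₂ (ARLib.qdesc hq₁ φ hφ₁) := ARLib.homKilledBy_of_epi q₁
        (by rw [ARLib.qdesc_fac]; exact fun b hb => hφ b (le_sup_right (a := I₁) hb))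
      refine ⟨ARLib.qdesc hq₂ _ hφ₂, by simp [ARLib.qdesc_fac], fun ψ hψ => ?_⟩
      rw [← cancel_epi q₂, ← cancel_epi q₁, ARLib.qdesc_fac, ARLib.qdesc_fac, ← Category.assoc]
      exact hψ

variable [IsNoetherianRing A] {J : Ideal A}

/-- An adic system isomorphic up to translation to a system in the class lies in the class. -/
theorem Kc.of_arIso (hP : Kc P) {W Z : PS C} (hW : IsAdic J W) {u : W ⟶ Z} (hu : IsARIso u)
    (hZ : ∀ n, P (Z.obj (op n))) (n : ℕ) : P (W.obj (op n)) := by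
  obtain ⟨r, ⟨v⟩⟩ := ARLib.isARIso_iff.mp hu
  let τ := tr Z (Nat.le_add_right (n + r) r)
  let x := v.inv (le_refl (n + r + r))
  have hτ : x ≫ u.app (op (n + r)) = τ := v.inv_hom _
  haveI : Epi x := by
    haveI := ARLib.isQuot_epi (hW.2 (n + r) (n + r + r) (Nat.le_add_right _ r))
    haveI : Epi (u.app (op (n + r + r)) ≫ x) := by rw [v.hom_inv]; infer_instance
    exact epi_of_epi (u.app (op (n + r + r))) x
  let a : W.obj (op (n + r)) ⟶ Abelian.image τ := kernel.lift (cokernel.π τ) (u.app (op (n + r))) (by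
    rw [← cancel_epi x, comp_zero, ← Category.assoc, hτ, cokernel.condition])
  haveI : Epi a := by
    haveI : Epi (x ≫ a) := by
      have : x ≫ a = Abelian.factorThruImage τ := by
        rw [← cancel_mono (Abelian.image.ι τ), Category.assoc, Abelian.image.fac]
        exact (congrArg (fun t => x ≫ t) (kernel.lift_ι _ _ _)).trans hτ
      rw [this]; infer_instance
    exact epi_of_epi x a
  obtain ⟨Q, q, hq, hQ⟩ := hP.exists_isQuot ((IsNoetherian.noetherian J : J.FG).pow (n := n + 1))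
    (hP.image τ (hZ _) (hZ _))
  haveI := ARLib.isQuot_epi hq
  haveI := ARLib.isQuot_epi (hW.2 n (n + r) (Nat.le_add_right n r))
  let q' : Abelian.image τ ⟶ W.obj (op n) := Abelian.image.ι τ ≫ v.inv (le_refl (n + r))
  have haq : a ≫ q' = tr W (Nat.le_add_right n r) :=
    (Category.assoc _ _ _).symm.trans ((congrArg (fun t => t ≫ _) (kernel.lift_ι (cokernel.π τ) _ _)).trans
      (v.hom_inv _))
  let s : W.obj (op n) ⟶ Q := ARLib.qdesc (hW.2 n (n + r) (Nat.le_add_right n r)) (a ≫ q)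
    (ARLib.homKilledBy_of_target hq.1 _)
  let t : Q ⟶ W.obj (op n) := ARLib.qdesc hq q' (ARLib.homKilledBy_of_target (hW.1 n) _)
  have hs : tr W (Nat.le_add_right n r) ≫ s = a ≫ q := ARLib.qdesc_fac _ _ _
  have ht : q ≫ t = q' := ARLib.qdesc_fac _ _ _
  refine hP.iso ⟨t, s, ?_, ?_⟩ hQ
  · rw [← cancel_epi q, ← cancel_epi a, reassoc_of% ht, reassoc_of% haq, hs, Category.comp_id]
  · rw [← cancel_epi (tr W (Nat.le_add_right n r)), reassoc_of% hs, ht, haq, Category.comp_id]

/-- Detection by finitely many exact linear functors. -/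
theorem isARAdic_of_functors {ι : Type*} [Finite ι] {D : ι → Type*} [∀ i, Category (D i)] [∀ i, Abelian (D i)]
    [∀ i, Linear A (D i)] (F : ∀ i, C ⥤ D i) [∀ i, (F i).Additive] [∀ i, (F i).Linear A]
    [∀ i, PreservesFiniteLimits (F i)] [∀ i, PreservesFiniteColimits (F i)] (hP : Kc P)
    (hz : ∀ {X Y : C} (φ : X ⟶ Y), P X → P Y → (∀ i, (F i).map φ = 0) → φ = 0)
    {X : PS C} (hX : ∀ n, P (X.obj (op n))) (hk : TermKilled J X) (h : ∀ i, IsARAdic J (X ⋙ F i)) :
    IsARAdic J X := by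
  cases nonempty_fintype ι
  choose r₀ hr₀ using fun i => ARLib.isMLAR_iff.mp (ARLib.isMLAR_of_isARAdic (h i))
  have H : ARLib.StabAt X (Finset.univ.sup r₀) := fun {n k m} hk' hm => by
    refine hz _ (hX _) (hP.coker _ (hX _) (hX _)) fun i => ?_
    have := Finset.le_sup (f := r₀) (Finset.mem_univ i)
    have h0 : (F i).map (tr X hm) ≫ (F i).map (cokernel.π (tr X hm)) = 0 := by
      rw [← Functor.map_comp, cokernel.condition, Functor.map_zero]
    rw [Functor.map_comp, ← cokernel.π_desc ((F i).map (tr X hm)) _ h0]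
    exact (Category.assoc _ _ _).symm.trans ((congrArg (fun t => t ≫ _)
      (hr₀ i (show n + r₀ i ≤ k by omega) hm)).trans zero_comp)
  let Z := ARLib.uim H
  have hZ : ∀ n, P (Z.obj (op n)) := fun n => hP.image _ (hX _) (hX _)
  have hkZ : TermKilled J Z := ARLib.termKilled_of_mono (ARLib.uimι H) hk
  have hstrict := ARLib.isStrict_uim H
  have hFZ : ∀ i, IsStrict (Z ⋙ F i) := fun i n m hnm => by
    haveI := hstrict n m hnm
    exact (F i).map_epi (tr Z hnm)
  choose r hr0 hr using fun i => ARLib.subLEIdeal_of_isARAdic (hFZ i)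
    (ARLib.isARAdic_of_arIso' (Functor.whiskerRight (ARLib.uimι H) (F i))
      (isARIso_map (F i) (ARLib.isARIso_uimι H)) (h i) (termKilled_map (F i) hkZ))
  let R := Finset.univ.sup r
  refine ARLib.isARAdic_of_arIso (ARLib.uimι H) (ARLib.isARIso_uimι H)
    (ARLib.isARAdic_of_subLEIdeal (Or.inl (IsNoetherian.noetherian J)) hstrict hkZ (r := R) fun n => ?_) hk
  intro T φ hφ
  rcases n with _ | k
  · have : φ = 0 := by simpa using hφ 1 (by simp)
    rw [this, comp_zero]
  · obtain ⟨Q, q, hq, hQ⟩ := hP.exists_isQuot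
      ((IsNoetherian.noetherian J : J.FG).pow (n := k + 1 - R)) (hZ (k + 1))
    rw [ARLib.fker_succ_arrow_comp, ← ARLib.qdesc_fac hq φ hφ, ← Category.assoc,
      hz (kernel.ι (tr Z k.le_succ) ≫ q) (hP.ker _ (hZ _) (hZ _)) hQ fun i => ?_, zero_comp]
    have := Finset.le_sup (f := r) (Finset.mem_univ i)
    have hkill : HomKilledBy (J ^ (k + 1 - r i)) ((F i).map q) := fun a ha =>
      ARLib.homKilledBy_of_target (killedBy_map (F i) hq.1) ((F i).map q) a
        (Ideal.pow_le_pow_right (by omega) ha)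
    have h1 := (ARLib.fker_succ_arrow_comp (X := Z ⋙ F i) ((F i).map q)).mp (hr i (k + 1) _ _ hkill)
    have h0 : (F i).map (kernel.ι (tr Z k.le_succ)) ≫ (F i).map (tr Z k.le_succ) = 0 := by
      rw [← Functor.map_comp, kernel.condition, Functor.map_zero]
    rw [Functor.map_comp, ← kernel.lift_ι ((F i).map (tr Z k.le_succ)) _ h0]
    exact (Category.assoc _ _ _).trans ((congrArg (fun t => _ ≫ t) h1).trans comp_zero)

end Class

end Groth.Agent.Et18.Mod
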