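import Groth.Agent.Et18.Mod.AdicGraded
import Groth.Agent.Et18.Mod.ConsNoeth

/-!
# One stratification for all members of an adic system of constructible sheaves of modules
-/

universe u

open CategoryTheory CategoryTheory.Limits AlgebraicGeometry Opposite ARSys

set_option backward.isDefEq.respectTransparency.types false
set_option backward.isDefEq.respectTransparency false

namespace Groth.Agent.Et18.Mod

variable {Λ : Type (u + 1)} [CommRing Λ] {X : Scheme.{u}}

/-- Being locally constant descends to the image of an étale morphism. -/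
lemma isFTLocConst_open_of_etale {W : Scheme.{u}} (f : W ⟶ X) [Etale f] (O : X.Opens)
    (hO : Set.range f = O) {F : EtModW.Mod Λ X} (h : EtModW.IsFTLocConst Λ ((EtModW.pull Λ f).obj F)) :
    EtModW.IsFTLocConst Λ ((EtModW.pull Λ O.ι).obj F) := by
  let f' : W ⟶ O.toScheme := IsOpenImmersion.lift O.ι f (by rw [Scheme.Opens.range_ι, hO])
  have hf' : f' ≫ O.ι = f := IsOpenImmersion.lift_fac _ _ _
  haveI : Etale (f' ≫ O.ι) := hf'.symm ▸ inferInstance
  haveI : Etale f' := Etale.of_comp f' O.ι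
  refine isFTLocConst_iff.mpr (LocTriv.of_nhds fun x => ?_)
  obtain ⟨z, hz⟩ : x.1 ∈ Set.range f := hO.symm ▸ x.2
  refine ⟨Scheme.Etale.mk f', z, O.ι.isOpenEmbedding.injective
    ((congrArg (fun k => k z) hf').trans hz), ?_⟩
  exact (isFTLocConst_iff.mp h).of_iso ((pullCongr Λ hf').symm.app F ≪≫ (modPullComp Λ f' O.ι).app F)

variable [IsNoetherianRing Λ] {J : Ideal Λ}

/-- All members of an adic system of constructible sheaves are lisse near the generic point. -/
theorem exists_open_lisse [IsLocallyNoetherian X] {η : X} (hη : ∀ x, η ⤳ x) {F : PS (EtModW.Mod Λ X)}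
    (hF : IsAdic J F) (hc : ∀ n, EtModW.IsConstructible Λ (F.obj (op n))) :
    ∃ O : X.Opens, η ∈ O ∧ ∀ n, EtModW.IsFTLocConst Λ ((EtModW.pull Λ O.ι).obj (F.obj (op n))) := by
  obtain ⟨W, f, hf, w, A, hw, hgen, hA, ⟨α⟩⟩ := exists_generic_triv (hc 0) hη
  haveI := hf
  let G : PS (EtModW.Mod Λ W) := F ⋙ EtModW.pull Λ f
  have hJ : J.FG := IsNoetherian.noetherian J
  have hG : IsAdic J G := isAdic_map (EtModW.pull Λ f) hJ hF
  obtain ⟨r, g, hg⟩ := Submodule.fg_iff_exists_fin_generating_family.mp hJ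
  haveI := hA
  obtain ⟨k, a, ha⟩ := Module.Finite.exists_fin (R := Λ) (M := A)
  let s : Fin k → (G.obj (op 0)).obj.obj (op (EtCoh.top W)) := fun j =>
    α.inv.hom.app (op (EtCoh.top W)) (cstSec A (EtCoh.top W) (a j))
  have hs : ∀ z, Submodule.span Λ (Set.range fun j => topGerm (G.obj (op 0)) (sepPoint W z) (s j)) = ⊤ := by
    intro z
    let L : A ⟶ (EtModW.stalk Λ (sepPoint W z)).obj (G.obj (op 0)) :=
      cstGerm (sepPoint W z) A ≫ (EtModW.stalk Λ (sepPoint W z)).map α.inv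
    have hL : ∀ j, topGerm (G.obj (op 0)) (sepPoint W z) (s j) = L (a j) := fun j =>
      (congrArg (fun k => k (a j)) (germ_cstSec_map (sepPoint W z) α.inv (EtCoh.top W) (topPt _))).symm
    rw [show (fun j => topGerm (G.obj (op 0)) (sepPoint W z) (s j)) = L.hom ∘ a from funext hL,
      Set.range_comp, Submodule.span_image, ha, Submodule.map_top, LinearMap.range_eq_top]
    exact (ConcreteCategory.bijective_of_isIso L).2
  obtain ⟨O, hwO, hrel⟩ := exists_open_rel_eq s hG hg (η := w) hgen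
  have h := isFTLocConst_pull_of_rel s hG hg O hs hrel
    (fun q => finite_stalk_of_isConstructible (isConstructible_pull f (hc q)) _)
    (isFTLocConst_of_iso (isFTLocConst_cst A) α.symm)
  haveI : Etale (O.ι ≫ f) := inferInstance
  refine ⟨⟨_, (O.ι ≫ f).isOpenMap.isOpen_range⟩, ⟨⟨w, hwO⟩, hw⟩, fun n => ?_⟩
  exact isFTLocConst_open_of_etale (O.ι ≫ f) _ rfl
    (isFTLocConst_of_iso (h n) ((modPullComp Λ O.ι f).app _).symm)

/-- A finite partition of `S` by subschemes on each of which all members are lisse. -/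
def Part (F : PS (EtModW.Mod Λ X)) (S : Set X) : Prop :=
  ∃ (ι : Type) (_ : Finite ι) (T : ι → Scheme.{u}) (g : ∀ i, T i ⟶ X), (∀ i, IsImmersion (g i)) ∧
    Pairwise (fun i j => Disjoint (Set.range (g i)) (Set.range (g j))) ∧ (⋃ i, Set.range (g i)) = S ∧
    ∀ i n, EtModW.IsFTLocConst Λ ((EtModW.pull Λ (g i)).obj (F.obj (op n)))

omit [IsNoetherianRing Λ] in
lemma Part.inter {F : PS (EtModW.Mod Λ X)} {S : Set X} (h : Part F S) {L : Set X} (hL : IsLocallyClosed L) :
    Part F (S ∩ L) := by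
  obtain ⟨ι, hι, T, g, hg, hd, rfl, hF⟩ := h
  choose T' k hk hr using fun i => exists_immersion_range (hL.preimage (g i).continuous)
  have hr' : ∀ i, Set.range (k i ≫ g i) = Set.range (g i) ∩ L := fun i => by
    rw [Scheme.Hom.comp_base, TopCat.coe_comp, Set.range_comp, hr, Set.image_preimage_eq_inter_range,
      Set.inter_comm]
  refine ⟨ι, hι, T', fun i => k i ≫ g i, fun i => inferInstance, fun i j hij => ?_, ?_,
    fun i n => isFTLC_pull_comp (hF i n) (k i)⟩
  · show Disjoint (Set.range (k i ≫ g i)) (Set.range (k j ≫ g j))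
    rw [hr', hr']
    exact (hd hij).mono Set.inter_subset_left Set.inter_subset_left
  · simp only [hr', Set.iUnion_inter]

omit [IsNoetherianRing Λ] in
lemma Part.union {F : PS (EtModW.Mod Λ X)} {S S' : Set X} (h : Part F S) (h' : Part F S')
    (hd : Disjoint S S') : Part F (S ∪ S') := by
  obtain ⟨ι, hι, T, g, hg, hdd, rfl, hF⟩ := h
  obtain ⟨κ, hκ, T', g', hg', hdd', rfl, hF'⟩ := h'
  refine ⟨ι ⊕ κ, inferInstance, Sum.elim T T', fun i => Sum.rec g g' i, ?_, ?_, ?_, ?_⟩
  · rintro (i | i)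
    exacts [hg i, hg' i]
  · rintro (i | i) (j | j) hij
    · exact hdd fun e => hij (congrArg Sum.inl e)
    · exact hd.mono (Set.subset_iUnion (fun i => Set.range (g i)) i) (Set.subset_iUnion (fun i => Set.range (g' i)) j)
    · exact hd.symm.mono (Set.subset_iUnion (fun i => Set.range (g' i)) i) (Set.subset_iUnion (fun i => Set.range (g i)) j)
    · exact hdd' fun e => hij (congrArg Sum.inr e)
  · rw [Set.iUnion_sum]; rfl
  · rintro (i | i)
    exacts [hF i, hF' i]

omit [IsNoetherianRing Λ] in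
lemma Part.empty (F : PS (EtModW.Mod Λ X)) : Part F ∅ :=
  ⟨Fin 0, inferInstance, fun i => i.elim0, fun i => i.elim0, fun i => i.elim0, fun i => i.elim0,
    Set.iUnion_of_empty _, fun i => i.elim0⟩

/-- **One partition serves all members.** -/
theorem part_univ [IsNoetherian X] {F : PS (EtModW.Mod Λ X)} (hF : IsAdic J F)
    (hc : ∀ n, EtModW.IsConstructible Λ (F.obj (op n))) : Part F Set.univ := by
  suffices key : ∀ C : TopologicalSpace.Closeds X, ∀ L : Set X, IsLocallyClosed L → L ⊆ C → Part F L from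
    key ⊤ _ isOpen_univ.isLocallyClosed le_rfl
  intro C
  refine WellFoundedLT.induction (motive := fun C : TopologicalSpace.Closeds X =>
    ∀ L : Set X, IsLocallyClosed L → L ⊆ C → Part F L) C fun C ih L hL hLC => ?_
  rcases Set.eq_empty_or_nonempty (C : Set X) with hC | hC
  · rw [Set.subset_eq_empty hLC hC]
    exact Part.empty F
  by_cases hirr : IsPreirreducible (C : Set X)
  · obtain ⟨x₀, hx₀⟩ := QuasiSober.sober (⟨hC, hirr⟩ : IsIrreducible (C : Set X)) C.isClosed
    obtain ⟨T, g, hT, t, hg, hr, ht, hgen⟩ := exists_generic_subscheme x₀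
    obtain ⟨O, htO, hO⟩ := exists_open_lisse hgen
      (isAdic_map (EtModW.pull Λ g) (IsNoetherian.noetherian J) hF) fun n => isConstructible_pull g (hc n)
    obtain ⟨U, hU, hU'⟩ := g.isEmbedding.isOpen_iff.mp O.2
    have hx₀C : closure ({x₀} : Set X) = C := hx₀
    have hrange : Set.range (O.ι ≫ g) = U ∩ C := by
      rw [Scheme.Hom.comp_base, TopCat.coe_comp, Set.range_comp, Scheme.Opens.range_ι]
      show g '' (O.carrier) = _
      rw [← hU', Set.image_preimage_eq_inter_range, hr, hx₀C]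
    have h₁ : Part F (U ∩ C) := ⟨PUnit, inferInstance, fun _ => O.toScheme, fun _ => O.ι ≫ g,
      fun _ => inferInstance, fun i j hij => absurd (Subsingleton.elim i j) hij,
      by rw [Set.iUnion_const, hrange],
      fun _ n => isFTLocConst_of_iso (hO n) ((modPullComp Λ O.ι g).app _).symm⟩
    let C' : TopologicalSpace.Closeds X := ⟨(C : Set X) ∩ Uᶜ, C.isClosed.inter hU.isClosed_compl⟩
    have hxU : x₀ ∈ U := ht ▸ (hU'.symm.subset htO : t ∈ g ⁻¹' U)
    have hlt : C' < C := lt_of_le_of_ne Set.inter_subset_left fun e =>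
      ((e ▸ (hx₀.mem : x₀ ∈ C) : x₀ ∈ C')).2 hxU
    have h₂ := ih C' hlt (L ∩ Uᶜ) (hL.inter hU.isClosed_compl.isLocallyClosed)
      fun x hx => ⟨hLC hx.1, hx.2⟩
    have e : L = (U ∩ C) ∩ L ∪ L ∩ Uᶜ := by
      ext x
      constructor
      · intro hx
        by_cases h : x ∈ U
        exacts [Or.inl ⟨⟨h, hLC hx⟩, hx⟩, Or.inr ⟨hx, h⟩]
      · rintro (⟨-, hx⟩ | ⟨hx, -⟩) <;> exact hx
    rw [e]
    exact (h₁.inter hL).union h₂ (Set.disjoint_left.mpr fun x hx hx' => hx'.2 hx.1.1)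
  · simp only [IsPreirreducible, not_forall] at hirr
    obtain ⟨u, v, hu, hv, hCu, hCv, hn⟩ := hirr
    let C₁ : TopologicalSpace.Closeds X := ⟨(C : Set X) ∩ uᶜ, C.isClosed.inter hu.isClosed_compl⟩
    let C₂ : TopologicalSpace.Closeds X := ⟨(C : Set X) ∩ vᶜ, C.isClosed.inter hv.isClosed_compl⟩
    have hl₁ : C₁ < C := lt_of_le_of_ne Set.inter_subset_left fun e => by
      obtain ⟨x, hx, hxu⟩ := hCu
      exact ((e ▸ hx : x ∈ C₁)).2 hxu
    have hl₂ : C₂ < C := lt_of_le_of_ne Set.inter_subset_left fun e => by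
      obtain ⟨x, hx, hxv⟩ := hCv
      exact ((e ▸ hx : x ∈ C₂)).2 hxv
    have h₁ := ih C₁ hl₁ (L ∩ uᶜ) (hL.inter hu.isClosed_compl.isLocallyClosed) fun x hx => ⟨hLC hx.1, hx.2⟩
    have h₂ := ih C₂ hl₂ (L ∩ u) (hL.inter hu.isLocallyClosed)
      fun x hx => ⟨hLC hx.1, fun hxv => hn ⟨x, hLC hx.1, hx.2, hxv⟩⟩
    have e : L = L ∩ uᶜ ∪ L ∩ u := by rw [← Set.inter_union_distrib_left, Set.compl_union_self, Set.inter_univ]
    rw [e]
    exact h₁.union h₂ (Set.disjoint_left.mpr fun x hx hx' => hx.2 hx'.2)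

/-- A dense open on which all members are lisse. -/
theorem exists_dense_open_lisse [IsNoetherian X] {F : PS (EtModW.Mod Λ X)} (hF : IsAdic J F)
    (hc : ∀ n, EtModW.IsConstructible Λ (F.obj (op n))) :
    ∃ U : X.Opens, Dense (U : Set X) ∧ ∀ n, EtModW.IsFTLocConst Λ ((EtModW.pull Λ U.ι).obj (F.obj (op n))) := by
  classical
  have hfin := TopologicalSpace.NoetherianSpace.finite_irreducibleComponents (α := X)
  have : ∀ Z ∈ irreducibleComponents X, ∃ (V : X.Opens), (∃ η : X, η ∈ V ∧ closure {η} = Z) ∧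
      ∀ n, EtModW.IsFTLocConst Λ ((EtModW.pull Λ V.ι).obj (F.obj (op n))) := by
    intro Z hZ
    obtain ⟨η, hη⟩ := QuasiSober.sober hZ.1 (isClosed_of_mem_irreducibleComponents Z hZ)
    let D : Set X := ⋃ Z' ∈ {Z' ∈ irreducibleComponents X | η ∉ Z'}, Z'
    have hD : IsClosed D := (hfin.subset fun Z' h => h.1).isClosed_biUnion
      fun Z' h => isClosed_of_mem_irreducibleComponents Z' h.1
    let V₀ : X.Opens := ⟨Dᶜ, hD.isOpen_compl⟩
    have hηD : η ∈ V₀ := fun h => by
      obtain ⟨Z', ⟨-, h2⟩, hm⟩ := Set.mem_iUnion₂.mp h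
      exact h2 hm
    have hgen : ∀ z : V₀.toScheme, (⟨η, hηD⟩ : V₀.toScheme) ⤳ z := fun z => by
      refine (subtype_specializes_iff _ _).mpr ?_
      have hz : η ∈ irreducibleComponent z.1 := by_contra fun h => z.2 (Set.mem_iUnion₂.mpr
        ⟨_, ⟨irreducibleComponent_mem_irreducibleComponents z.1, h⟩, mem_irreducibleComponent⟩)
      have e : irreducibleComponent z.1 = Z := (hZ.eq_of_le
        (isIrreducible_irreducibleComponent (x := z.1)) (by
          rw [← hη.def]
          exact closure_minimal (Set.singleton_subset_iff.mpr hz) isClosed_irreducibleComponent)).symm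
      exact hη.specializes (e ▸ mem_irreducibleComponent)
    obtain ⟨O, hO, h⟩ := exists_open_lisse hgen
      (isAdic_map (EtModW.pull Λ V₀.ι) (IsNoetherian.noetherian J) hF) fun n => isConstructible_pull _ (hc n)
    refine ⟨V₀.ι ''ᵁ O, ⟨η, ⟨⟨η, hηD⟩, hO, rfl⟩, hη⟩, fun n => ?_⟩
    exact isFTLocConst_open_of_etale (O.ι ≫ V₀.ι) (V₀.ι ''ᵁ O) (by
      rw [Scheme.Hom.comp_base, TopCat.coe_comp, Set.range_comp, Scheme.Opens.range_ι]; rfl)
      (isFTLocConst_of_iso (h n) ((modPullComp Λ O.ι V₀.ι).app _).symm)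
  choose! V hV hF' using this
  refine ⟨⟨⋃ Z ∈ irreducibleComponents X, (V Z : Set X), isOpen_biUnion fun Z _ => (V Z).2⟩, ?_, fun n => ?_⟩
  · intro x
    obtain ⟨η, hηV, hη⟩ := hV _ (irreducibleComponent_mem_irreducibleComponents x)
    refine closure_mono (Set.singleton_subset_iff.mpr (Set.mem_iUnion₂.mpr
      ⟨_, irreducibleComponent_mem_irreducibleComponents x, hηV⟩)) ?_
    exact hη.symm ▸ mem_irreducibleComponent
  · refine isFTLocConst_iff.mpr (LocTriv.of_nhds fun x => ?_)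
    obtain ⟨Z, hZ, hx⟩ := Set.mem_iUnion₂.mp x.2
    let V' : X.Opens := V Z
    let U : X.Opens := ⟨⋃ Z ∈ irreducibleComponents X, (V Z : Set X), isOpen_biUnion fun Z _ => (V Z).2⟩
    have hle : V' ≤ U := fun y hy => Set.mem_iUnion₂.mpr ⟨Z, hZ, hy⟩
    refine ⟨Scheme.Etale.mk (X.homOfLE hle), ⟨x.1, hx⟩, U.ι.isOpenEmbedding.injective ?_, ?_⟩
    · exact congrArg (fun k => k (⟨x.1, hx⟩ : V'.toScheme)) (X.homOfLE_ι hle)
    · exact (isFTLocConst_iff.mp (hF' Z hZ n)).of_iso
        ((pullCongr Λ (X.homOfLE_ι hle)).symm.app _ ≪≫ (modPullComp Λ (X.homOfLE hle) U.ι).app _)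

end Groth.Agent.Et18.Mod
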