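import Groth.Agent.Et18.Mod.AdicStalk
import Groth.Agent.Et18.H0Lift.StrictStalk
import Groth.Agent.Et18.Specialization
import Groth.Agent.HenselLib.LocalHens

/-!
# Cospecialization maps of stalks, and their bijectivity on locally constant sheaves
-/

set_option autoImplicit false
set_option backward.isDefEq.respectTransparency.types false
set_option backward.isDefEq.respectTransparency false

universe u

open CategoryTheory CategoryTheory.Limits AlgebraicGeometry Opposite IsLocalRing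

namespace Groth.Agent.Et18.Mod

open H0Lift

variable {Λ : Type (u + 1)} [CommRing Λ] {X Y : Scheme.{u}}
  {H : Type u} [CommRing H] [HenselianLocalRing H] [IsSepClosed (ResidueField H)]
  {Ω : Type u} [Field Ω] [IsSepClosed Ω] (ρ : ResidueField H →+* Ω)
  {K : Type u} [Field K] [IsSepClosed K] (γ : Spec (CommRingCat.of K) ⟶ Spec (CommRingCat.of H))

/-- The lift of the strictly local scheme determined by a point of the fibre. -/
noncomputable def sigOf (sH : Spec (CommRingCat.of H) ⟶ Y) {V : Y.Etale}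
    (v : (Scheme.pointSmallEtale (cPt ρ ≫ sH)).fiber.obj V) : Spec (CommRingCat.of H) ⟶ V.left :=
  (exists_strictSig ρ V v).choose

lemma sigOf_hom (sH : Spec (CommRingCat.of H) ⟶ Y) {V : Y.Etale}
    (v : (Scheme.pointSmallEtale (cPt ρ ≫ sH)).fiber.obj V) : sigOf ρ sH v ≫ V.hom = sH :=
  (exists_strictSig ρ V v).choose_spec.1

lemma cPt_sigOf (sH : Spec (CommRingCat.of H) ⟶ Y) {V : Y.Etale}
    (v : (Scheme.pointSmallEtale (cPt ρ ≫ sH)).fiber.obj V) :
    cPt ρ ≫ sigOf ρ sH v = (v.left : _ ⟶ V.left) :=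
  (exists_strictSig ρ V v).choose_spec.2

lemma sigOf_eq (sH : Spec (CommRingCat.of H) ⟶ Y) {V : Y.Etale}
    (v : (Scheme.pointSmallEtale (cPt ρ ≫ sH)).fiber.obj V) (σ : Spec (CommRingCat.of H) ⟶ V.left)
    (h₁ : σ ≫ V.hom = sH) (h₂ : cPt ρ ≫ σ = (v.left : _ ⟶ V.left)) : sigOf ρ sH v = σ :=
  strictSig_unique V _ _ ((sigOf_hom ρ sH v).trans h₁.symm) (cPt ρ) (cPt_default ρ)
    ((cPt_sigOf ρ sH v).trans h₂.symm)

/-- The morphism of points given by a point of the strictly local scheme. -/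
noncomputable def cospecPt (sH : Spec (CommRingCat.of H) ⟶ Y) :
    Scheme.pointSmallEtale (γ ≫ sH) ⟶ Scheme.pointSmallEtale (cPt ρ ≫ sH) where
  hom :=
    { app := fun V => TypeCat.ofHom fun v => Over.homMk (γ ≫ sigOf ρ sH v)
        ((Category.assoc _ _ _).trans (congrArg (fun t => γ ≫ t) (sigOf_hom ρ sH v)))
      naturality := fun V V' a => by
        ext v
        refine Over.OverMorphism.ext ?_
        show γ ≫ sigOf ρ sH ((Scheme.pointSmallEtale (cPt ρ ≫ sH)).fiber.map a v) = (γ ≫ sigOf ρ sH v) ≫ a.left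
        rw [Category.assoc]
        refine congrArg (fun t => γ ≫ t) (sigOf_eq ρ sH _ _ ?_ ?_)
        · rw [Category.assoc, MorphismProperty.Over.w]
          exact sigOf_hom ρ sH v
        · exact (Category.assoc _ _ _).symm.trans (congrArg (fun t => t ≫ a.left) (cPt_sigOf ρ sH v)) }

/-- The cospecialization map of stalks. -/
noncomputable def cospec (sH : Spec (CommRingCat.of H) ⟶ Y) :
    EtModW.stalk Λ (cPt ρ ≫ sH) ⟶ EtModW.stalk Λ (γ ≫ sH) :=
  (cospecPt ρ γ sH).sheafFiber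

lemma germ_cospec (sH : Spec (CommRingCat.of H) ⟶ Y) (G : EtModW.Mod Λ Y) (V : Y.Etale)
    (v : (Scheme.pointSmallEtale (cPt ρ ≫ sH)).fiber.obj V) :
    (Scheme.pointSmallEtale (cPt ρ ≫ sH)).toPresheafFiber V v G.obj ≫ (cospec ρ γ sH).app G =
      (Scheme.pointSmallEtale (γ ≫ sH)).toPresheafFiber V ((cospecPt ρ γ sH).hom.app V v) G.obj :=
  GrothendieckTopology.Point.toPresheafFiber_presheafFiberDesc (A := ModuleCat.{u + 1} Λ) _ _ _ _ _

lemma isIso_cospec_cst (sH : Spec (CommRingCat.of H) ⟶ Y) (A : ModuleCat.{u + 1} Λ) :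
    IsIso ((cospec ρ γ sH).app ((cst Λ Y).obj A)) := by
  have h : cstGerm (cPt ρ ≫ sH) A ≫ (cospec ρ γ sH).app ((cst Λ Y).obj A) = cstGerm (γ ≫ sH) A := by
    refine (Category.assoc _ _ _).trans ((congrArg (fun t => cstSec A (EtCoh.top Y) ≫ t)
      (germ_cospec ρ γ sH _ _ _)).trans ?_)
    exact congrArg (fun p => cstSec A (EtCoh.top Y) ≫ (Scheme.pointSmallEtale (γ ≫ sH)).toPresheafFiber
      (EtCoh.top Y) p ((cst Λ Y).obj A).obj) (fiber_top_eq _ _ _)
  haveI : IsIso (cstGerm (cPt ρ ≫ sH) A ≫ (cospec ρ γ sH).app ((cst Λ Y).obj A)) := h.symm ▸ inferInstance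
  exact IsIso.of_isIso_comp_left (cstGerm (cPt ρ ≫ sH) A) _

lemma cospec_pull (f : X ⟶ Y) (σ : Spec (CommRingCat.of H) ⟶ X) (G : EtModW.Mod Λ Y) :
    (cospec (Λ := Λ) ρ γ σ).app ((EtModW.pull Λ f).obj G) ≫ (stalkPullIso Λ f (γ ≫ σ)).hom.app G =
      (stalkPullIso Λ f (cPt ρ ≫ σ)).hom.app G ≫ (cospec (Λ := Λ) ρ γ (σ ≫ f)).app G := by
  refine ((stalkPullIso Λ f (cPt ρ ≫ σ)).app G).inv_comp_eq.mp ?_
  refine (Scheme.pointSmallEtale (cPt ρ ≫ σ ≫ f)).presheafFiber_hom_ext fun V v => ?_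
  obtain ⟨y, rfl⟩ : ∃ y, downPt f (cPt ρ ≫ σ) y = v :=
    ⟨(bcFiberIso f (cPt ρ ≫ σ)).inv.app V v,
      congrArg (fun k => k v) ((bcFiberIso f (cPt ρ ≫ σ)).inv_hom_id_app V)⟩
  have hu : (Scheme.pointSmallEtale (cPt ρ ≫ σ ≫ f)).toPresheafFiber V (downPt f (cPt ρ ≫ σ) y) G.obj ≫
      (stalkPullIso Λ f (cPt ρ ≫ σ)).inv.app G = ((modAdj Λ f).unit.app G).hom.app (op V) ≫
        (Scheme.pointSmallEtale (cPt ρ ≫ σ)).toPresheafFiber ((EtCoh.bc f).obj V) y
          ((EtModW.pull Λ f).obj G).obj := by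
    refine ((stalkPullIso Λ f (cPt ρ ≫ σ)).app G).comp_inv_eq.mpr ?_
    exact (germ_unit Λ f (cPt ρ ≫ σ) V y).symm.trans (Category.assoc _ _ _).symm
  refine (Category.assoc _ _ _).symm.trans ((congrArg (fun t => t ≫ _) hu).trans ?_)
  refine (Category.assoc _ _ _).trans ?_
  refine (congrArg (fun t => ((modAdj Λ f).unit.app G).hom.app (op V) ≫ t)
    ((Category.assoc _ _ _).symm.trans (congrArg (fun t => t ≫ (stalkPullIso Λ f (γ ≫ σ)).hom.app G)
      (germ_cospec ρ γ σ _ _ y)))).trans ?_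
  refine (germ_unit Λ f (γ ≫ σ) V ((cospecPt ρ γ σ).hom.app _ y)).trans ?_
  refine Eq.trans ?_ (germ_cospec ρ γ (σ ≫ f) G V _).symm
  refine congrArg (fun p => (Scheme.pointSmallEtale (γ ≫ σ ≫ f)).toPresheafFiber V p G.obj) ?_
  refine Over.OverMorphism.ext ?_
  refine (downPt_left f (γ ≫ σ) _).trans ?_
  show (γ ≫ sigOf ρ σ y) ≫ pullback.fst V.hom f = γ ≫ sigOf ρ (σ ≫ f) _
  rw [Category.assoc]
  refine congrArg (fun t => γ ≫ t) (sigOf_eq ρ (σ ≫ f) _ _ ?_ ?_).symm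
  · rw [Category.assoc, pullback.condition, ← Category.assoc]
    exact congrArg (fun t => t ≫ f) (sigOf_hom ρ σ y)
  · refine (Category.assoc _ _ _).symm.trans ?_
    exact (congrArg (fun t => t ≫ pullback.fst V.hom f) (cPt_sigOf ρ σ y)).trans
      (downPt_left f (cPt ρ ≫ σ) y).symm

lemma isIso_cospec (sH : Spec (CommRingCat.of H) ⟶ Y) {G : EtModW.Mod Λ Y} (hG : EtModW.IsFTLocConst Λ G) :
    IsIso ((cospec ρ γ sH).app G) := by
  obtain ⟨U, y, A, hy, -, ⟨α⟩⟩ := isFTLocConst_iff.mp hG ((cPt ρ ≫ sH) default)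
  obtain ⟨v, -⟩ := exists_fiber_point (cPt ρ ≫ sH) U y hy
  have hσ := sigOf_hom ρ sH v
  generalize sigOf ρ sH v = σ at hσ
  subst hσ
  haveI := isIso_cospec_cst (Λ := Λ) ρ γ σ A
  haveI : IsIso ((cospec ρ γ σ).app ((EtModW.pull Λ U.hom).obj G)) :=
    (NatTrans.isIso_app_iff_of_iso (cospec ρ γ σ) α).mpr (isIso_cospec_cst ρ γ σ A)
  haveI : IsIso ((stalkPullIso Λ U.hom (cPt ρ ≫ σ)).hom.app G ≫ (cospec ρ γ (σ ≫ U.hom)).app G) := by
    rw [← cospec_pull]; infer_instance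
  exact IsIso.of_isIso_comp_left ((stalkPullIso Λ U.hom (cPt ρ ≫ σ)).hom.app G) _

/-- Specializations give isomorphisms of stalk systems of locally constant sheaves. -/
theorem nonempty_iso_of_specializes {J : Type*} [Category* J] (F : J ⥤ EtModW.Mod Λ X)
    (hF : ∀ j, EtModW.IsFTLocConst Λ (F.obj j)) {x' x : X} (h : x' ⤳ x) :
    Nonempty (F ⋙ EtModW.stalk Λ (sepPoint X x) ≅ F ⋙ EtModW.stalk Λ (sepPoint X x')) := by
  let R := HenselLib.LocalSH (X.presheaf.stalk x)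
  let R' := HenselLib.LocalSH (X.presheaf.stalk x')
  have hR := HenselLib.isStrictHenselization_localSH (R := X.presheaf.stalk x)
  have hR' := HenselLib.isStrictHenselization_localSH (R := X.presheaf.stalk x')
  haveI := hR.henselian
  haveI := hR'.henselian
  haveI := hR.isSepClosure.sep_closed
  haveI := hR'.isSepClosure.sep_closed
  obtain ⟨g, hg⟩ := (Specialization.exists_iff (X := X) (x := x) (x' := x') R R').mpr h
  let sH := Hens2.specOf X x R
  let ρ : ResidueField R →+* ResidueField R := RingHom.id _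
  let γ : Spec (CommRingCat.of (ResidueField R')) ⟶ Spec (CommRingCat.of R) :=
    cPt (RingHom.id (ResidueField R')) ≫ g
  let c := Functor.whiskerLeft F (cospec (Λ := Λ) ρ γ sH)
  haveI : ∀ j, IsIso (c.app j) := fun j => isIso_cospec ρ γ sH (hF j)
  haveI : IsIso c := NatIso.isIso_of_isIso_app c
  have h₁ : (cPt ρ ≫ sH) default = (sepPoint X x) default := by
    rw [sepPoint_default]
    exact (congrArg sH (cPt_default ρ)).trans (Specialization.specOf_closedPoint R)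
  have h₂ : (γ ≫ sH) default = (sepPoint X x') default := by
    rw [sepPoint_default, show γ ≫ sH = cPt (RingHom.id (ResidueField R')) ≫ Hens2.specOf X x' R' by
      simp only [γ, sH, Category.assoc, hg]]
    exact (congrArg (Hens2.specOf X x' R') (cPt_default (RingHom.id (ResidueField R')))).trans
      (Specialization.specOf_closedPoint R')
  obtain ⟨e₁⟩ := nonempty_stalkFun_iso (Λ := Λ) _ _ h₁
  obtain ⟨e₂⟩ := nonempty_stalkFun_iso (Λ := Λ) _ _ h₂
  exact ⟨(Functor.isoWhiskerLeft F e₁).symm ≪≫ asIso c ≪≫ Functor.isoWhiskerLeft F e₂⟩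

/-- On a connected Noetherian scheme all stalk systems of locally constant sheaves are isomorphic. -/
theorem nonempty_iso_stalkSystems [IsNoetherian X] [ConnectedSpace X] {J : Type*} [Category* J]
    (F : J ⥤ EtModW.Mod Λ X) (hF : ∀ j, EtModW.IsFTLocConst Λ (F.obj j))
    {Ω₁ : Type u} [Field Ω₁] [IsSepClosed Ω₁] (s : Spec (CommRingCat.of Ω₁) ⟶ X)
    {Ω₂ : Type u} [Field Ω₂] [IsSepClosed Ω₂] (s' : Spec (CommRingCat.of Ω₂) ⟶ X) :
    Nonempty (F ⋙ EtModW.stalk Λ s ≅ F ⋙ EtModW.stalk Λ s') := by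
  let x₀ := s default
  let S : Set X := {x | Nonempty (F ⋙ EtModW.stalk Λ (sepPoint X x₀) ≅ F ⋙ EtModW.stalk Λ (sepPoint X x))}
  have hup : ∀ {a b : X}, a ⤳ b → (a ∈ S ↔ b ∈ S) := fun {a b} h => by
    obtain ⟨e⟩ := nonempty_iso_of_specializes F hF h
    exact ⟨fun ⟨i⟩ => ⟨i ≪≫ e.symm⟩, fun ⟨i⟩ => ⟨i ≪≫ e⟩⟩
  have hcl : ∀ T : Set X, (∀ {a b : X}, a ⤳ b → (a ∈ T ↔ b ∈ T)) → IsClosed T := fun T hT => by
    have hfin := TopologicalSpace.NoetherianSpace.finite_irreducibleComponents (α := X)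
    have e : T = ⋃ Z ∈ {Z ∈ irreducibleComponents X | (Z ∩ T).Nonempty}, Z := by
      ext x
      simp only [Set.mem_iUnion, Set.mem_setOf_eq, exists_prop]
      refine ⟨fun hx => ⟨_, ⟨irreducibleComponent_mem_irreducibleComponents x, x, mem_irreducibleComponent, hx⟩,
        mem_irreducibleComponent⟩, fun ⟨Z, ⟨hZ, z, hzZ, hzT⟩, hx⟩ => ?_⟩
      obtain ⟨η, hη⟩ := QuasiSober.sober hZ.1 (isClosed_of_mem_irreducibleComponents Z hZ)
      exact (hT (hη.specializes hx)).mp ((hT (hη.specializes hzZ)).mpr hzT)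
    rw [e]
    exact (hfin.subset fun Z hZ => hZ.1).isClosed_biUnion fun Z hZ => isClosed_of_mem_irreducibleComponents Z hZ.1
  have hS : IsClopen S := ⟨hcl S hup, isClosed_compl_iff.mp (hcl Sᶜ fun h => (hup h).not)⟩
  obtain ⟨i⟩ : s' default ∈ S := (hS.eq_univ ⟨x₀, ⟨Iso.refl _⟩⟩).symm ▸ Set.mem_univ _
  obtain ⟨e₁⟩ := nonempty_stalkFun_iso (Λ := Λ) s (sepPoint X x₀) (sepPoint_default X x₀).symm
  obtain ⟨e₂⟩ := nonempty_stalkFun_iso (Λ := Λ) s' (sepPoint X (s' default)) (sepPoint_default X _).symm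
  exact ⟨Functor.isoWhiskerLeft F e₁ ≪≫ i ≪≫ (Functor.isoWhiskerLeft F e₂).symm⟩

end Groth.Agent.Et18.Mod
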