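import Groth.Agent.Et18.Mod.FTLC
import Groth.Agent.Et18.StalkPush
import Groth.Agent.Et18.Thickening
import Mathlib.Algebra.Homology.ShortComplex.Exact

/-!
# Sheaves of modules and immersions
-/

universe u

open CategoryTheory CategoryTheory.Limits AlgebraicGeometry Opposite

set_option backward.isDefEq.respectTransparency.types false
set_option backward.isDefEq.respectTransparency false

namespace Groth.Agent.Et18.Mod

open Et18 (bcLiftsEtale_of_isImmersion exists_bc_cover exists_bc_lift bc_isEquivalence_of_thickening)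

variable {Λ : Type (u + 1)} [CommRing Λ] {X Y : Scheme.{u}}

instance hasFiniteBiproducts_mod : HasFiniteBiproducts (EtModW.Mod Λ X) :=
  HasFiniteBiproducts.of_hasFiniteProducts

variable (Λ) in
/-- The adjunction of inverse and direct images. -/
noncomputable abbrev pullPushAdj (f : X ⟶ Y) : EtModW.pull Λ f ⊣ EtModW.push Λ f :=
  (EtCoh.bc f).sheafAdjunctionContinuous (ModuleCat.{u + 1} Λ) Y.smallEtaleTopology X.smallEtaleTopology

/-- The counit is invertible along immersions. -/
theorem isIso_counit_app (f : X ⟶ Y) [IsImmersion f] (F : EtModW.Mod Λ X) :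
    IsIso ((pullPushAdj Λ f).counit.app F) := by
  refine isIso_of_stalks _ fun x => ?_
  have hf := bcLiftsEtale_of_isImmersion f
  refine isIso_sheafFiber_map_counit (Scheme.pointSmallEtale (sepPoint X x)) (EtCoh.bc f)
    (EtCoh.coverPreserving_bc f) (ModuleCat.{u + 1} Λ) (exists_bc_cover hf (sepPoint X x)) ?_ F
  intro V W g w
  obtain ⟨V', a, x, h, hg, hx⟩ := exists_bc_lift hf (sepPoint X x) V W g w
  refine ⟨V', a, x, h, hg, ?_⟩
  rw [← hg, Functor.map_comp, ConcreteCategory.comp_apply, hx]

/-- The unit is invertible along surjective immersions. -/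
theorem isIso_unit_app (k : Y ⟶ X) [IsImmersion k] [Surjective k] (F : EtModW.Mod Λ X) :
    IsIso ((pullPushAdj Λ k).unit.app F) := by
  haveI := isIso_counit_app k ((EtModW.pull Λ k).obj F)
  have h1 : IsIso ((EtModW.pull Λ k).map ((pullPushAdj Λ k).unit.app F)) := by
    haveI : IsIso ((EtModW.pull Λ k).map ((pullPushAdj Λ k).unit.app F) ≫
        (pullPushAdj Λ k).counit.app ((EtModW.pull Λ k).obj F)) := by
      exact ((pullPushAdj Λ k).left_triangle_components F).symm ▸ IsIso.id _
    exact IsIso.of_isIso_comp_right _ ((pullPushAdj Λ k).counit.app ((EtModW.pull Λ k).obj F))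
  refine isIso_of_stalks_family Λ (ι := ULift.{u + 1} Y) (fun y => sepPoint Y y.down ≫ k)
    (fun x => ?_) _ fun y => ?_
  · obtain ⟨y, hy⟩ := k.surjective x
    exact ⟨⟨y⟩, (congrArg k (sepPoint_default Y y)).trans hy⟩
  · haveI := h1
    exact (NatIso.isIso_map_iff (stalkPullIso Λ k (sepPoint Y y.down)) _).mp
      (inferInstanceAs (IsIso ((EtModW.stalk Λ (sepPoint Y y.down)).map
        ((EtModW.pull Λ k).map ((pullPushAdj Λ k).unit.app F)))))

/-- Inverse image along a surjective immersion reflects isomorphy. -/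
theorem nonempty_iso_of_pull_iso (k : Y ⟶ X) [IsImmersion k] [Surjective k] {G H : EtModW.Mod Λ X}
    (e : (EtModW.pull Λ k).obj G ≅ (EtModW.pull Λ k).obj H) : Nonempty (G ≅ H) := by
  haveI := isIso_unit_app k G
  haveI := isIso_unit_app k H
  exact ⟨asIso ((pullPushAdj Λ k).unit.app G) ≪≫ (EtModW.push Λ k).mapIso e ≪≫
    (asIso ((pullPushAdj Λ k).unit.app H)).symm⟩

/-- Being finite type locally constant descends along surjective immersions. -/
theorem isFTLocConst_of_pull_immersion (i : Y ⟶ X) [IsImmersion i] [Surjective i] {G : EtModW.Mod Λ X}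
    (h : EtModW.IsFTLocConst Λ ((EtModW.pull Λ i).obj G)) : EtModW.IsFTLocConst Λ G := by
  haveI : IsClosedImmersion i :=
    IsClosedImmersion.of_isPreimmersion i (by rw [i.surjective.range_eq]; exact isClosed_univ)
  haveI := bc_isEquivalence_of_thickening i
  refine isFTLocConst_iff.mpr fun x => ?_
  obtain ⟨z, rfl⟩ := i.surjective x
  obtain ⟨V, y, A, hy, hA, hV⟩ := isFTLocConst_iff.mp h z
  let V' := (EtCoh.bc i).objPreimage V
  let e : (EtCoh.bc i).obj V' ≅ V := (EtCoh.bc i).objObjPreimageIso V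
  let k := bcFst i V'
  have hw : k ≫ V'.hom = ((EtCoh.bc i).obj V').hom ≫ i := pullback.condition
  haveI : IsImmersion k := inferInstanceAs (IsImmersion (pullback.fst V'.hom i))
  haveI : Surjective k := inferInstanceAs (Surjective (pullback.fst V'.hom i))
  have hT := (triv_pull_iff i _ G A).mp (hV.comp e.hom.left (MorphismProperty.Over.w e.hom))
  refine ⟨V', k (e.inv.left y), A, ?_, hA, ?_⟩
  · show (k ≫ V'.hom) (e.inv.left y) = i z
    rw [hw, Scheme.Hom.comp_apply, ← hy]
    exact congrArg i (congrArg (fun t : V.left ⟶ Y => t y) (MorphismProperty.Over.w e.inv))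
  · exact nonempty_iso_of_pull_iso k
      (((modPullComp Λ k V'.hom).app G).symm ≪≫ (pullCongr Λ hw).app G ≪≫ hT.some ≪≫
        ((modPullConstIso Λ k).app A).symm)

lemma isFTLocConst_of_isZero {F : EtModW.Mod Λ X} (h : IsZero F) : EtModW.IsFTLocConst Λ F := by
  have h0 : IsZero (ModuleCat.of Λ PUnit.{u + 2}) := ModuleCat.isZero_of_subsingleton _
  exact isFTLocConst_of_iso (isFTLocConst_cst (ModuleCat.of Λ PUnit.{u + 2}))
    (((cst Λ X).map_isZero h0).iso h)

lemma isFTLocConst_biprod [IsNoetherianRing Λ] {F G : EtModW.Mod Λ X} (hF : EtModW.IsFTLocConst Λ F)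
    (hG : EtModW.IsFTLocConst Λ G) : EtModW.IsFTLocConst Λ (F ⊞ G) :=
  isFTLocConst_extension (S := ShortComplex.mk (biprod.inl : F ⟶ F ⊞ G) biprod.snd biprod.inl_snd)
    (ShortComplex.Splitting.shortExact
      { r := biprod.fst
        s := biprod.inr }) hF hG

/-- Finite sums, one summand at a time. -/
noncomputable def biproductFinSuccIso {n : ℕ} (F : Fin (n + 1) → EtModW.Mod Λ X) :
    F 0 ⊞ (⨁ fun i : Fin n => F i.succ) ≅ ⨁ F where
  hom := biprod.desc (biproduct.ι F 0) (biproduct.desc fun i => biproduct.ι F i.succ)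
  inv := biproduct.desc (Fin.cases biprod.inl
    fun i => biproduct.ι (fun i : Fin n => F i.succ) i ≫ biprod.inr)
  hom_inv_id := by
    refine biprod.hom_ext' _ _ ?_ (biproduct.hom_ext' _ _ fun i => ?_) <;> simp
  inv_hom_id := by
    refine biproduct.hom_ext' _ _ fun j => ?_
    cases j using Fin.cases <;> simp

theorem isFTLocConst_biproduct [IsNoetherianRing Λ] : ∀ {n : ℕ} (F : Fin n → EtModW.Mod Λ X),
    (∀ i, EtModW.IsFTLocConst Λ (F i)) → EtModW.IsFTLocConst Λ (⨁ F)
  | 0, F, _ => isFTLocConst_of_isZero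
      ((IsZero.iff_id_eq_zero _).mpr (biproduct.hom_ext' _ _ fun i => i.elim0))
  | _ + 1, F, h => isFTLocConst_of_iso (isFTLocConst_biprod (h 0) (isFTLocConst_biproduct _ fun i => h i.succ))
      (biproductFinSuccIso F)

end Groth.Agent.Et18.Mod
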