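import Groth.Agent.Et18.Mod.ExtZero
import Groth.Agent.Et18.Mod.Immersion
import Groth.Agent.Et18.Mod.StrataApps
import Groth.Agent.Et18.ExtZeroGeneral

/-!
# `j_!` of sheaves of modules: base change, splitting, constructibility
-/

universe u

open CategoryTheory CategoryTheory.Limits AlgebraicGeometry Opposite Topology

set_option backward.isDefEq.respectTransparency.types false
set_option backward.isDefEq.respectTransparency false

namespace Groth.Agent.Et18.Mod

open Et18 (PointLift compBcIso isColimitCofanReindex etale_lift sectionPieceHom ConstLifts exists_open_constLifts isClosed_of_constLifts hasLifts_preimage exists_affine_etale_cover compEtaleCompIso exists_immersion_range exists_nhd_sections exists_lift_of_mem exists_atLeast exists_bound_lifts finite_lifts_of_etale HasLifts fiberIncl)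

variable {Λ : Type (u + 1)} [CommRing Λ]

section BaseChange

variable {V' V Y X : Scheme.{u}} (j : V ⟶ X) [Etale j] (f : Y ⟶ X) (j' : V' ⟶ Y) [Etale j']
  (f' : V' ⟶ V) (h : IsPullback j' f' f j)

variable [EtShriek.JCont j] [EtShriek.JCont j']

/-- `j'_! f'^* ≅ f^* j_!`. -/
noncomputable def extZeroBaseChangeIso :
    EtModW.pull Λ f' ⋙ EtSix.extZeroMod Λ j' ≅ EtSix.extZeroMod Λ j ⋙ EtModW.pull Λ f :=
  haveI := Functor.isContinuous_comp (EtCoh.bc f') (EtShriek.compEtale j') V.smallEtaleTopology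
    V'.smallEtaleTopology Y.smallEtaleTopology
  haveI := Functor.isContinuous_comp (EtShriek.compEtale j) (EtCoh.bc f) V.smallEtaleTopology
    X.smallEtaleTopology Y.smallEtaleTopology
  ((pullPushAdj Λ f').comp (EtSix.extZeroModAdj Λ j')).leftAdjointUniq
    (((EtSix.extZeroModAdj Λ j).comp (pullPushAdj Λ f)).ofNatIsoRight
      (Functor.sheafPushforwardContinuousComp _ _ _ _ _ _ ≪≫
        Functor.sheafPushforwardContinuousIso (compBcIso j f j' f' h).symm
          (ModuleCat.{u + 1} Λ) V.smallEtaleTopology Y.smallEtaleTopology ≪≫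
        (Functor.sheafPushforwardContinuousComp _ _ _ _ _ _).symm))

end BaseChange

section Split

variable {U X : Scheme.{u}} (j : U ⟶ X) [Etale j] [EtShriek.JCont j]

/-- `extZeroInj` is the unit followed by the restriction map of stalks. -/
lemma extZeroInj_eq {Ω : Type u} [Field Ω] [IsSepClosed Ω] (ξ : Spec (CommRingCat.of Ω) ⟶ X)
    (u : PointLift j ξ) (F : EtModW.Mod Λ U) :
    extZeroInj j ξ F u = (EtModW.stalk Λ u.1).map ((EtSix.extZeroModAdj Λ j).unit.app F) ≫
      restrStalkMap j ξ u ((EtSix.extZeroMod Λ j).obj F) := by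
  refine Eq.symm ?_
  refine ((reassoc_of% (extZeroInj_naturality j ξ ((EtSix.extZeroModAdj Λ j).unit.app F) u))
    ((EtModW.stalk Λ ξ).map ((EtSix.extZeroModAdj Λ j).counit.app ((EtSix.extZeroMod Λ j).obj F)))).trans ?_
  refine (congrArg (fun z => extZeroInj j ξ F u ≫ z) (((EtModW.stalk Λ ξ).map_comp _ _).symm.trans
    ((congrArg (EtModW.stalk Λ ξ).map ((EtSix.extZeroModAdj Λ j).left_triangle_components F)).trans
      ((EtModW.stalk Λ ξ).map_id _)))).trans ?_
  exact Category.comp_id _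

variable {W : X.Etale} (s : W.left ⟶ U) (hs : s ≫ j = W.hom)

variable [Etale s] [EtShriek.JCont W.hom]

/-- The map `s^* F ⟶ w^* j_! F`. -/
noncomputable def splitMap (F : EtModW.Mod Λ U) :
    (EtSix.restrMod Λ s).obj F ⟶
      (EtSix.restrMod Λ W.hom).obj ((EtSix.extZeroMod Λ j).obj F) :=
  (EtSix.restrMod Λ s).map ((EtSix.extZeroModAdj Λ j).unit.app F) ≫
    ⟨Functor.whiskerRight (NatTrans.op (sectionPieceHom j s hs)) ((EtSix.extZeroMod Λ j).obj F).obj⟩

lemma stalk_splitMap (F : EtModW.Mod Λ U) {Ω : Type u} [Field Ω] [IsSepClosed Ω]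
    (η : Spec (CommRingCat.of Ω) ⟶ W.left) :
    (EtModW.stalk Λ η).map (splitMap j s hs F) ≫
        restrStalkMap W.hom (η ≫ W.hom) ⟨η, rfl⟩ ((EtSix.extZeroMod Λ j).obj F) =
      restrStalkMap s (η ≫ s) ⟨η, rfl⟩ F ≫
        extZeroInj j (η ≫ W.hom) F ⟨η ≫ s, (Category.assoc _ _ _).trans (congrArg _ hs)⟩ := by
  haveI : Etale W.hom := W.prop
  let uj : PointLift j (η ≫ W.hom) := ⟨η ≫ s, (Category.assoc _ _ _).trans (congrArg _ hs)⟩
  refine GrothendieckTopology.Point.presheafFiber_hom_ext _ fun V v => ?_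
  let G := (EtSix.extZeroMod Λ j).obj F
  refine ((reassoc_of% ((Scheme.pointSmallEtale η).toPresheafFiber_naturality
    (splitMap j s hs F).hom V v)) _).trans ?_
  refine Eq.trans ?_ ((reassoc_of% (germ_restrStalkMap s (η ≫ s) ⟨η, rfl⟩ F V v)) _).symm
  rw [extZeroInj_eq]
  refine (congrArg (fun t => (splitMap j s hs F).hom.app (op V) ≫ t)
    (germ_restrStalkMap W.hom (η ≫ W.hom) ⟨η, rfl⟩ G V v)).trans ?_
  refine Eq.trans ?_ ((reassoc_of% ((Scheme.pointSmallEtale uj.1).toPresheafFiber_naturality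
    ((EtSix.extZeroModAdj Λ j).unit.app F).hom ((EtShriek.compEtale s).obj V)
      (fiberIncl (⟨η, rfl⟩ : PointLift s (η ≫ s)) v))) (restrStalkMap j (η ≫ W.hom) uj G)).symm
  refine Eq.trans (Category.assoc _ _ _) ?_
  refine congrArg (fun t => ((EtSix.extZeroModAdj Λ j).unit.app F).hom.app
    (op ((EtShriek.compEtale s).obj V)) ≫ t) ?_
  refine Eq.trans ?_ (germ_restrStalkMap j (η ≫ W.hom) uj G _ _).symm
  refine ((Scheme.pointSmallEtale (η ≫ W.hom)).toPresheafFiber_w ((sectionPieceHom j s hs).app V)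
    _ G.obj).trans ?_
  congr 1

omit [Etale s] [EtShriek.JCont W.hom] in
/-- If every geometric point has exactly `n` lifts, `j_!` is étale locally a sum of `n` inverse
images. -/
theorem exists_nhd_extZero_split [IsSeparated j] (n : ℕ)
    (hn : ∀ (Ω : Type u) [Field Ω] [IsSepClosed Ω] (ξ : Spec (CommRingCat.of Ω) ⟶ X),
      HasLifts j ξ n ∧ ¬ HasLifts j ξ (n + 1)) (x : X) :
    ∃ (W : X.Etale) (y : W.left) (s : Fin n → (W.left ⟶ U)), W.hom y = x ∧
      ∀ F : EtModW.Mod Λ U, Nonempty ((EtModW.pull Λ W.hom).obj ((EtSix.extZeroMod Λ j).obj F) ≅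
        ⨁ fun i => (EtModW.pull Λ (s i)).obj F) := by
  classical
  obtain ⟨e, he⟩ := (hn _ (sepPoint X x)).1
  obtain ⟨W, w, s, hw, hs, -, hinj⟩ := exists_nhd_sections j n (sepPoint X x) e he
  haveI : Etale W.hom := W.prop
  haveI := fun i => etale_lift j (s i) (hs i)
  haveI : EtShriek.JCont W.hom := jCont W.hom
  refine ⟨W, w default, s, ?_, fun F => ?_⟩
  · show (w ≫ W.hom) default = x
    rw [hw]
    exact sepPoint_default X x
  let G := (EtSix.extZeroMod Λ j).obj F
  let D : (⨁ fun i => (EtSix.restrMod Λ (s i)).obj F) ⟶ (EtSix.restrMod Λ W.hom).obj G :=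
    biproduct.desc fun i => splitMap j (s i) (hs i) F
  haveI : IsIso D := isIso_of_stalks _ fun y => by
    let η := sepPoint W.left y
    let ξ' := η ≫ W.hom
    let R := restrStalkMap W.hom ξ' ⟨η, rfl⟩ G
    haveI : IsIso R := (ConcreteCategory.isIso_iff_bijective _).mpr (restrStalkMap_bijective W.hom ξ' ⟨η, rfl⟩ G)
    let lift : Fin n → PointLift j ξ' := fun i => ⟨η ≫ s i, (Category.assoc _ _ _).trans (congrArg _ (hs i))⟩
    have hb : Function.Bijective lift := by
      have hli : Function.Injective lift := fun a b hab => hinj _ η (congrArg Subtype.val hab)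
      refine ⟨hli, fun u => ?_⟩
      by_contra hu
      simp only [not_exists] at hu
      exact (hn _ ξ').2 ⟨Fin.cons u lift, Fin.cons_injective_iff.mpr ⟨fun ⟨i, hi⟩ => hu i hi, hli⟩⟩
    let ri : ∀ i, (EtModW.stalk Λ η).obj ((EtSix.restrMod Λ (s i)).obj F) ≅
        (EtModW.stalk Λ ((Equiv.ofBijective lift hb) i).1).obj F := fun i =>
      haveI : IsIso (restrStalkMap (s i) (η ≫ s i) ⟨η, rfl⟩ F) :=
        (ConcreteCategory.isIso_iff_bijective _).mpr (restrStalkMap_bijective (s i) (η ≫ s i) ⟨η, rfl⟩ F)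
      asIso (restrStalkMap (s i) (η ≫ s i) ⟨η, rfl⟩ F)
    let c₂ := isColimitCofanReindex (extZeroIsColimit j ξ' F) (Equiv.ofBijective lift hb) ri
    let b := biproduct.bicone fun i => (EtSix.restrMod Λ (s i)).obj F
    haveI : (EtModW.stalk Λ η).Additive :=
      haveI : PreservesBinaryBiproducts (EtModW.stalk Λ η) := preservesBinaryBiproducts_of_preservesBinaryProducts _
      Functor.additive_of_preservesBinaryBiproducts _
    let c₁ := (isBilimitOfPreserves (EtModW.stalk Λ η) (biproduct.isBilimit _) :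
      ((EtModW.stalk Λ η).mapBicone b).IsBilimit).isColimit
    have : (EtModW.stalk Λ η).map D ≫ R = (c₁.coconePointUniqueUpToIso c₂).hom := by
      refine c₁.hom_ext fun ⟨i⟩ => ?_
      refine Eq.trans ?_ (c₁.comp_coconePointUniqueUpToIso_hom c₂ ⟨i⟩).symm
      show (EtModW.stalk Λ η).map (biproduct.ι _ i) ≫ (EtModW.stalk Λ η).map D ≫ R = _
      rw [← Functor.map_comp_assoc, biproduct.ι_desc]
      exact stalk_splitMap j (s i) (hs i) F η
    haveI : IsIso ((EtModW.stalk Λ η).map D ≫ R) := this ▸ inferInstance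
    exact IsIso.of_isIso_comp_right _ R
  exact ⟨(pullRestrIso Λ W.hom).app G ≪≫ (asIso D).symm ≪≫
    biproduct.mapIso fun i => ((pullRestrIso Λ (s i)).app F).symm⟩

end Split

variable {U X : Scheme.{u}} [IsNoetherianRing Λ]

omit [IsNoetherianRing Λ] in
lemma stratified_empty (F : EtModW.Mod Λ X) : Stratified F (∅ : Set X) :=
  ⟨Empty, inferInstance, fun e => e.elim, fun e => e.elim, fun e => e.elim, fun e => e.elim,
    fun e => e.elim, Set.iUnion_of_empty _, fun e => e.elim⟩

/-- With constantly many lifts `j_!` preserves finite locally constant sheaves. -/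
theorem isFTLocConst_extZero_of_constLifts (j : U ⟶ X) [Etale j] [EtShriek.JCont j] [IsSeparated j] {n : ℕ}
    (hn : ConstLifts j n) {F : EtModW.Mod Λ U} (hF : EtModW.IsFTLocConst Λ F) :
    EtModW.IsFTLocConst Λ ((EtSix.extZeroMod Λ j).obj F) := by
  refine isFTLocConst_iff.mpr (LocTriv.of_nhds fun x => ?_)
  obtain ⟨W, y, s, hy, h⟩ := exists_nhd_extZero_split (Λ := Λ) j n hn x
  obtain ⟨e⟩ := h F
  exact ⟨W, y, hy, isFTLocConst_iff.mp (isFTLocConst_of_iso (isFTLocConst_biproduct _ fun i => isFTLocConst_pull hF (s i)) e.symm)⟩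

/-- On a qcqs base, `j_!` of a stratified sheaf along a separated quasi-compact étale morphism is
stratified. -/
theorem stratified_extZero [CompactSpace X] [QuasiSeparatedSpace X] (j : U ⟶ X) [Etale j]
    [EtShriek.JCont j] [IsSeparated j] [QuasiCompact j] {F : EtModW.Mod Λ U}
    (hF : Stratified F Set.univ) : Stratified ((EtSix.extZeroMod Λ j).obj F) Set.univ := by
  classical
  haveI : CompactSpace U := QuasiCompact.compactSpace_of_compactSpace j
  haveI : QuasiSeparatedSpace U := quasiSeparatedSpace_of_quasiSeparated j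
  obtain ⟨ι, hι, T, g, hg, hc, hd, hu, hFi⟩ := hF
  choose OO hOf hOo hOp using fun i => H8Top.exists_pattern (hc i).isConstructible
  let PP : Set (Set U) := insert Set.univ (⋃ i, OO i)
  haveI : Finite PP := ((Set.finite_iUnion hOf).insert _).to_subtype
  have hPP : ∀ O : PP, IsOpen (O : Set U) ∧ IsRetrocompact (O : Set U) := by
    rintro ⟨O, rfl | hO⟩
    · exact ⟨isOpen_univ, .univ⟩
    · obtain ⟨i, hi⟩ := Set.mem_iUnion.mp hO
      exact hOo i O hi
  let op' : PP → U.Opens := fun O => ⟨O.1, (hPP O).1⟩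
  have hqc : ∀ O : PP, QuasiCompact ((op' O).ι) := fun O =>
    haveI : CompactSpace (op' O).toScheme :=
      isCompact_iff_compactSpace.mp (show IsCompact (O : Set U) from (hPP O).2.isCompact)
    quasiCompact_iff_isSpectralMap.mpr (IsRetrocompact_iff_isSpectralMap_subtypeVal.mp (hPP O).2)
  have hjqc : ∀ O : PP, QuasiCompact ((op' O).ι ≫ j) := fun O => by
    haveI := hqc O; infer_instance
  choose N hN using fun O : PP => haveI := hjqc O; exists_bound_lifts ((op' O).ι ≫ j)
  choose E hEo hEc _ hE using fun O : PP => fun k => exists_atLeast k ((op' O).ι ≫ j)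
  let K := Σ O : PP, Fin (N O + 1)
  obtain ⟨r, ⟨eK⟩⟩ := Finite.exists_equiv_fin K
  obtain ⟨I, _, _, S, hS, hSu, hSd, -, hST⟩ := H8Top.exists_stratification
    (fun p : Fin r => E (eK.symm p).1 (eK.symm p).2)
    (fun p => (hEc _ _ (hjqc _) ‹_›).isConstructible (hEo _ _))
  rw [← hSu]
  refine Stratified.iUnion (fun a b hab => hSd a b hab) fun i => ?_
  rcases Set.eq_empty_or_nonempty (S i) with hemp | ⟨x₀, hx₀⟩
  · rw [hemp]; exact stratified_empty _
  obtain ⟨T₀, g₀, hg₀, hr₀⟩ := exists_immersion_range (hS i).1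
  refine ⟨Unit, inferInstance, fun _ => T₀, fun _ => g₀, fun _ => hg₀,
    fun _ => hr₀ ▸ (hS i).2.isLocallyConstructible, Subsingleton.pairwise,
    by rw [Set.iUnion_const, hr₀], fun _ => ?_⟩
  -- the lift count of every piece is constant on the stratum
  have hcount : ∀ O : PP, ∃ m, ConstLifts ((pullback.fst j g₀ ⁻¹ᵁ op' O).ι ≫ pullback.snd j g₀) m := by
    intro O
    have hmem : ∀ k, k ≤ N O → ∀ x ∈ S i, (x ∈ E O k ↔ x₀ ∈ E O k) := fun k hk x hx => by
      have key' : ∀ q : K, (S i ∩ E q.1 q.2).Nonempty → S i ⊆ E q.1 q.2 := fun q =>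
        eK.symm_apply_apply q ▸ hST i (eK q)
      have key : (S i ∩ E O k).Nonempty → S i ⊆ E O k := key' ⟨O, ⟨k, Nat.lt_succ_of_le hk⟩⟩
      exact ⟨fun h => key ⟨x, hx, h⟩ hx₀, fun h => key ⟨x₀, hx₀, h⟩ hx⟩
    have hex : ∃ k, x₀ ∉ E O k := ⟨N O, fun h => hN O _ (sepPoint X x₀)
      ((hE O _ _ _).mpr (by rw [sepPoint_default]; exact h))⟩
    have h0 : x₀ ∈ E O 0 := by
      rw [← sepPoint_default X x₀, ← hE]
      exact ⟨Fin.elim0, fun a => a.elim0⟩
    obtain ⟨m, hm⟩ : ∃ m, Nat.find hex = m + 1 :=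
      ⟨Nat.find hex - 1, (Nat.succ_pred_eq_of_ne_zero fun h => (h ▸ Nat.find_spec hex) h0).symm⟩
    have hmN : m + 1 ≤ N O := hm ▸ Nat.find_min' hex (fun h => hN O _ (sepPoint X x₀)
      ((hE O _ _ _).mpr (by rw [sepPoint_default]; exact h)))
    refine ⟨m, fun Ω _ _ η => ?_⟩
    have hη : g₀ (η default) ∈ S i := hr₀ ▸ ⟨_, rfl⟩
    rw [hasLifts_preimage, hasLifts_preimage, hE, hE]
    show g₀ (η default) ∈ E O m ∧ g₀ (η default) ∉ E O (m + 1)
    rw [hmem m (Nat.le_of_succ_le hmN) _ hη, hmem (m + 1) hmN _ hη]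
    exact ⟨by_contra fun h => Nat.find_min hex (hm ▸ m.lt_succ_self) h, hm ▸ Nat.find_spec hex⟩
  let jT := pullback.snd j g₀
  obtain ⟨n, hn⟩ : ∃ n, ConstLifts jT n := by
    obtain ⟨n, hn⟩ := hcount ⟨Set.univ, Set.mem_insert _ _⟩
    refine ⟨n, fun Ω _ _ η => ?_⟩
    have h := hn Ω η
    have key : ∀ k, HasLifts ((pullback.fst j g₀ ⁻¹ᵁ op' ⟨Set.univ, Set.mem_insert _ _⟩).ι ≫ jT) η k ↔
        HasLifts jT η k := fun k => by
      constructor
      · rintro ⟨e, he⟩
        exact ⟨fun a => ⟨(e a).1 ≫ Scheme.Opens.ι _, (Category.assoc _ _ _).trans (e a).2⟩,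
          fun a b hab => he (Subtype.ext ((cancel_mono (Scheme.Opens.ι _)).mp (congrArg Subtype.val hab)))⟩
      · rintro ⟨e, he⟩
        have : ∀ a, ∃ t, t ≫ (pullback.fst j g₀ ⁻¹ᵁ op' ⟨Set.univ, Set.mem_insert _ _⟩).ι = (e a).1 :=
          fun a => exists_lift_of_mem _ _ (by rw [Scheme.Opens.range_ι]; trivial)
        choose t ht using this
        exact ⟨fun a => ⟨t a, by rw [← Category.assoc, ht, (e a).2]⟩, fun a b hab => he (Subtype.ext (by
          rw [← ht, ← ht]; exact congrArg (fun z => z.1 ≫ _) hab))⟩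
    exact ⟨(key n).mp h.1, fun h' => h.2 ((key (n + 1)).mpr h')⟩
  have hclosed : ∀ O : PP, IsClosed ((pullback.fst j g₀ ⁻¹ᵁ op' O : (pullback j g₀).Opens) : Set ↥(pullback j g₀)) :=
    fun O => (hcount O).elim fun m hm => isClosed_of_constLifts jT hn _ hm
  let P := (EtModW.pull Λ (pullback.fst j g₀)).obj F
  have hP : EtModW.IsFTLocConst Λ P := by
    refine isFTLocConst_iff.mpr (LocTriv.of_nhds fun y => ?_)
    let π := pullback.fst j g₀
    obtain ⟨l, hl⟩ := Set.mem_iUnion.mp (hu.symm ▸ Set.mem_univ (π y) : π y ∈ ⋃ i, Set.range (g i))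
    let Z : Set ↥(pullback j g₀) := ⋂ O : OO l, if π y ∈ O.1 then π ⁻¹' O.1 else (π ⁻¹' O.1)ᶜ
    have hZo : IsOpen Z := by
      haveI := (hOf l).to_subtype
      refine isOpen_iInter_of_finite fun O => ?_
      split
      · exact ((hOo l O.1 O.2).1).preimage π.continuous
      · exact (hclosed ⟨O.1, Or.inr (Set.mem_iUnion.mpr ⟨l, O.2⟩)⟩).isOpen_compl
    have hyZ : y ∈ Z := Set.mem_iInter.mpr fun O => by
      split <;> assumption
    have hZsub : Z ⊆ π ⁻¹' Set.range (g l) := fun z hz => by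
      refine (hOp l (π y) (π z) fun O hO => ?_).mp hl
      have := Set.mem_iInter.mp hz ⟨O, hO⟩
      split at this
      · exact iff_of_true ‹_› this
      · exact iff_of_false ‹_› this
    let Q : (pullback j g₀).Opens := ⟨Z, hZo⟩
    refine ⟨Scheme.Etale.mk Q.ι, ⟨y, hyZ⟩, rfl, isFTLocConst_iff.mp ?_⟩
    haveI : Surjective (pullback.fst (Q.ι ≫ π) (g l)) := ⟨fun q => by
      have : q ∈ Set.range (pullback.fst (Q.ι ≫ π) (g l)) := by
        rw [Scheme.Pullback.range_fst]
        exact hZsub q.2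
      exact this⟩
    refine isFTLocConst_of_pull_immersion (pullback.fst (Q.ι ≫ π) (g l)) ?_
    refine isFTLocConst_of_iso (isFTLC_pull_comp (hFi l) (pullback.snd (Q.ι ≫ π) (g l))) ?_
    exact (pullCongr Λ pullback.condition.symm).app F ≪≫ (modPullComp Λ _ _).app F ≪≫
      (EtModW.pull Λ _).mapIso ((modPullComp Λ Q.ι π).app F)
  haveI : EtShriek.JCont jT := jCont jT
  exact isFTLocConst_of_iso (isFTLocConst_extZero_of_constLifts jT hn hP)
    ((extZeroBaseChangeIso j g₀ jT (pullback.fst j g₀) (IsPullback.of_hasPullback j g₀).flip).app F)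

/-- A base change of `j_!` to an open. -/
theorem isConstructible_extZero_of_separated (j : U ⟶ X) [Etale j] [EtShriek.JCont j] [IsSeparated j]
    [QuasiCompact j] {F : EtModW.Mod Λ U} (hF : EtModW.IsConstructible Λ F) :
    EtModW.IsConstructible Λ ((EtSix.extZeroMod Λ j).obj F) := by
  rw [isConstructible_iff_affine]
  intro V hV
  have := (qcqs_of_isAffineOpen hV).1
  have := (qcqs_of_isAffineOpen hV).2
  let j' := pullback.snd j V.ι
  haveI : EtShriek.JCont j' := jCont j'
  haveI : CompactSpace ↥(pullback j V.ι) := QuasiCompact.compactSpace_of_compactSpace j'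
  haveI : QuasiSeparatedSpace ↥(pullback j V.ι) := quasiSeparatedSpace_of_quasiSeparated j'
  exact (stratified_extZero j'
    ((isConstructible_iff_stratified _).mp (isConstructible_pull (pullback.fst j V.ι) hF))).of_iso
    ((extZeroBaseChangeIso j V.ι j' (pullback.fst j V.ι) (IsPullback.of_hasPullback j V.ι).flip).app F)

section General

variable {V : Scheme.{u}} (k : V ⟶ U) (j : U ⟶ X) [Etale k] [Etale j] [EtShriek.JCont k]
  [EtShriek.JCont j] [EtShriek.JCont (k ≫ j)]

/-- Composition of extensions by zero. -/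
noncomputable def extZeroCompIso :
    EtSix.extZeroMod Λ k ⋙ EtSix.extZeroMod Λ j ≅ EtSix.extZeroMod Λ (k ≫ j) :=
  ((EtSix.extZeroModAdj Λ k).comp (EtSix.extZeroModAdj Λ j)).leftAdjointUniq
    ((EtSix.extZeroModAdj Λ (k ≫ j)).ofNatIsoRight
      (Functor.sheafPushforwardContinuousComp' (compEtaleCompIso k j) (ModuleCat.{u + 1} Λ)
        V.smallEtaleTopology U.smallEtaleTopology X.smallEtaleTopology).symm)

omit [Etale k] [EtShriek.JCont k] [EtShriek.JCont (k ≫ j)] in
/-- `j_!` preserves constructible sheaves, for `j` étale between qcqs schemes. -/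
theorem isConstructible_extZero [CompactSpace U] [QuasiSeparatedSpace U] [QuasiSeparatedSpace X]
    {F : EtModW.Mod Λ U} (hF : EtModW.IsConstructible Λ F) :
    EtModW.IsConstructible Λ ((EtSix.extZeroMod Λ j).obj F) := by
  obtain ⟨W, π, hW, hπ, hsurj⟩ := exists_affine_etale_cover U
  haveI : EtShriek.JCont π := jCont π
  haveI : EtShriek.JCont (π ≫ j) := jCont _
  haveI : IsSeparated π := IsSeparated.of_comp π (terminal.from U)
  haveI : IsSeparated (π ≫ j) := IsSeparated.of_comp (π ≫ j) (terminal.from X)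
  have hqc : QuasiCompact π ∧ QuasiCompact (π ≫ j) :=
    ⟨QuasiCompact.of_comp π (terminal.from U), QuasiCompact.of_comp (π ≫ j) (terminal.from X)⟩
  haveI := hqc.1
  haveI := hqc.2
  -- `π_! π^*` preserves constructibility, and so does `j_! π_! π^*`
  have hrestr : ∀ {G : EtModW.Mod Λ U}, EtModW.IsConstructible Λ G →
      EtModW.IsConstructible Λ ((EtSix.restrMod Λ π).obj G) := fun {G} hG => by
    have := isConstructible_pull π hG
    rw [isConstructible_iff_affine] at this ⊢
    exact fun O hO => (this O hO).of_iso ((EtModW.pull Λ O.ι).mapIso ((pullRestrIso Λ π).app G))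
  have hone : ∀ {G : EtModW.Mod Λ U}, EtModW.IsConstructible Λ G →
      EtModW.IsConstructible Λ ((EtSix.extZeroMod Λ π).obj ((EtSix.restrMod Λ π).obj G)) :=
    fun hG => isConstructible_extZero_of_separated π (hrestr hG)
  have htwo : ∀ {G : EtModW.Mod Λ U}, EtModW.IsConstructible Λ G → EtModW.IsConstructible Λ
      ((EtSix.extZeroMod Λ j).obj ((EtSix.extZeroMod Λ π).obj ((EtSix.restrMod Λ π).obj G))) := fun {G} hG => by
    have := isConstructible_extZero_of_separated (π ≫ j) (hrestr hG)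
    rw [isConstructible_iff_affine] at this ⊢
    exact fun O hO => (this O hO).of_iso ((EtModW.pull Λ O.ι).mapIso ((extZeroCompIso π j).app _).symm)
  let a := (EtSix.extZeroModAdj Λ π).counit.app F
  haveI : Epi a := epi_extZero_counit π F
  have hK := isConstructible_kernel a (hone hF) hF
  let b := (EtSix.extZeroModAdj Λ π).counit.app (kernel a)
  haveI : Epi b := epi_extZero_counit π (kernel a)
  let d := (EtSix.extZeroMod Λ j).map (b ≫ kernel.ι a)
  have hcok := isConstructible_cokernel d (htwo hK) (htwo hF)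
  let e : cokernel (b ≫ kernel.ι a) ≅ F :=
    cokernelEpiComp b (kernel.ι a) ≪≫ (cokernelIsCokernel (kernel.ι a)).coconePointUniqueUpToIso
      (Abelian.epiIsCokernelOfKernel _ (limit.isLimit _))
  haveI : PreservesColimitsOfSize.{0, 0} (EtSix.extZeroMod Λ j) :=
    (EtSix.extZeroModAdj Λ j).leftAdjoint_preservesColimits
  rw [isConstructible_iff_affine] at hcok ⊢
  exact fun O hO => (hcok O hO).of_iso ((EtModW.pull Λ O.ι).mapIso
    ((PreservesCokernel.iso (EtSix.extZeroMod Λ j) (b ≫ kernel.ι a)).symm ≪≫ (EtSix.extZeroMod Λ j).mapIso e))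

end General

end Groth.Agent.Et18.Mod
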