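import Groth.Agent.Et18.Mod.FTLC
import Groth.Prelude.Def_EtModD2
import Mathlib.CategoryTheory.Sites.Point.Monoidal
import Mathlib.Algebra.Category.ModuleCat.Monoidal.Closed

/-!
# Tensor products of sheaves of modules on the small étale site

Stalks of tensor products; inverse images and constant sheaves commute with tensor products.
-/

universe u

open CategoryTheory CategoryTheory.Limits AlgebraicGeometry Opposite MonoidalCategory

set_option backward.isDefEq.respectTransparency.types false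
set_option backward.isDefEq.respectTransparency false

namespace Groth.Agent.Et18.Mod

variable {Λ : Type (u + 1)} [CommRing Λ] {X Y : Scheme.{u}}

instance tensorLeft_preserves (A : ModuleCat.{u + 1} Λ) :
    PreservesFilteredColimitsOfSize.{u, u} (tensorLeft A) :=
  ⟨fun _ => inferInstance⟩

instance tensorRight_preserves (A : ModuleCat.{u + 1} Λ) :
    PreservesFilteredColimitsOfSize.{u, u} (tensorRight A) := by
  refine ⟨fun J _ _ => ?_⟩
  exact preservesColimitsOfShape_of_natIso (BraidedCategory.tensorLeftIsoTensorRight A)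

/-- The tensor product of sheaves of modules. -/
noncomputable abbrev tens (F G : EtModW.Mod Λ X) : EtModW.Mod Λ X :=
  ((EtModD.tensorBi Λ X).obj F).obj G

/-- The tensor product of the underlying presheaves maps to the tensor product. -/
noncomputable abbrev tensUnit (F G : EtModW.Mod Λ X) : F.obj ⊗ G.obj ⟶ (tens F G).obj :=
  toSheafify X.smallEtaleTopology (F.obj ⊗ G.obj)

/-- Isomorphisms of the factors. -/
noncomputable def tensIso {F F' G G' : EtModW.Mod Λ X} (e : F ≅ F') (e' : G ≅ G') : tens F G ≅ tens F' G' :=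
  ((EtModD.tensorBi Λ X).mapIso e).app G ≪≫ ((EtModD.tensorBi Λ X).obj F').mapIso e'

section Stalk

variable {Ω : Type u} [Field Ω] [IsSepClosed Ω] (ξ : Spec (CommRingCat.of Ω) ⟶ X)

instance isIso_fiber_toSheafify (P : X.Etaleᵒᵖ ⥤ ModuleCat.{u + 1} Λ) :
    IsIso ((Scheme.pointSmallEtale ξ).presheafFiber.map (toSheafify X.smallEtaleTopology P)) :=
  (ConcreteCategory.isIso_iff_bijective _).mpr
    ((Scheme.pointSmallEtale ξ).toPresheafFiber_map_bijective _)

/-- The stalk of a tensor product. -/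
noncomputable def tensStalk (F G : EtModW.Mod Λ X) :
    (EtModW.stalk Λ ξ).obj F ⊗ (EtModW.stalk Λ ξ).obj G ⟶ (EtModW.stalk Λ ξ).obj (tens F G) :=
  Functor.LaxMonoidal.μ (Scheme.pointSmallEtale ξ).presheafFiber F.obj G.obj ≫
    (Scheme.pointSmallEtale ξ).presheafFiber.map (tensUnit F G)

instance isIso_tensStalk (F G : EtModW.Mod Λ X) : IsIso (tensStalk ξ F G) := by
  delta tensStalk
  exact inferInstance

/-- The stalk isomorphism of a tensor product. -/
noncomputable def tensStalkIso (F G : EtModW.Mod Λ X) :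
    (EtModW.stalk Λ ξ).obj F ⊗ (EtModW.stalk Λ ξ).obj G ≅ (EtModW.stalk Λ ξ).obj (tens F G) :=
  asIso (tensStalk ξ F G)

lemma germ_tensStalk (F G : EtModW.Mod Λ X) (V : X.Etale) (v : (Scheme.pointSmallEtale ξ).fiber.obj V) :
    ((Scheme.pointSmallEtale ξ).toPresheafFiber V v F.obj ⊗ₘ
        (Scheme.pointSmallEtale ξ).toPresheafFiber V v G.obj) ≫ tensStalk ξ F G =
      (tensUnit F G).app (op V) ≫ (Scheme.pointSmallEtale ξ).toPresheafFiber V v (tens F G).obj := by
  refine (Category.assoc _ _ _).symm.trans ?_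
  rw [GrothendieckTopology.Point.tensorHom_comp_toPresheafFiber_μ]
  exact (Scheme.pointSmallEtale ξ).toPresheafFiber_naturality (tensUnit F G) V v

end Stalk

section Pull

variable (f : X ⟶ Y) (F G : EtModW.Mod Λ Y)

/-- Sections of the factors to sections of the tensor product of the inverse images. -/
noncomputable def pullTensPre :
    F.obj ⊗ G.obj ⟶ ((EtModW.push Λ f).obj (tens ((EtModW.pull Λ f).obj F) ((EtModW.pull Λ f).obj G))).obj :=
  (((modAdj Λ f).unit.app F).hom ⊗ₘ ((modAdj Λ f).unit.app G).hom) ≫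
    Functor.whiskerLeft (EtCoh.bc f).op
      (tensUnit ((EtModW.pull Λ f).obj F) ((EtModW.pull Λ f).obj G))

/-- The comparison morphism for inverse images of tensor products. -/
noncomputable def pullTensHom :
    (EtModW.pull Λ f).obj (tens F G) ⟶ tens ((EtModW.pull Λ f).obj F) ((EtModW.pull Λ f).obj G) :=
  ((modAdj Λ f).homEquiv _ _).symm
    ⟨sheafifyLift Y.smallEtaleTopology (pullTensPre f F G) ((EtModW.push Λ f).obj _).2⟩

lemma pullTensHom_unit :
    tensUnit F G ≫ ((modAdj Λ f).unit.app (tens F G)).hom ≫ ((EtModW.push Λ f).map (pullTensHom f F G)).hom =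
      pullTensPre f F G := by
  refine (congrArg (fun t => tensUnit F G ≫ t) (congrArg (fun t => t.hom)
    ((((modAdj Λ f).homEquiv_unit _ _ (pullTensHom f F G)).symm.trans
      (((modAdj Λ f).homEquiv _ _).apply_symm_apply _))))).trans ?_
  exact toSheafify_sheafifyLift _ _ _

instance isIso_pullTensHom : IsIso (pullTensHom f F G) := by
  refine isIso_of_stalks _ fun x => ?_
  let ξ := sepPoint X x
  let Φ := Scheme.pointSmallEtale (ξ ≫ f)
  let e := stalkPullIso Λ f ξ
  suffices key : tensStalk (ξ ≫ f) F G ≫ e.inv.app (tens F G) ≫ (EtModW.stalk Λ ξ).map (pullTensHom f F G) =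
      (e.inv.app F ⊗ₘ e.inv.app G) ≫ tensStalk ξ ((EtModW.pull Λ f).obj F) ((EtModW.pull Λ f).obj G) by
    have : IsIso (tensStalk (ξ ≫ f) F G ≫ e.inv.app (tens F G) ≫
        (EtModW.stalk Λ ξ).map (pullTensHom f F G)) := by rw [key]; infer_instance
    have := IsIso.of_isIso_comp_left (tensStalk (ξ ≫ f) F G)
      (e.inv.app (tens F G) ≫ (EtModW.stalk Λ ξ).map (pullTensHom f F G))
    exact IsIso.of_isIso_comp_left (e.inv.app (tens F G)) _
  rw [← cancel_epi (Functor.OplaxMonoidal.δ Φ.presheafFiber F.obj G.obj)]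
  refine Φ.presheafFiber_hom_ext fun V v => ?_
  rw [GrothendieckTopology.Point.toPresheafFiber_δ_assoc, GrothendieckTopology.Point.toPresheafFiber_δ_assoc]
  obtain ⟨y, rfl⟩ : ∃ y, downPt f ξ y = v :=
    ⟨(bcFiberIso f ξ).inv.app V v, congrArg (fun k => k v) ((bcFiberIso f ξ).inv_hom_id_app V)⟩
  have hu : ∀ H : EtModW.Mod Λ Y, Φ.toPresheafFiber V (downPt f ξ y) H.obj ≫ e.inv.app H =
      ((modAdj Λ f).unit.app H).hom.app (op V) ≫
        (Scheme.pointSmallEtale ξ).toPresheafFiber ((EtCoh.bc f).obj V) y ((EtModW.pull Λ f).obj H).obj :=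
    fun H => by
      rw [← cancel_mono (e.hom.app H)]
      refine (Category.assoc _ _ _).trans ?_
      refine (congrArg (fun t => Φ.toPresheafFiber V (downPt f ξ y) H.obj ≫ t) (e.inv_hom_id_app H)).trans ?_
      refine (Category.comp_id _).trans ?_
      exact (germ_unit Λ f ξ V y).symm.trans (Category.assoc _ _ _).symm
  have rhs : (Φ.toPresheafFiber V (downPt f ξ y) F.obj ⊗ₘ Φ.toPresheafFiber V (downPt f ξ y) G.obj) ≫
      (e.inv.app F ⊗ₘ e.inv.app G) ≫ tensStalk ξ ((EtModW.pull Λ f).obj F) ((EtModW.pull Λ f).obj G) =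
      (pullTensPre f F G).app (op V) ≫ (Scheme.pointSmallEtale ξ).toPresheafFiber ((EtCoh.bc f).obj V) y
        (tens ((EtModW.pull Λ f).obj F) ((EtModW.pull Λ f).obj G)).obj := by
    refine (tensorHom_comp_tensorHom_assoc _ _ _ _ _).trans ?_
    rw [hu F, hu G]
    refine (tensorHom_comp_tensorHom_assoc _ _ _ _ _).symm.trans ?_
    refine (congrArg (fun t => (((modAdj Λ f).unit.app F).hom.app (op V) ⊗ₘ
      ((modAdj Λ f).unit.app G).hom.app (op V)) ≫ t) (germ_tensStalk ξ _ _ _ y)).trans ?_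
    exact (Category.assoc _ _ _).symm
  refine ((Category.assoc _ _ _).symm.trans ((congrArg (· ≫ _) (germ_tensStalk _ F G V _)).trans ?_)).trans
    rhs.symm
  refine (Category.assoc _ _ _).trans ?_
  refine (congrArg (fun t => (tensUnit F G).app (op V) ≫ t) ((Category.assoc _ _ _).symm.trans
    ((congrArg (· ≫ _) (hu (tens F G))).trans ((Category.assoc _ _ _).trans
      (congrArg (fun t => ((modAdj Λ f).unit.app (tens F G)).hom.app (op V) ≫ t)
        ((Scheme.pointSmallEtale ξ).toPresheafFiber_naturality (pullTensHom f F G).hom _ y)))))).trans ?_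
  refine ((congrArg (fun t => (tensUnit F G).app (op V) ≫ t) (Category.assoc _ _ _).symm).trans
    (Category.assoc _ _ _).symm).trans ?_
  refine (congrArg (· ≫ _) (congrArg (fun t => t.app (op V)) (pullTensHom_unit f F G))).trans ?_
  exact Category.assoc _ _ _

/-- Inverse images commute with tensor products. -/
noncomputable def pullTensIso :
    (EtModW.pull Λ f).obj (tens F G) ≅ tens ((EtModW.pull Λ f).obj F) ((EtModW.pull Λ f).obj G) :=
  asIso (pullTensHom f F G)

end Pull

section Const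

variable (A B : ModuleCat.{u + 1} Λ)

/-- Tensor products of constant presheaves. -/
noncomputable def constTensIso :
    (Functor.const X.Etaleᵒᵖ).obj (A ⊗ B) ≅ (Functor.const X.Etaleᵒᵖ).obj A ⊗ (Functor.const X.Etaleᵒᵖ).obj B :=
  NatIso.ofComponents (fun _ => Iso.refl _) fun _ => by
    show 𝟙 (A ⊗ B) ≫ 𝟙 (A ⊗ B) = 𝟙 (A ⊗ B) ≫ (𝟙 A ⊗ₘ 𝟙 B)
    simp

/-- The tensor product of the units. -/
noncomputable def cstTensPre :
    (Functor.const X.Etaleᵒᵖ).obj (A ⊗ B) ⟶ ((cst Λ X).obj A).obj ⊗ ((cst Λ X).obj B).obj :=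
  (constTensIso A B).hom ≫ (toSheafify X.smallEtaleTopology ((Functor.const X.Etaleᵒᵖ).obj A) ⊗ₘ
    toSheafify X.smallEtaleTopology ((Functor.const X.Etaleᵒᵖ).obj B))

/-- The comparison morphism for tensor products of constant sheaves. -/
noncomputable def cstTensHom : (cst Λ X).obj (A ⊗ B) ⟶ tens ((cst Λ X).obj A) ((cst Λ X).obj B) :=
  (presheafToSheaf X.smallEtaleTopology (ModuleCat.{u + 1} Λ)).map (cstTensPre A B)

instance isIso_cstTensHom : IsIso (cstTensHom (X := X) A B) := by
  refine isIso_of_stalks _ fun x => ?_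
  let Φ := Scheme.pointSmallEtale (sepPoint X x)
  have : IsIso (Φ.presheafFiber.map (cstTensPre (X := X) A B)) := by
    rw [cstTensPre, Functor.map_comp, Functor.Monoidal.map_tensor]
    infer_instance
  have e : Φ.presheafFiber.map (toSheafify X.smallEtaleTopology ((Functor.const X.Etaleᵒᵖ).obj (A ⊗ B))) ≫
      (EtModW.stalk Λ (sepPoint X x)).map (cstTensHom A B) =
      Φ.presheafFiber.map (cstTensPre A B) ≫
        Φ.presheafFiber.map (tensUnit ((cst Λ X).obj A) ((cst Λ X).obj B)) :=
    (Φ.presheafFiber.map_comp _ _).symm.trans ((congrArg Φ.presheafFiber.map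
      (toSheafify_naturality X.smallEtaleTopology (cstTensPre A B)).symm).trans (Φ.presheafFiber.map_comp _ _))
  have : IsIso (Φ.presheafFiber.map (toSheafify X.smallEtaleTopology
      ((Functor.const X.Etaleᵒᵖ).obj (A ⊗ B))) ≫ (EtModW.stalk Λ (sepPoint X x)).map (cstTensHom A B)) := by
    rw [e]
    infer_instance
  exact IsIso.of_isIso_comp_left (Φ.presheafFiber.map (toSheafify X.smallEtaleTopology
    ((Functor.const X.Etaleᵒᵖ).obj (A ⊗ B)))) _

/-- Tensor products of constant sheaves. -/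
noncomputable def cstTensIso : (cst Λ X).obj (A ⊗ B) ≅ tens ((cst Λ X).obj A) ((cst Λ X).obj B) :=
  asIso (cstTensHom A B)

end Const

lemma Triv.tens {U : Scheme.{u}} {f : U ⟶ X} {F G : EtModW.Mod Λ X} {A B : ModuleCat.{u + 1} Λ}
    (hF : Triv f F A) (hG : Triv f G B) : Triv f (tens F G) (A ⊗ B) :=
  ⟨pullTensIso f F G ≪≫ tensIso hF.some hG.some ≪≫ (cstTensIso A B).symm⟩

theorem isFTLocConst_tens {F G : EtModW.Mod Λ X} (hF : EtModW.IsFTLocConst Λ F)
    (hG : EtModW.IsFTLocConst Λ G) : EtModW.IsFTLocConst Λ (tens F G) := by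
  rw [isFTLocConst_iff] at hF hG ⊢
  intro x
  obtain ⟨U, y, A, hy, hA, hUA⟩ := hF x
  obtain ⟨U', y', B, hy', hB, hUB⟩ := hG x
  obtain ⟨V, z, g, g', hg, hg', hz, -⟩ := exists_common_etale U U' y y' (hy.trans hy'.symm)
  have : Module.Finite Λ A := hA
  have : Module.Finite Λ B := hB
  refine ⟨V, z, A ⊗ B, ?_, (inferInstance : Module.Finite Λ (TensorProduct Λ A B)),
    (hUA.comp g hg).tens (hUB.comp g' hg')⟩
  rw [← hy, ← hz, ← hg]
  rfl

end Groth.Agent.Et18.Mod
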