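import Groth.Agent.Et18.Mod.Strata
import Groth.Agent.Et18.Mod.Tensor

/-!
# Constructibility of tensor products
-/

universe u

open CategoryTheory CategoryTheory.Limits AlgebraicGeometry

set_option backward.isDefEq.respectTransparency.types false
set_option backward.isDefEq.respectTransparency false

namespace Groth.Agent.Et18.Mod

variable {Λ : Type (u + 1)} [CommRing Λ] {X : Scheme.{u}}

theorem isConstructible_tens {F G : EtModW.Mod Λ X} (hF : EtModW.IsConstructible Λ F)
    (hG : EtModW.IsConstructible Λ G) : EtModW.IsConstructible Λ (tens F G) := by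
  rw [isConstructible_iff_affine] at hF hG ⊢
  intro U hU
  obtain ⟨ι, hι, T, g, hg, hc, hd, hu, h⟩ := (hF U hU).exists_common (hG U hU)
  exact Stratified.of_iso ⟨ι, hι, T, g, hg, hc, hd, hu, fun i =>
    isFTLocConst_of_iso (isFTLocConst_tens (h i).1 (h i).2) (pullTensIso (g i) _ _).symm⟩
    (pullTensIso U.ι F G).symm

end Groth.Agent.Et18.Mod
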