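import Groth.Agent.Et18.Mod.KFlat
import Groth.Agent.Et18.Mod.ExtZeroDerived
import Groth.Agent.Et18.Mod.StrataTensor
import Groth.Agent.DCat.Derived
import Groth.Agent.DCat.DerivedPrecomp
import Mathlib.Algebra.Homology.DerivedCategory.Fractions
import Mathlib.Algebra.Homology.DerivedCategory.TStructure

/-!
# Derived tensor products of sheaves of modules on the small étale site; constructibility
-/

universe u

open CategoryTheory CategoryTheory.Limits AlgebraicGeometry Opposite HomologicalComplex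
open Groth.Agent.DCat

attribute [local instance] HasDerivedCategory.standard

set_option backward.isDefEq.respectTransparency.types false
set_option backward.isDefEq.respectTransparency false
set_option synthInstance.maxHeartbeats 200000
set_option maxHeartbeats 800000

namespace Groth.Agent.Et18.Mod

variable {Λ : Type (u + 1)} [CommRing Λ] {X : Scheme.{u}}

section LTensor

variable (E : CochainComplex (EtModW.Mod Λ X) ℤ)

/-- `- ⊗ E` on the homotopy category. -/
noncomputable def tensorKh :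
    HomotopyCategory (EtModW.Mod Λ X) (ComplexShape.up ℤ) ⥤ DerivedCategory (EtModW.Mod Λ X) :=
  CategoryTheory.Quotient.lift _ (EtModD.tensorCxQ E) fun K L f g h => by
    obtain ⟨h⟩ := h
    have hQ := HomotopyCategory.eq_of_homotopy _ _
      (mapBifunctorMapHomotopy₁ h (𝟙 E) (eT Λ X) (ComplexShape.up ℤ))
    have e := congrArg DerivedCategory.Qh.map hQ
    have nf := (DerivedCategory.quotientCompQhIso (EtModW.Mod Λ X)).hom.naturality (totMap₁ (eT Λ X) f E)
    have ng := (DerivedCategory.quotientCompQhIso (EtModW.Mod Λ X)).hom.naturality (totMap₁ (eT Λ X) g E)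
    refine (cancel_epi ((DerivedCategory.quotientCompQhIso (EtModW.Mod Λ X)).hom.app (tot (eT Λ X) K E))).1 ?_
    exact (nf.symm.trans (congrArg (· ≫ _) e)).trans ng

/-- The defining isomorphism of `tensorKh`. -/
noncomputable def tensorKhIso :
    HomotopyCategory.quotient (EtModW.Mod Λ X) (ComplexShape.up ℤ) ⋙ tensorKh E ≅ EtModD.tensorCxQ E :=
  CategoryTheory.Quotient.lift.isLift _ _ _

variable (Λ X) in
/-- K-flat objects of the homotopy category. -/
def kflatK : ObjectProperty (HomotopyCategory (EtModW.Mod Λ X) (ComplexShape.up ℤ)) :=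
  fun K => KF K.as

lemma exists_kflatK (K : HomotopyCategory (EtModW.Mod Λ X) (ComplexShape.up ℤ)) :
    ∃ (K' : HomotopyCategory (EtModW.Mod Λ X) (ComplexShape.up ℤ)) (s : K' ⟶ K), kflatK Λ X K' ∧
      HomotopyCategory.quasiIso (EtModW.Mod Λ X) (ComplexShape.up ℤ) s := by
  obtain ⟨N, c, hN, hc⟩ := exists_kf K.as
  exact ⟨(HomotopyCategory.quotient _ _).obj N, (HomotopyCategory.quotient _ _).map c, hN,
    (HomotopyCategory.quotient_map_mem_quasiIso_iff c).2 hc⟩

lemma isIso_tensorKh_of_kflat ⦃K L : HomotopyCategory (EtModW.Mod Λ X) (ComplexShape.up ℤ)⦄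
    (s : K ⟶ L) (hK : kflatK Λ X K) (hL : kflatK Λ X L)
    (hs : HomotopyCategory.quasiIso (EtModW.Mod Λ X) (ComplexShape.up ℤ) s) :
    IsIso ((tensorKh E).map s) := by
  obtain ⟨K⟩ := K
  obtain ⟨L⟩ := L
  obtain ⟨s, rfl⟩ := (HomotopyCategory.quotient _ (ComplexShape.up ℤ)).map_surjective s
  haveI : QuasiIso s := (HomotopyCategory.quotient_map_mem_quasiIso_iff s).1 hs
  haveI := quasiIso_tot₁ hK hL s E
  exact Localization.inverts DerivedCategory.Q
    (HomologicalComplex.quasiIso (EtModW.Mod Λ X) (ComplexShape.up ℤ))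
    (totMap₁ (eT Λ X) s E) ((HomologicalComplex.mem_quasiIso_iff _).2 ‹_›)

/-- The derived tensor product exists. -/
theorem hasLTensorCx : EtModD.HasLTensorCx E :=
  haveI : (tensorKh E).HasLeftDerivedFunctor (HomotopyCategory.quasiIso (EtModW.Mod Λ X) (ComplexShape.up ℤ)) :=
    hasLeftDerived (P := kflatK Λ X) exists_kflatK (isIso_tensorKh_of_kflat E)
  hasLeftDerived_precomp (HomotopyCategory.quotient _ (ComplexShape.up ℤ))
    (DerivedCategory.quotientCompQhIso (EtModW.Mod Λ X)) (F := tensorKh E) (tensorKhIso E) _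
    (W := HomotopyCategory.quasiIso (EtModW.Mod Λ X) (ComplexShape.up ℤ))

variable [EtModD.HasLTensorCx E]

/-- The counit of `- ⊗^L E`. -/
noncomputable abbrev ltCounit : DerivedCategory.Q ⋙ EtModD.LTensorCx E ⟶ EtModD.tensorCxQ E :=
  (EtModD.tensorCxQ E).totalLeftDerivedCounit DerivedCategory.Q
    (HomologicalComplex.quasiIso (EtModW.Mod Λ X) (ComplexShape.up ℤ))

/-- The counit is invertible on K-flat complexes. -/
theorem isIso_ltCounit {P : CochainComplex (EtModW.Mod Λ X) ℤ} (hP : KF P) :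
    IsIso ((ltCounit E).app P) := by
  haveI : (tensorKh E).HasLeftDerivedFunctor (HomotopyCategory.quasiIso (EtModW.Mod Λ X) (ComplexShape.up ℤ)) :=
    hasLeftDerived (P := kflatK Λ X) exists_kflatK (isIso_tensorKh_of_kflat E)
  let α := (tensorKh E).totalLeftDerivedCounit DerivedCategory.Qh
    (HomotopyCategory.quasiIso (EtModW.Mod Λ X) (ComplexShape.up ℤ))
  let LF := (tensorKh E).totalLeftDerived DerivedCategory.Qh
    (HomotopyCategory.quasiIso (EtModW.Mod Λ X) (ComplexShape.up ℤ))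
  haveI := isIso_counit_of_mem exists_kflatK (isIso_tensorKh_of_kflat E) α
    (X := (HomotopyCategory.quotient _ _).obj P) hP
  haveI hLF := isLeftDerived_precomp (HomotopyCategory.quotient _ (ComplexShape.up ℤ))
    (DerivedCategory.quotientCompQhIso (EtModW.Mod Λ X)) (F := tensorKh E) (tensorKhIso E)
    (HomologicalComplex.quasiIso (EtModW.Mod Λ X) (ComplexShape.up ℤ)) (F₀ := EtModD.tensorCxQ E)
    (W := HomotopyCategory.quasiIso (EtModW.Mod Λ X) (ComplexShape.up ℤ)) α
  let β := Functor.whiskerRight (DerivedCategory.quotientCompQhIso (EtModW.Mod Λ X)).inv LF ≫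
    (Functor.associator _ _ _).hom ≫ Functor.whiskerLeft (HomotopyCategory.quotient _ (ComplexShape.up ℤ)) α ≫
      (tensorKhIso E).hom
  haveI hβ : IsIso (β.app P) :=
    @IsIso.comp_isIso _ _ _ _ _ _ _ inferInstance (@IsIso.comp_isIso _ _ _ _ _ _ _ inferInstance
      (@IsIso.comp_isIso _ _ _ _ _ _ _ ‹IsIso (α.app _)› inferInstance))
  haveI : LF.IsLeftDerivedFunctor β (HomologicalComplex.quasiIso (EtModW.Mod Λ X) (ComplexShape.up ℤ)) := hLF
  haveI : IsIso ((EtModD.LTensorCx E).leftDerivedLift (ltCounit E)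
      (HomologicalComplex.quasiIso (EtModW.Mod Λ X) (ComplexShape.up ℤ)) LF β) :=
    ((EtModD.LTensorCx E).isLeftDerivedFunctor_iff_isIso_leftDerivedLift (ltCounit E) _ LF β).1 ‹_›
  exact IsIso.of_isIso_fac_left ((EtModD.LTensorCx E).leftDerived_fac_app (ltCounit E)
    (HomologicalComplex.quasiIso (EtModW.Mod Λ X) (ComplexShape.up ℤ)) LF β P)

/-- `- ⊗^L E` of a K-flat complex. -/
noncomputable def ltensorIso {P : CochainComplex (EtModW.Mod Λ X) ℤ} (hP : KF P) :
    (EtModD.LTensorCx E).obj (DerivedCategory.Q.obj P) ≅ DerivedCategory.Q.obj (tot (eT Λ X) P E) :=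
  @asIso _ _ _ _ ((ltCounit E).app P) (isIso_ltCounit E hP)


end LTensor

section Tot

/-- The inverse image of a total tensor complex. -/
noncomputable def pullTotIso {Y : Scheme.{u}} (f : X ⟶ Y) (M K : CochainComplex (EtModW.Mod Λ Y) ℤ) :
    ((EtModW.pull Λ f).mapHomologicalComplex (ComplexShape.up ℤ)).obj (tot (eT Λ Y) M K) ≅
      tot (eT Λ X) (((EtModW.pull Λ f).mapHomologicalComplex (ComplexShape.up ℤ)).obj M)
        (((EtModW.pull Λ f).mapHomologicalComplex (ComplexShape.up ℤ)).obj K) :=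
  mapTotIso (eT Λ Y) (eT Λ X) (EtModW.pull Λ f) (EtModW.pull Λ f) (EtModW.pull Λ f)
    (fun F G => pullTensIso f F G) (fun a G => pullTensHom_nat₁ f a G)
    (fun F _ _ b => pullTensHom_nat₂ f F b) M K

lemma isZero_tens₁ {F : EtModW.Mod Λ X} (h : IsZero F) (G : EtModW.Mod Λ X) : IsZero (tens F G) :=
  ((eT Λ X).map_isZero h).obj G

lemma isZero_tens₂ (F : EtModW.Mod Λ X) {G : EtModW.Mod Λ X} (h : IsZero G) : IsZero (tens F G) :=
  ((eT Λ X).obj F).map_isZero h

theorem isZero_tot_X (P E : CochainComplex (EtModW.Mod Λ X) ℤ) (a b : ℤ) (hP : ∀ n, a < n → IsZero (P.X n))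
    (hE : ∀ n, b < n → IsZero (E.X n)) (n : ℤ) (hn : a + b < n) : IsZero ((tot (eT Λ X) P E).X n) := by
  rw [IsZero.iff_id_eq_zero]
  refine mapBifunctor.hom_ext fun p q h => ?_
  refine IsZero.eq_of_src ?_ _ _
  simp only [ComplexShape.π_def] at h
  by_cases hp : a < p
  · exact isZero_tens₁ (hP p hp) _
  · exact isZero_tens₂ _ (hE q (by omega))

theorem isConstructible_tot_X [IsNoetherianRing Λ] (P E : CochainComplex (EtModW.Mod Λ X) ℤ) (a b : ℤ)
    (hP : ∀ n, a < n → IsZero (P.X n)) (hE : ∀ n, b < n → IsZero (E.X n))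
    (hPc : ∀ n, EtModW.IsConstructible Λ (P.X n)) (hEc : ∀ n, EtModW.IsConstructible Λ (E.X n)) (i : ℤ) :
    EtModW.IsConstructible Λ ((tot (eT Λ X) P E).X i) := by
  classical
  let J := {p : ℤ // i - b ≤ p ∧ p ≤ a}
  haveI : Finite J := (Set.finite_Icc (i - b) a).to_subtype
  let G : J → EtModW.Mod Λ X := fun j => tens (P.X j.1) (E.X (i - j.1))
  let v : (⨁ G) ⟶ (tot (eT Λ X) P E).X i :=
    biproduct.desc fun j => ιMapBifunctor P E (eT Λ X) (ComplexShape.up ℤ) j.1 (i - j.1) i
      (show j.1 + (i - j.1) = i by omega)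
  let w : (tot (eT Λ X) P E).X i ⟶ ⨁ G := mapBifunctorDesc fun p q h =>
    if hp : i - b ≤ p ∧ p ≤ a then
      ((eT Λ X).obj (P.X p)).map (E.XIsoOfEq (show q = i - p by
        have h' : p + q = i := h
        omega)).hom ≫ biproduct.ι G ⟨p, hp⟩
    else 0
  have hwv : w ≫ v = 𝟙 _ := mapBifunctor.hom_ext fun p q h => by
    have h' : p + q = i := h
    rw [Category.comp_id]
    refine (Category.assoc _ _ _).symm.trans ?_
    simp only [w, ι_mapBifunctorDesc]
    by_cases hp : i - b ≤ p ∧ p ≤ a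
    · obtain rfl : q = i - p := by omega
      rw [dif_pos hp]
      simp [v]
    · rw [dif_neg hp, zero_comp]
      refine IsZero.eq_of_src ?_ _ _
      by_cases hpa : a < p
      · exact isZero_tens₁ (hP p hpa) _
      · exact isZero_tens₂ _ (hE q (by omega))
  have hvw : v ≫ w = 𝟙 _ := biproduct.hom_ext' _ _ fun j => by
    simp only [v, biproduct.ι_desc_assoc, w, ι_mapBifunctorDesc, Category.comp_id]
    rw [dif_pos j.2]
    simp
    rfl
  obtain ⟨m, ⟨e⟩⟩ := Finite.exists_equiv_fin J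
  refine isConstructible_of_iso (isConstructible_biproduct (fun k => G (e.symm k)) fun k =>
    isConstructible_tens (hPc _) (hEc _))
    ((biproduct.whiskerEquiv (f := G) e fun j => eqToIso (by simp)).symm ≪≫ ⟨v, w, hvw, hwv⟩)

theorem isConstructible_homology_of_terms [IsNoetherianRing Λ] (C : CochainComplex (EtModW.Mod Λ X) ℤ)
    (hX : ∀ k, EtModW.IsConstructible Λ (C.X k)) (i : ℤ) : EtModW.IsConstructible Λ (C.homology i) := by
  let D := ShortComplex.LeftHomologyData.ofHasKernelOfHasCokernel (C.sc i)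
  exact isConstructible_of_iso (isConstructible_cokernel _ (hX _) (isConstructible_kernel _ (hX _) (hX _)))
    D.homologyIso.symm

end Tot

section Main

variable [IsNoetherianRing Λ]

/-- A bounded above representative. -/
theorem exists_complex_le (K : EtModD.D Λ X) (a : ℤ) [K.IsLE a] :
    ∃ C : CochainComplex (EtModW.Mod Λ X) ℤ, C.IsStrictlyLE a ∧ Nonempty (DerivedCategory.Q.obj C ≅ K) := by
  obtain ⟨C, ⟨e⟩⟩ := exists_complex K
  haveI : C.IsLE a := by
    rw [CochainComplex.isLE_iff]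
    intro i hi
    rw [HomologicalComplex.exactAt_iff_isZero_homology]
    exact (DerivedCategory.isZero_of_isLE K a i hi).of_iso (hdIso e i)
  exact ⟨C.truncLE a, inferInstance, ⟨asIso (DerivedCategory.Q.map (C.ιTruncLE a)) ≪≫ e⟩⟩

/-- Derived tensor products of bounded above complexes with constructible cohomology. -/
theorem ltensor_boundedAbove_constructible (K : EtModD.D Λ X) (E : CochainComplex (EtModW.Mod Λ X) ℤ)
    [EtModD.HasLTensorCx E] (a b : ℤ) [K.IsLE a] [(DerivedCategory.Q.obj E).IsLE b]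
    (hK : ∀ i : ℤ, EtModW.IsConstructible Λ (EtModD.HD K i))
    (hE : ∀ i : ℤ, EtModW.IsConstructible Λ (EtModD.HD (DerivedCategory.Q.obj E) i)) :
    (∃ c : ℤ, ((EtModD.LTensorCx E).obj K).IsLE c) ∧
      ∀ i : ℤ, EtModW.IsConstructible Λ (EtModD.HD ((EtModD.LTensorCx E).obj K) i) := by
  obtain ⟨C, hC, ⟨eC⟩⟩ := exists_complex_le K a
  obtain ⟨P, c, hP, hc, hPb⟩ := exists_kf_le C a fun n hn => C.isZero_of_isStrictlyLE a n hn
  haveI := hc
  haveI : E.IsLE b := (DerivedCategory.isLE_Q_obj_iff E b).mp inferInstance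
  let E' := E.truncLE b
  haveI := quasiIso_tot₂ hP (E.ιTruncLE b)
  let T := tot (eT Λ X) P E'
  let e : (EtModD.LTensorCx E).obj K ≅ DerivedCategory.Q.obj T :=
    (EtModD.LTensorCx E).mapIso ((asIso (DerivedCategory.Q.map c) ≪≫ eC).symm) ≪≫ ltensorIso E hP ≪≫
      (asIso (DerivedCategory.Q.map (totMap₂ (eT Λ X) P (E.ιTruncLE b)))).symm
  have hT : ∀ n, a + b < n → IsZero (T.X n) :=
    isZero_tot_X P E' a b hPb fun n hn => E'.isZero_of_isStrictlyLE b n hn
  refine ⟨⟨a + b, ?_⟩, fun i => ?_⟩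
  · haveI : T.IsStrictlyLE (a + b) := (CochainComplex.isStrictlyLE_iff T (a + b)).mpr hT
    haveI : (DerivedCategory.Q.obj T).IsLE (a + b) := (DerivedCategory.isLE_Q_obj_iff T (a + b)).mpr inferInstance
    exact DerivedCategory.TStructure.t.isLE_of_iso e.symm (a + b)
  refine isConstructible_of_iso ?_ (hdIso e.symm i)
  refine (isConstructible_iff_affine _).mpr fun U hU => ?_
  haveI := (Et18.qcqs_of_isAffineOpen hU).1
  haveI := (Et18.qcqs_of_isAffineOpen hU).2
  refine (isConstructible_iff_stratified _).mp ?_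
  let F := EtModW.pull Λ U.ι
  let FK := F.mapHomologicalComplex (ComplexShape.up ℤ)
  let P₁ : CochainComplex (EtModW.Mod Λ U.toScheme) ℤ := FK.obj P
  let E₁ : CochainComplex (EtModW.Mod Λ U.toScheme) ℤ := FK.obj E'
  haveI : P₁.IsLE a := by
    haveI : P₁.IsStrictlyLE a := (CochainComplex.isStrictlyLE_iff P₁ a).mpr fun n hn => F.map_isZero (hPb n hn)
    infer_instance
  haveI : E₁.IsLE b := by
    haveI : E₁.IsStrictlyLE b :=
      (CochainComplex.isStrictlyLE_iff E₁ b).mpr fun n hn => F.map_isZero (E'.isZero_of_isStrictlyLE b n hn)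
    infer_instance
  have hP₁ : ∀ n, EtModW.IsConstructible Λ (P₁.homology n) := fun n =>
    isConstructible_of_iso (isConstructible_pull U.ι (isConstructible_of_iso (hK n)
      (hdIso (asIso (DerivedCategory.Q.map c) ≪≫ eC) n).symm)) ((P.sc n).mapHomologyIso F).symm
  have hE₁ : ∀ n, EtModW.IsConstructible Λ (E₁.homology n) := fun n =>
    isConstructible_of_iso (isConstructible_pull U.ι (isConstructible_of_iso (hE n)
      (hdIso (asIso (DerivedCategory.Q.map (E.ιTruncLE b))) n).symm)) ((E'.sc n).mapHomologyIso F).symm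
  obtain ⟨R, φ, hR, hRX, hφ⟩ := exists_sum_resolution P₁ hP₁ a
  obtain ⟨S, ψ, hS, hSX, hψ⟩ := exists_sum_resolution E₁ hE₁ b
  haveI := hφ
  haveI := hψ
  have hRb : ∀ n, a < n → IsZero (R.X n) := fun n hn => R.isZero_of_isStrictlyLE a n hn
  have hSb : ∀ n, b < n → IsZero (S.X n) := fun n hn => S.isZero_of_isStrictlyLE b n hn
  have hKR : KF R := kf_of_flat R a hRb fun n => by
    obtain ⟨m, W, -, ⟨w⟩⟩ := hRX n
    intro x
    haveI := flat_stalk_sum W (sepPoint U.toScheme x) (Λ := Λ)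
    exact Module.Flat.of_linearEquiv ((EtModW.stalk Λ (sepPoint U.toScheme x)).mapIso w).toLinearEquiv
  have hKP : KF P₁ := hP.pull U.ι
  haveI := quasiIso_tot₁ hKR hKP φ E₁
  haveI := quasiIso_tot₂ hKR ψ
  haveI h₁ : IsIso (HomologicalComplex.homologyMap (totMap₂ (eT Λ U.toScheme) R ψ) i) :=
    (quasiIsoAt_iff_isIso_homologyMap _ i).mp ((quasiIso_tot₂ hKR ψ).quasiIsoAt i)
  haveI h₂ : IsIso (HomologicalComplex.homologyMap (totMap₁ (eT Λ U.toScheme) φ E₁) i) :=
    (quasiIsoAt_iff_isIso_homologyMap _ i).mp ((quasiIso_tot₁ hKR hKP φ E₁).quasiIsoAt i)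
  have hc : EtModW.IsConstructible Λ ((FK.obj T).homology i) :=
    isConstructible_of_iso (isConstructible_homology_of_terms _ (isConstructible_tot_X R S a b hRb hSb
      (fun n => isConstructible_of_isSum (hRX n)) (fun n => isConstructible_of_isSum (hSX n))) i)
      (@asIso _ _ _ _ (HomologicalComplex.homologyMap (totMap₂ (eT Λ U.toScheme) R ψ) i) h₁ ≪≫ @asIso _ _ _ _ (HomologicalComplex.homologyMap (totMap₁ (eT Λ U.toScheme) φ E₁) i) h₂ ≪≫
        (homologyFunctor _ (ComplexShape.up ℤ) i).mapIso (pullTotIso U.ι P E').symm)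
  exact isConstructible_of_iso hc ((T.sc i).mapHomologyIso F)

end Main

end Groth.Agent.Et18.Mod
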