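import Groth.Agent.Et18.FLCMod
import Groth.Agent.Et18.PointComap
import Mathlib.Algebra.Category.ModuleCat.FilteredColimits
import Mathlib.Algebra.Homology.ShortComplex.ModuleCat

/-!
# Stalks of sheaves of modules on the small étale site

The fibre functors are exact and conservative; inverse images are exact; germs of inverse images.
-/

universe u

open CategoryTheory CategoryTheory.Limits AlgebraicGeometry Opposite

set_option backward.isDefEq.respectTransparency.types false
set_option backward.isDefEq.respectTransparency false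

namespace Groth.Agent.Et18.Mod

variable (Λ : Type (u + 1)) [CommRing Λ] {X Y : Scheme.{u}}

instance hasLimitsOfSize_moduleCat : HasLimitsOfSize.{u, u} (ModuleCat.{u + 1} Λ) :=
  haveI : HasLimitsOfSize.{u + 1, u + 1} (ModuleCat.{u + 1} Λ) := inferInstance
  hasLimitsOfSizeShrink.{u, u, u + 1, u + 1} (ModuleCat.{u + 1} Λ)

instance hasColimitsOfSize_moduleCat : HasColimitsOfSize.{u, u} (ModuleCat.{u + 1} Λ) :=
  haveI : HasColimitsOfSize.{u + 1, u + 1} (ModuleCat.{u + 1} Λ) := inferInstance
  hasColimitsOfSizeShrink.{u, u, u + 1, u + 1} (ModuleCat.{u + 1} Λ)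

instance preservesFilteredColimits_forget :
    PreservesFilteredColimitsOfSize.{u, u} (forget (ModuleCat.{u + 1} Λ)) :=
  preservesFilteredColimitsOfSize_shrink.{u, u + 1, u, u + 1} _

/-- The stalk as the fibre at the lifted point. -/
noncomputable def bigStalkIso {Ω : Type u} [Field Ω] [IsSepClosed Ω]
    (ξ : Spec (CommRingCat.of Ω) ⟶ X) :
    ((liftPoint.{u + 1} (Scheme.pointSmallEtale ξ)).sheafFiber : EtModW.Mod Λ X ⥤ ModuleCat.{u + 1} Λ) ≅
      EtModW.stalk Λ ξ :=
  liftSheafFiberIso.{u + 1} _ _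

instance stalk_preservesFiniteLimits {Ω : Type u} [Field Ω] [IsSepClosed Ω]
    (ξ : Spec (CommRingCat.of Ω) ⟶ X) : PreservesFiniteLimits (EtModW.stalk Λ ξ) :=
  preservesFiniteLimits_of_natIso (bigStalkIso Λ ξ)

instance stalk_preservesColimits {Ω : Type u} [Field Ω] [IsSepClosed Ω]
    (ξ : Spec (CommRingCat.of Ω) ⟶ X) : PreservesColimitsOfSize.{0, 0} (EtModW.stalk Λ ξ) :=
  ((Scheme.pointSmallEtale ξ).skyscraperSheafAdjunction (A := ModuleCat.{u + 1} Λ)).leftAdjoint_preservesColimits

instance stalk_preservesFiniteColimits {Ω : Type u} [Field Ω] [IsSepClosed Ω]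
    (ξ : Spec (CommRingCat.of Ω) ⟶ X) : PreservesFiniteColimits (EtModW.stalk Λ ξ) :=
  PreservesColimitsOfSize.preservesFiniteColimits _

instance stalk_additive {Ω : Type u} [Field Ω] [IsSepClosed Ω]
    (ξ : Spec (CommRingCat.of Ω) ⟶ X) : (EtModW.stalk Λ ξ).Additive :=
  Functor.additive_of_preserves_binary_products _

section Family

variable {ι : Type (u + 1)} {Ω : ι → Type u} [∀ i, Field (Ω i)] [∀ i, IsSepClosed (Ω i)]
  (s : ∀ i, Spec (CommRingCat.of (Ω i)) ⟶ X) (hs : ∀ x : X, ∃ i, s i default = x)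

include hs in
lemma jointlyReflectIsomorphisms_of_family :
    JointlyReflectIsomorphisms (fun Φ : (bigPoints s).FullSubcategory =>
        (Φ.obj.sheafFiber : EtModW.Mod Λ X ⥤ ModuleCat.{u + 1} Λ)) :=
  (bigPoints_isConservative s hs).jointlyReflectIsomorphisms _

include hs in
theorem isIso_of_stalks_family {F G : EtModW.Mod Λ X} (a : F ⟶ G)
    (h : ∀ i, IsIso ((EtModW.stalk Λ (s i)).map a)) : IsIso a := by
  have : ∀ Φ : (bigPoints s).FullSubcategory, IsIso (Φ.obj.sheafFiber.map a) := by
    rintro ⟨_, ⟨i⟩⟩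
    exact (NatIso.isIso_map_iff (bigStalkIso Λ (s i)) a).mpr (h i)
  exact (jointlyReflectIsomorphisms_of_family Λ s hs).isIso a

end Family

variable {Λ}

/-- A morphism is an isomorphism if it is so on all stalks. -/
theorem isIso_of_stalks {F G : EtModW.Mod Λ X} (a : F ⟶ G)
    (h : ∀ x : X, IsIso ((EtModW.stalk Λ (sepPoint X x)).map a)) : IsIso a :=
  isIso_of_stalks_family Λ _ (exists_sepPoint X) a fun i => h i.down

/-- An object is zero if all its stalks are. -/
theorem isZero_of_stalks {F : EtModW.Mod Λ X}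
    (h : ∀ x : X, IsZero ((EtModW.stalk Λ (sepPoint X x)).obj F)) : IsZero F := by
  rw [IsZero.iff_id_eq_zero]
  haveI : IsIso (0 : F ⟶ F) := isIso_of_stalks _ fun x => by
    rw [Functor.map_zero]
    exact ⟨0, (h x).eq_of_src _ _, (h x).eq_of_src _ _⟩
  rw [← cancel_mono (0 : F ⟶ F)]
  simp

/-- A morphism is a monomorphism if it is injective on all stalks. -/
theorem mono_of_stalks {F G : EtModW.Mod Λ X} (a : F ⟶ G)
    (h : ∀ x : X, Function.Injective ((EtModW.stalk Λ (sepPoint X x)).map a)) : Mono a := by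
  refine Preadditive.mono_of_isZero_kernel _ (isZero_of_stalks fun x => ?_)
  haveI : Mono ((EtModW.stalk Λ (sepPoint X x)).map a) := (ModuleCat.mono_iff_injective _).2 (h x)
  exact (isZero_kernel_of_mono _).of_iso (PreservesKernel.iso (EtModW.stalk Λ (sepPoint X x)) a)

/-- A morphism is an epimorphism if it is surjective on all stalks. -/
theorem epi_of_stalks {F G : EtModW.Mod Λ X} (a : F ⟶ G)
    (h : ∀ x : X, Function.Surjective ((EtModW.stalk Λ (sepPoint X x)).map a)) : Epi a := by
  refine Preadditive.epi_of_isZero_cokernel _ (isZero_of_stalks fun x => ?_)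
  haveI : Epi ((EtModW.stalk Λ (sepPoint X x)).map a) := (ModuleCat.epi_iff_surjective _).2 (h x)
  exact (isZero_cokernel_of_epi _).of_iso (PreservesCokernel.iso (EtModW.stalk Λ (sepPoint X x)) a)

/-- Exactness can be checked on stalks. -/
theorem exact_of_stalks (S : ShortComplex (EtModW.Mod Λ X))
    (h : ∀ x : X, (S.map (EtModW.stalk Λ (sepPoint X x))).Exact) : S.Exact := by
  rw [S.exact_iff_isZero_homology]
  refine isZero_of_stalks fun x => ?_
  exact IsZero.of_iso ((S.map (EtModW.stalk Λ (sepPoint X x))).exact_iff_isZero_homology.mp (h x))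
    (S.mapHomologyIso (EtModW.stalk Λ (sepPoint X x))).symm

/-- Equality of morphisms can be checked on stalks. -/
theorem hom_eq_of_stalks {F G : EtModW.Mod Λ X} (φ ψ : F ⟶ G)
    (h : ∀ x : X, (EtModW.stalk Λ (sepPoint X x)).map φ = (EtModW.stalk Λ (sepPoint X x)).map ψ) :
    φ = ψ := by
  rw [← sub_eq_zero]
  haveI : Mono (kernel.ι (φ - ψ)) := inferInstance
  haveI : IsIso (kernel.ι (φ - ψ)) := isIso_of_stalks _ fun x => by
    rw [← kernelComparison_comp_ι]
    haveI : IsIso (kernel.ι ((EtModW.stalk Λ (sepPoint X x)).map (φ - ψ))) := by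
      have h0 : (EtModW.stalk Λ (sepPoint X x)).map (φ - ψ) = 0 := by
        rw [Functor.map_sub, h x, sub_self]
      exact ⟨kernel.lift _ (𝟙 _) (by rw [h0, comp_zero]),
        (cancel_mono (kernel.ι _)).1 (by rw [Category.assoc, kernel.lift_ι, Category.id_comp, Category.comp_id]),
        kernel.lift_ι _ _ _⟩
    infer_instance
  exact (cancel_epi (kernel.ι (φ - ψ))).mp ((kernel.condition _).trans comp_zero.symm)

/-! ### Stalks of inverse images -/

variable (Λ) (f : X ⟶ Y) {Ω : Type u} [Field Ω] [IsSepClosed Ω] (ξ : Spec (CommRingCat.of Ω) ⟶ X)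

/-- The stalk of an inverse image. -/
noncomputable def stalkPullIso : EtModW.pull Λ f ⋙ EtModW.stalk Λ ξ ≅ EtModW.stalk Λ (ξ ≫ f) :=
  ((Scheme.pointSmallEtale ξ).sheafFiberComapIso (EtCoh.bc f) (EtCoh.coverPreserving_bc f)
    (ModuleCat.{u + 1} Λ)).symm ≪≫ sheafFiberIsoOfIso (comapPointIso f ξ)

/-- Inverse images of sheaves of modules are exact. -/
instance pull_preservesFiniteLimits : PreservesFiniteLimits (EtModW.pull Λ f) := by
  refine ⟨fun Sh _ _ => ⟨fun {K} => ⟨fun {c} hc => ⟨?_⟩⟩⟩⟩
  let d := limit.isLimit (K ⋙ EtModW.pull Λ f)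
  let φ := d.lift ((EtModW.pull Λ f).mapCone c)
  suffices IsIso φ from d.ofIsoLimit (Cone.ext (asIso φ) (fun j => (d.fac _ j).symm)).symm
  refine isIso_of_stalks φ fun x => ?_
  let ξ := sepPoint X x
  have : PreservesFiniteLimits (EtModW.pull Λ f ⋙ EtModW.stalk Λ ξ) :=
    preservesFiniteLimits_of_natIso (stalkPullIso Λ f ξ).symm
  have hc' : IsLimit ((EtModW.stalk Λ ξ).mapCone ((EtModW.pull Λ f).mapCone c)) :=
    isLimitOfPreserves (EtModW.pull Λ f ⋙ EtModW.stalk Λ ξ) hc
  have hd' := isLimitOfPreserves (EtModW.stalk Λ ξ) d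
  have : (EtModW.stalk Λ ξ).map φ = (hc'.conePointUniqueUpToIso hd').hom := by
    refine hd'.hom_ext fun j => ?_
    rw [IsLimit.conePointUniqueUpToIso_hom_comp, Functor.mapCone_π_app, ← Functor.map_comp, d.fac]
    rfl
  rw [this]
  infer_instance

instance pull_preservesColimits : PreservesColimitsOfSize.{0, 0} (EtModW.pull Λ f) :=
  (modAdj Λ f).leftAdjoint_preservesColimits

instance pull_preservesFiniteColimits : PreservesFiniteColimits (EtModW.pull Λ f) :=
  PreservesColimitsOfSize.preservesFiniteColimits _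

instance pull_additive : (EtModW.pull Λ f).Additive :=
  Functor.additive_of_preserves_binary_products _

/-- The element of the composite fibre under a fibre element of a base change. -/
noncomputable abbrev downPt {V : Y.Etale} (y : (Scheme.pointSmallEtale ξ).fiber.obj ((EtCoh.bc f).obj V)) :
    (Scheme.pointSmallEtale (ξ ≫ f)).fiber.obj V :=
  (bcFiberIso f ξ).hom.app V y

theorem downPt_left {V : Y.Etale} (y : (Scheme.pointSmallEtale ξ).fiber.obj ((EtCoh.bc f).obj V)) :
    (downPt f ξ y).left = y.left ≫ pullback.fst V.hom f := by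
  simp [downPt, bcFiberIso]
  rfl

/-- The germ of a pulled back section. -/
theorem germ_unit {G : EtModW.Mod Λ Y} (V : Y.Etale)
    (y : (Scheme.pointSmallEtale ξ).fiber.obj ((EtCoh.bc f).obj V)) :
    ((modAdj Λ f).unit.app G).hom.app (op V) ≫
        (Scheme.pointSmallEtale ξ).toPresheafFiber ((EtCoh.bc f).obj V) y ((EtModW.pull Λ f).obj G).obj ≫
        (stalkPullIso Λ f ξ).hom.app G =
      (Scheme.pointSmallEtale (ξ ≫ f)).toPresheafFiber V (downPt f ξ y) G.obj := by
  let Φ := Scheme.pointSmallEtale ξ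
  let Φc := Φ.comap (EtCoh.bc f) (EtCoh.coverPreserving_bc f)
  let c := Φ.sheafFiberComapIso (EtCoh.bc f) (EtCoh.coverPreserving_bc f) (ModuleCat.{u + 1} Λ)
  let η := (modAdj Λ f).unit.app G
  have h1 : Φc.sheafFiber.map η ≫
      pushFiberMap Φ (EtCoh.bc f) (EtCoh.coverPreserving_bc f) (ModuleCat.{u + 1} Λ) ((EtModW.pull Λ f).obj G) =
        c.hom.app G := by
    rw [pushFiberMap]
    refine (Category.assoc _ _ _).symm.trans ?_
    refine (congrArg (· ≫ _) (c.hom.naturality η)).trans ?_
    refine (Category.assoc _ _ _).trans ?_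
    refine (congrArg (c.hom.app G ≫ ·) ((Functor.map_comp Φ.sheafFiber _ _).symm.trans
      (congrArg Φ.sheafFiber.map ((modAdj Λ f).left_triangle_components G)))).trans ?_
    rw [CategoryTheory.Functor.map_id]
    exact Category.comp_id _
  have h2 : Φc.toPresheafFiber V y G.obj ≫ c.hom.app G =
      η.hom.app (op V) ≫ Φ.toPresheafFiber ((EtCoh.bc f).obj V) y ((EtModW.pull Λ f).obj G).obj := by
    rw [← h1, ← toPresheafFiber_pushFiberMap Φ (EtCoh.bc f) (EtCoh.coverPreserving_bc f)
      (ModuleCat.{u + 1} Λ) ((EtModW.pull Λ f).obj G) V y]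
    refine (Category.assoc _ _ _).symm.trans ?_
    refine (congrArg (· ≫ _) (Φc.toPresheafFiber_naturality η.hom V y)).trans ?_
    exact Category.assoc _ _ _
  refine (Category.assoc _ _ _).symm.trans ?_
  rw [← h2]
  refine (Category.assoc _ _ _).trans ?_
  have h3 : c.hom.app G ≫ (stalkPullIso Λ f ξ).hom.app G =
      (sheafFiberIsoOfIso (comapPointIso f ξ)).hom.app G := by
    simp only [stalkPullIso, Iso.trans_hom, Iso.symm_hom, NatTrans.comp_app]
    exact (Category.assoc _ _ _).symm.trans ((congrArg (· ≫ _) (c.hom_inv_id_app G)).trans (Category.id_comp _))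
  rw [h3]
  show _ ≫ (comapPointIso f ξ).inv.presheafFiber.app G.obj = _
  exact GrothendieckTopology.Point.toPresheafFiber_presheafFiberDesc (A := ModuleCat.{u + 1} Λ) _ _ _ _ _

end Groth.Agent.Et18.Mod
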