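import Groth.Agent.Et18.Mod.Tensor

/-!
# Naturality of the stalk and inverse image formulas for tensor products
-/

universe u

open CategoryTheory CategoryTheory.Limits AlgebraicGeometry Opposite MonoidalCategory

set_option backward.isDefEq.respectTransparency.types false
set_option backward.isDefEq.respectTransparency false

namespace Groth.Agent.Et18.Mod

variable {Λ : Type (u + 1)} [CommRing Λ] {X Y : Scheme.{u}}

lemma tensUnit_nat₁ {F F' : EtModW.Mod Λ X} (a : F ⟶ F') (G : EtModW.Mod Λ X) :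
    (a.hom ▷ G.obj) ≫ tensUnit F' G = tensUnit F G ≫ (((EtModD.tensorBi Λ X).map a).app G).hom :=
  toSheafify_naturality X.smallEtaleTopology (a.hom ▷ G.obj)

lemma tensUnit_nat₂ (F : EtModW.Mod Λ X) {G G' : EtModW.Mod Λ X} (b : G ⟶ G') :
    (F.obj ◁ b.hom) ≫ tensUnit F G' = tensUnit F G ≫ (((EtModD.tensorBi Λ X).obj F).map b).hom :=
  toSheafify_naturality X.smallEtaleTopology (F.obj ◁ b.hom)

section Stalk

variable {Ω : Type u} [Field Ω] [IsSepClosed Ω] (ξ : Spec (CommRingCat.of Ω) ⟶ X)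

lemma tensStalk_nat₁ {F F' : EtModW.Mod Λ X} (a : F ⟶ F') (G : EtModW.Mod Λ X) :
    ((EtModW.stalk Λ ξ).map a ▷ (EtModW.stalk Λ ξ).obj G) ≫ tensStalk ξ F' G =
      tensStalk ξ F G ≫ (EtModW.stalk Λ ξ).map (((EtModD.tensorBi Λ X).map a).app G) := by
  let Φ := (Scheme.pointSmallEtale ξ).presheafFiber (A := ModuleCat.{u + 1} Λ)
  refine (Category.assoc _ _ _).symm.trans ?_
  refine (congrArg (· ≫ _) (Functor.LaxMonoidal.μ_natural_left Φ a.hom G.obj)).trans ?_
  refine (Category.assoc _ _ _).trans ?_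
  refine Eq.trans ?_ (Category.assoc _ _ _).symm
  refine congrArg (fun t => Functor.LaxMonoidal.μ Φ F.obj G.obj ≫ t) ?_
  exact ((Φ.map_comp _ _).symm.trans (congrArg Φ.map (tensUnit_nat₁ a G))).trans (Φ.map_comp _ _)

lemma tensStalk_nat₂ (F : EtModW.Mod Λ X) {G G' : EtModW.Mod Λ X} (b : G ⟶ G') :
    ((EtModW.stalk Λ ξ).obj F ◁ (EtModW.stalk Λ ξ).map b) ≫ tensStalk ξ F G' =
      tensStalk ξ F G ≫ (EtModW.stalk Λ ξ).map (((EtModD.tensorBi Λ X).obj F).map b) := by
  let Φ := (Scheme.pointSmallEtale ξ).presheafFiber (A := ModuleCat.{u + 1} Λ)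
  refine (Category.assoc _ _ _).symm.trans ?_
  refine (congrArg (· ≫ _) (Functor.LaxMonoidal.μ_natural_right Φ F.obj b.hom)).trans ?_
  refine (Category.assoc _ _ _).trans ?_
  refine Eq.trans ?_ (Category.assoc _ _ _).symm
  refine congrArg (fun t => Functor.LaxMonoidal.μ Φ F.obj G.obj ≫ t) ?_
  exact ((Φ.map_comp _ _).symm.trans (congrArg Φ.map (tensUnit_nat₂ F b))).trans (Φ.map_comp _ _)

lemma stalkTens_nat₁ {F F' : EtModW.Mod Λ X} (a : F ⟶ F') (G : EtModW.Mod Λ X) :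
    (EtModW.stalk Λ ξ).map (((EtModD.tensorBi Λ X).map a).app G) ≫ (tensStalkIso ξ F' G).inv =
      (tensStalkIso ξ F G).inv ≫ ((EtModW.stalk Λ ξ).map a ▷ (EtModW.stalk Λ ξ).obj G) := by
  rw [Iso.comp_inv_eq, Category.assoc, Iso.eq_inv_comp]
  exact (tensStalk_nat₁ ξ a G).symm

lemma stalkTens_nat₂ (F : EtModW.Mod Λ X) {G G' : EtModW.Mod Λ X} (b : G ⟶ G') :
    (EtModW.stalk Λ ξ).map (((EtModD.tensorBi Λ X).obj F).map b) ≫ (tensStalkIso ξ F G').inv =
      (tensStalkIso ξ F G).inv ≫ ((EtModW.stalk Λ ξ).obj F ◁ (EtModW.stalk Λ ξ).map b) := by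
  rw [Iso.comp_inv_eq, Category.assoc, Iso.eq_inv_comp]
  exact (tensStalk_nat₂ ξ F b).symm

end Stalk

section Pull

variable (f : X ⟶ Y)

lemma homEquiv_pullTensHom (F G : EtModW.Mod Λ Y) :
    (((modAdj Λ f).homEquiv _ _) (pullTensHom f F G)).hom =
      sheafifyLift Y.smallEtaleTopology (pullTensPre f F G) ((EtModW.push Λ f).obj _).2 := by
  rw [pullTensHom, Equiv.apply_symm_apply]

lemma pullTensPre_nat₁ {F F' : EtModW.Mod Λ Y} (a : F ⟶ F') (G : EtModW.Mod Λ Y) :
    (a.hom ▷ G.obj) ≫ pullTensPre f F' G = pullTensPre f F G ≫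
      ((EtModW.push Λ f).map
        (((EtModD.tensorBi Λ X).map ((EtModW.pull Λ f).map a)).app ((EtModW.pull Λ f).obj G))).hom := by
  refine NatTrans.ext (funext fun V => ?_)
  let V' := op ((EtCoh.bc f).obj V.unop)
  let ηF := ((modAdj Λ f).unit.app F).hom.app V
  let ηF' := ((modAdj Λ f).unit.app F').hom.app V
  let ηG := ((modAdj Λ f).unit.app G).hom.app V
  have hn : a.hom.app V ≫ ηF' = ηF ≫ ((EtModW.pull Λ f).map a).hom.app V' :=
    congrArg (fun t => t.hom.app V) ((modAdj Λ f).unit.naturality a)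
  have hu := congrArg (fun t => t.app V')
    (tensUnit_nat₁ ((EtModW.pull Λ f).map a) ((EtModW.pull Λ f).obj G))
  have key : (a.hom.app V ▷ G.obj.obj V) ≫ (ηF' ⊗ₘ ηG) =
      (ηF ⊗ₘ ηG) ≫ (((EtModW.pull Λ f).map a).hom.app V' ▷ _) := by
    rw [← tensorHom_id, ← tensorHom_id, tensorHom_comp_tensorHom, tensorHom_comp_tensorHom, hn,
      Category.id_comp, Category.comp_id]
  refine ((Category.assoc _ _ _).symm.trans ((congrArg (fun t => t ≫
    (tensUnit ((EtModW.pull Λ f).obj F') ((EtModW.pull Λ f).obj G)).app V') key).trans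
      (Category.assoc _ _ _))).trans ?_
  exact (congrArg (fun t => (ηF ⊗ₘ ηG) ≫ t) hu).trans (Category.assoc _ _ _).symm

lemma pullTensPre_nat₂ (F : EtModW.Mod Λ Y) {G G' : EtModW.Mod Λ Y} (b : G ⟶ G') :
    (F.obj ◁ b.hom) ≫ pullTensPre f F G' = pullTensPre f F G ≫
      ((EtModW.push Λ f).map
        (((EtModD.tensorBi Λ X).obj ((EtModW.pull Λ f).obj F)).map ((EtModW.pull Λ f).map b))).hom := by
  refine NatTrans.ext (funext fun V => ?_)
  let V' := op ((EtCoh.bc f).obj V.unop)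
  let ηF := ((modAdj Λ f).unit.app F).hom.app V
  let ηG := ((modAdj Λ f).unit.app G).hom.app V
  let ηG' := ((modAdj Λ f).unit.app G').hom.app V
  have hn : b.hom.app V ≫ ηG' = ηG ≫ ((EtModW.pull Λ f).map b).hom.app V' :=
    congrArg (fun t => t.hom.app V) ((modAdj Λ f).unit.naturality b)
  have hu := congrArg (fun t => t.app V')
    (tensUnit_nat₂ ((EtModW.pull Λ f).obj F) ((EtModW.pull Λ f).map b))
  have key : (F.obj.obj V ◁ b.hom.app V) ≫ (ηF ⊗ₘ ηG') =
      (ηF ⊗ₘ ηG) ≫ (_ ◁ ((EtModW.pull Λ f).map b).hom.app V') := by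
    rw [← id_tensorHom, ← id_tensorHom, tensorHom_comp_tensorHom, tensorHom_comp_tensorHom, hn,
      Category.id_comp, Category.comp_id]
  refine ((Category.assoc _ _ _).symm.trans ((congrArg (fun t => t ≫
    (tensUnit ((EtModW.pull Λ f).obj F) ((EtModW.pull Λ f).obj G')).app V') key).trans
      (Category.assoc _ _ _))).trans ?_
  exact (congrArg (fun t => (ηF ⊗ₘ ηG) ≫ t) hu).trans (Category.assoc _ _ _).symm

lemma pullTensHom_nat₁ {F F' : EtModW.Mod Λ Y} (a : F ⟶ F') (G : EtModW.Mod Λ Y) :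
    (EtModW.pull Λ f).map (((EtModD.tensorBi Λ Y).map a).app G) ≫ pullTensHom f F' G =
      pullTensHom f F G ≫
        ((EtModD.tensorBi Λ X).map ((EtModW.pull Λ f).map a)).app ((EtModW.pull Λ f).obj G) := by
  apply ((modAdj Λ f).homEquiv _ _).injective
  rw [Adjunction.homEquiv_naturality_left, Adjunction.homEquiv_naturality_right]
  refine Sheaf.hom_ext ?_
  apply sheafify_hom_ext _ _ _ ((EtModW.push Λ f).obj _).2
  refine (((Category.assoc _ _ _).symm.trans (congrArg (· ≫ _) (tensUnit_nat₁ a G).symm)).trans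
    (Category.assoc _ _ _)).trans ?_
  refine Eq.trans ?_ (Category.assoc _ _ _)
  rw [homEquiv_pullTensHom, homEquiv_pullTensHom]
  refine ((congrArg (fun t => _ ≫ t) (toSheafify_sheafifyLift _ _ _)).trans (pullTensPre_nat₁ f a G)).trans ?_
  exact congrArg (fun t => t ≫ _) (toSheafify_sheafifyLift _ _ _).symm

lemma pullTensHom_nat₂ (F : EtModW.Mod Λ Y) {G G' : EtModW.Mod Λ Y} (b : G ⟶ G') :
    (EtModW.pull Λ f).map (((EtModD.tensorBi Λ Y).obj F).map b) ≫ pullTensHom f F G' =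
      pullTensHom f F G ≫
        ((EtModD.tensorBi Λ X).obj ((EtModW.pull Λ f).obj F)).map ((EtModW.pull Λ f).map b) := by
  apply ((modAdj Λ f).homEquiv _ _).injective
  rw [Adjunction.homEquiv_naturality_left, Adjunction.homEquiv_naturality_right]
  refine Sheaf.hom_ext ?_
  apply sheafify_hom_ext _ _ _ ((EtModW.push Λ f).obj _).2
  refine (((Category.assoc _ _ _).symm.trans (congrArg (· ≫ _) (tensUnit_nat₂ F b).symm)).trans
    (Category.assoc _ _ _)).trans ?_
  refine Eq.trans ?_ (Category.assoc _ _ _)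
  rw [homEquiv_pullTensHom, homEquiv_pullTensHom]
  refine ((congrArg (fun t => _ ≫ t) (toSheafify_sheafifyLift _ _ _)).trans (pullTensPre_nat₂ f F b)).trans ?_
  exact congrArg (fun t => t ≫ _) (toSheafify_sheafifyLift _ _ _).symm

end Pull

end Groth.Agent.Et18.Mod
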